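import Mathlib.Tactic

/-!
The arithmetic of the parameters when the kernel is semiregular on the second suborbit.
-/

set_option autoImplicit false

namespace CfsgLib.FrobSuborbit.Arith

theorem dvd_twelve {ℓ g : ℤ} (h2 : 2 ≤ ℓ) (hev : Even ℓ) (h : (ℓ + 2) * g = 4 * (2 * ℓ + 1)) :
    ℓ = 2 ∨ ℓ = 4 ∨ ℓ = 10 := by
  have hd : (ℓ + 2) ∣ 12 := ⟨8 - g, by linarith⟩
  have hle : ℓ + 2 ≤ 12 := Int.le_of_dvd (by norm_num) hd
  obtain ⟨c, hc⟩ := hev
  have hle' : ℓ ≤ 10 := by omega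
  interval_cases ℓ <;> omega

theorem t_le_six {t ℓ q1 q2 : ℕ} (ht : 2 ≤ t) (hℓ : 2 ≤ ℓ)
    (heq : (t + 2) * (q1 + t * q2) = (1 + t) * 2 * (t * ℓ))
    (hd1 : 3 * (t * ℓ) < 4 * q1 → q1 = t * ℓ) (hd2 : 3 * ℓ < 4 * q2 → q2 = ℓ) : t ≤ 6 := by
  have hpos : 0 < t * ℓ := Nat.mul_pos (by omega) (by omega)
  by_cases h1 : 3 * (t * ℓ) < 4 * q1
  · have e1 := hd1 h1
    subst e1
    have h2 : t * ((t + 2) * q2) = t * (t * ℓ) := by linarith
    have h3 : (t + 2) * q2 = t * ℓ := Nat.eq_of_mul_eq_mul_left (by omega : 0 < t) h2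
    have h4 : 4 * q2 ≤ 3 * ℓ := by
      by_contra h'
      have e2 := hd2 (by omega)
      subst e2
      linarith
    have h5 : (t + 2) * (4 * q2) ≤ (t + 2) * (3 * ℓ) := Nat.mul_le_mul_left _ h4
    have h6 : t * ℓ ≤ 6 * ℓ := by linarith
    exact Nat.le_of_mul_le_mul_right h6 (by omega)
  · push Not at h1
    have h5 : (t + 2) * (4 * q1) ≤ (t + 2) * (3 * (t * ℓ)) := Nat.mul_le_mul_left _ h1
    by_cases h4 : 3 * ℓ < 4 * q2
    · have e2 := hd2 h4
      subst e2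
      have h6 : t * (t * q2) ≤ 6 * (t * q2) := by linarith
      exact Nat.le_of_mul_le_mul_right h6 hpos
    · push Not at h4
      have h7 : (t + 2) * (t * (4 * q2)) ≤ (t + 2) * (t * (3 * ℓ)) :=
        Nat.mul_le_mul_left _ (Nat.mul_le_mul_left _ h4)
      have h6 : (2 * t) * (t * ℓ) ≤ 4 * (t * ℓ) := by linarith
      have := Nat.le_of_mul_le_mul_right h6 hpos
      omega

theorem lt_of_sq {a b : ℤ} (hb : 0 ≤ b) (h : a ^ 2 < b ^ 2) : a < b :=
  lt_of_pow_lt_pow_left₀ 2 hb h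

theorem disc_two_one {l w : ℤ} (hl : 2 ≤ l) (hev : Even l) (hw : 0 < w)
    (h : w ^ 2 = l ^ 2 + 12 * l + 4) : False := by
  obtain ⟨c, hc⟩ := hev
  have h1 : w < l + 6 := lt_of_sq (by linarith) (by ring_nf at h ⊢; linarith)
  have h2 : l + 2 < w := lt_of_sq hw.le (by ring_nf at h ⊢; linarith)
  rcases (show w = l + 3 ∨ w = l + 4 ∨ w = l + 5 by omega) with e | e | e <;>
    (rw [e] at h; ring_nf at h; omega)

theorem disc_four_one {l w : ℤ} (hl : 2 ≤ l) (hev : Even l) (hw : 0 < w)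
    (h : w ^ 2 = 9 * l ^ 2 + 28 * l + 4) : False := by
  obtain ⟨c, hc⟩ := hev
  have h1 : w < 3 * l + 5 := lt_of_sq (by linarith) (by ring_nf at h ⊢; linarith)
  have h2 : 3 * l + 3 < w := lt_of_sq hw.le (by ring_nf at h ⊢; linarith)
  rw [show w = 3 * l + 4 by omega] at h
  ring_nf at h; omega

theorem disc_six_one {l w : ℤ} (hl : 2 ≤ l) (hev : Even l) (hw : 0 < w)
    (h : w ^ 2 = 25 * l ^ 2 + 44 * l + 4) : False := by
  obtain ⟨c, hc⟩ := hev
  have h1 : w < 5 * l + 5 := lt_of_sq (by linarith) (by ring_nf at h ⊢; linarith)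
  have h2 : 5 * l + 3 < w := lt_of_sq hw.le (by ring_nf at h ⊢; linarith)
  rw [show w = 5 * l + 4 by omega] at h
  ring_nf at h; omega

theorem disc_four_two {l w : ℤ} (hl : 2 ≤ l) (hev : Even l) (hw : 0 < w)
    (h : w ^ 2 = 4 * l ^ 2 + 24 * l + 4) : False := by
  obtain ⟨c, hc⟩ := hev
  have h1 : w < 2 * l + 6 := lt_of_sq (by linarith) (by ring_nf at h ⊢; linarith)
  have h2 : 2 * l + 4 < w := lt_of_sq hw.le (by ring_nf at h ⊢; linarith)
  rw [show w = 2 * l + 5 by omega] at h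
  ring_nf at h; omega

theorem disc_six_two {l w : ℤ} (hl : 2 ≤ l) (hev : Even l) (hw : 0 < w)
    (h : w ^ 2 = 4 * l ^ 2 + 40 * l + 4) : l = 2 ∧ w = 10 := by
  obtain ⟨c, hc⟩ := hev
  have h1 : w < 2 * l + 10 := lt_of_sq (by linarith) (by ring_nf at h ⊢; linarith)
  have h2 : 2 * l + 3 < w := lt_of_sq hw.le (by ring_nf at h ⊢; linarith)
  rcases (show w = 2 * l + 4 ∨ w = 2 * l + 5 ∨ w = 2 * l + 6 ∨ w = 2 * l + 7 ∨ w = 2 * l + 8 ∨
    w = 2 * l + 9 by omega) with e | e | e | e | e | e <;>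
    (rw [e] at h; ring_nf at h; omega)

theorem case_two {t ℓ h k e m lam mu q1 q2 f g v v' : ℕ} {r s : ℤ}
    (ht : 2 ≤ t) (htev : Even t) (hℓ : 2 ≤ ℓ) (hℓev : Even ℓ) (hh : h = t * ℓ)
    (hk : k = e * h + 1) (he : e = 2) (hm : 1 ≤ m) (hlam : k = 1 + lam + h * m) (hmu : mu = ℓ * m)
    (heq : (t + 2) * (q1 + t * q2) = (1 + t) * e * h) (hq1 : q1 ≤ h) (hq2 : q2 ≤ ℓ)
    (hd1 : 3 * h < 4 * q1 → q1 = h) (hd2 : 3 * ℓ < 4 * q2 → q2 = ℓ)
    (hsum : r + s = (lam : ℤ) - mu) (hprod : r * s = (mu : ℤ) - k) (hsr : s < r)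
    (hfg : f + g = k + k * t) (hev : (k : ℤ) + r * f + s * g = 0)
    (hvv : v + v' = 1 + t) (hvev : (k : ℤ) + r * v + s * v' = ((t + 2) * q1 : ℕ)) : False := by
  subst hh
  subst he
  have ht6 := t_le_six ht hℓ heq hd1 hd2
  have hhpos : 0 < t * ℓ := Nat.mul_pos (by omega) (by omega)
  have hm2 : m = 1 ∨ m = 2 := by
    by_contra hne
    have : t * ℓ * 3 ≤ t * ℓ * m := Nat.mul_le_mul_left _ (by omega)
    omega
  have hl2 : (2 : ℤ) ≤ ℓ := by exact_mod_cast hℓ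
  have hlev : Even (ℓ : ℤ) := by exact_mod_cast hℓev
  have hw0 : 0 < r - s := by linarith
  have hw2 : (r - s) ^ 2 = ((lam : ℤ) - mu) ^ 2 + 4 * ((k : ℤ) - mu) := by
    rw [← hsum]
    linear_combination (-4 : ℤ) * hprod
  have htc : t = 2 ∨ t = 4 ∨ t = 6 := by obtain ⟨d, hd⟩ := htev; omega
  rcases hm2 with hm' | hm' <;> subst hm'
  · have hlam' : lam = t * ℓ := by omega
    rcases htc with e | e | e <;> subst e <;> subst hlam' <;> subst hk <;>
      rw [hmu] at hw2 <;> push_cast at hw2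
    · exact disc_two_one hl2 hlev hw0 (by rw [hw2]; ring)
    · exact disc_four_one hl2 hlev hw0 (by rw [hw2]; ring)
    · exact disc_six_one hl2 hlev hw0 (by rw [hw2]; ring)
  · have hlam' : lam = 0 := by omega
    subst hlam'
    rw [hmu] at hw2 hsum
    rcases htc with e | e | e <;> subst e <;> subst hk <;> push_cast at hw2
    · have h1 : r - s = 2 * (ℓ : ℤ) + 2 := by
        have h0 : (r - s - (2 * ℓ + 2)) * (r - s + (2 * ℓ + 2)) = 0 := by linear_combination hw2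
        rcases mul_eq_zero.1 h0 with e | e <;> omega
      push_cast at hsum
      have hr : r = 1 := by omega
      have hs : s = -(2 * ℓ + 1) := by omega
      subst hr; subst hs
      push_cast at hev hvev
      have hfg' : (f : ℤ) + g = 3 * (2 * (2 * ℓ) + 1) := by
        have : ((f + g : ℕ) : ℤ) = ((2 * (2 * ℓ) + 1 + (2 * (2 * ℓ) + 1) * 2 : ℕ) : ℤ) := by
          exact_mod_cast hfg
        push_cast at this; linarith
      have hdvd : ((ℓ : ℤ) + 1) ∣ 6 := ⟨8 - g, by linarith⟩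
      have hle : (ℓ : ℤ) + 1 ≤ 6 := Int.le_of_dvd (by norm_num) hdvd
      obtain ⟨c, hc⟩ := hℓev
      have : ℓ = 2 ∨ ℓ = 4 := by omega
      rcases this with e | e <;> subst e <;> omega
    · exact disc_four_two hl2 hlev hw0 (by rw [hw2]; ring)
    · obtain ⟨e1, e2⟩ := disc_six_two hl2 hlev hw0 (by rw [hw2]; ring)
      have hl' : ℓ = 2 := by exact_mod_cast e1
      subst hl'
      push_cast at hsum hvev
      have hr : r = 3 := by omega
      have hs : s = -7 := by omega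
      subst hr; subst hs
      omega

theorem t_le_thirteen {t : ℕ} {l : ℤ} (hlt : (t : ℤ) + 2 ≤ 2 * l)
    (hmain : ((t : ℤ) - 6) * (t * l) ≤ 4 + 4 * (1 + t) * (t - 2)) : t ≤ 13 := by
  by_contra hgt
  have h14 : (14 : ℤ) ≤ t := by exact_mod_cast (Nat.lt_of_not_le hgt)
  have h1 := mul_le_mul_of_nonneg_left hlt
    (show (0 : ℤ) ≤ ((t : ℤ) - 6) * t from mul_nonneg (by linarith) (by linarith))
  have h2 := mul_le_mul_of_nonneg_left h14 (show (0 : ℤ) ≤ (t : ℤ) * t from mul_self_nonneg _)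
  have h3 := mul_le_mul_of_nonneg_left h14 (show (0 : ℤ) ≤ (t : ℤ) by linarith)
  linarith

theorem small_t {t ℓ q1 q2 v v' : ℕ} {r : ℤ} (ht : 4 ≤ t ∧ t ≤ 13) (htev : Even t)
    (hℓev : Even ℓ) (hr1 : 2 ≤ r) (hrt : r ≤ (t : ℤ) - 2)
    (hrel : (ℓ : ℤ) * (t - 1 - r) = r ^ 2 - 1)
    (h2 : ((t : ℤ) + 2) * (q1 + t * q2) = (1 + t) * (t * ℓ)) (hq1 : q1 ≤ t * ℓ)
    (hq2 : 4 * q2 ≤ 3 * ℓ)
    (hlow : ((t : ℤ) - 2) * (t * ℓ) ≤ 4 * (((t : ℤ) + 2) * q1))
    (hup : ((t : ℤ) + 2) * q1 ≤ (t * ℓ + 1) + r * (1 + t))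
    (hvv : (v : ℤ) + v' = 1 + t)
    (hvev : (t * ℓ : ℤ) + 1 + r * v + -(r + ℓ) * v' = ((t : ℤ) + 2) * q1) : False := by
  obtain ⟨d, hd⟩ := htev
  obtain ⟨c, hc⟩ := hℓev
  have htc : t = 4 ∨ t = 6 ∨ t = 8 ∨ t = 10 ∨ t = 12 := by omega
  rcases htc with e | e | e | e | e <;> subst e <;> push_cast at * <;>
    interval_cases r <;> norm_num at * <;> first
      | omega
      | (have hl : ℓ = 4 := by omega
         subst hl; norm_num at *; omega)

theorem case_one {t ℓ h k e m lam mu q1 q2 f g v v' : ℕ} {r s : ℤ}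
    (ht : 2 ≤ t) (htev : Even t) (hℓ : 2 ≤ ℓ) (hℓev : Even ℓ) (hh : h = t * ℓ)
    (hk : k = e * h + 1) (he : e = 1) (hm : 1 ≤ m) (hlam : k = 1 + lam + h * m) (hmu : mu = ℓ * m)
    (heq : (t + 2) * (q1 + t * q2) = (1 + t) * e * h) (hq1 : q1 ≤ h) (hq2 : q2 ≤ ℓ)
    (hd2 : 3 * ℓ < 4 * q2 → q2 = ℓ)
    (hsm : (ℓ = 4 ∨ ℓ = 10) → ℓ < 2 * q2 → q2 = ℓ)
    (hsum : r + s = (lam : ℤ) - mu) (hprod : r * s = (mu : ℤ) - k) (hsr : s < r)
    (hfg : f + g = k + k * t) (hev : (k : ℤ) + r * f + s * g = 0)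
    (hvv : v + v' = 1 + t) (hvev : (k : ℤ) + r * v + s * v' = ((t + 2) * q1 : ℕ)) :
    t = 2 ∧ ℓ = 2 := by
  subst hh
  subst he
  subst hk
  have hhpos : 0 < t * ℓ := Nat.mul_pos (by omega) (by omega)
  have hm' : m = 1 := by
    by_contra hne
    have : t * ℓ * 2 ≤ t * ℓ * m := Nat.mul_le_mul_left _ (by omega)
    omega
  subst hm'
  have hlam' : lam = 0 := by omega
  subst hlam'
  simp only [mul_one] at hmu
  rw [hmu] at hsum hprod
  clear hmu
  push_cast at hsum hprod hev hvev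
  have hs : s = -(r + ℓ) := by omega
  subst hs
  -- `r (r + ℓ) = (t - 1) ℓ + 1`
  have hr2 : r * (r + ℓ) = ((t : ℤ) - 1) * ℓ + 1 := by linear_combination -hprod
  have htl : (2 : ℤ) ≤ t := by exact_mod_cast ht
  have hll : (2 : ℤ) ≤ ℓ := by exact_mod_cast hℓ
  have hr0 : 0 < r := by
    by_contra hle
    push Not at hle
    have h1 : 0 ≤ r + ℓ := by omega
    nlinarith
  have hrel : (ℓ : ℤ) * (t - 1 - r) = r ^ 2 - 1 := by linear_combination -hr2
  rcases (show t = 2 ∨ 4 ≤ t by obtain ⟨d, hd⟩ := htev; omega) with ht' | ht'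
  · subst ht'
    have hr : r = 1 := by
      by_contra hne
      have h2 : 2 ≤ r := by omega
      push_cast at hrel
      nlinarith
    subst hr
    refine ⟨rfl, ?_⟩
    have hfg' : (f : ℤ) + g = 3 * (2 * ℓ + 1) := by
      have : ((f + g : ℕ) : ℤ) = ((1 * (2 * ℓ) + 1 + (1 * (2 * ℓ) + 1) * 2 : ℕ) : ℤ) := by
        exact_mod_cast hfg
      push_cast at this; linarith
    have hg : ((ℓ : ℤ) + 2) * g = 4 * (2 * ℓ + 1) := by push_cast at hev; nlinarith
    rcases dvd_twelve (by exact_mod_cast hℓ) (by exact_mod_cast hℓev) hg with e | e | e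
    · exact_mod_cast e
    · have hl : ℓ = 4 := by exact_mod_cast e
      subst hl
      have := hsm (Or.inl rfl)
      omega
    · have hl : ℓ = 10 := by exact_mod_cast e
      subst hl
      have := hsm (Or.inr rfl)
      omega
  · exfalso
    have htl4 : (4 : ℤ) ≤ t := by exact_mod_cast ht'
    have hr1 : 2 ≤ r := by
      by_contra hle
      have : r = 1 := by omega
      subst this
      nlinarith
    have hrt : r ≤ (t : ℤ) - 2 := by
      by_contra hgt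
      push Not at hgt
      nlinarith
    have hq2' : 4 * q2 ≤ 3 * ℓ := by
      by_contra hgt
      have e := hd2 (by omega)
      subst e
      nlinarith
    have hnn : (0 : ℤ) ≤ v := Int.natCast_nonneg v
    have hvv' : (v : ℤ) + v' = 1 + t := by exact_mod_cast hvv
    have hup : ((t : ℤ) + 2) * q1 ≤ (t * ℓ + 1) + r * (1 + t) := by
      have h1 : 0 ≤ (r + ℓ + r) * (v' : ℤ) :=
        mul_nonneg (by omega) (Int.natCast_nonneg v')
      have h2 : r * ((v : ℤ) + v') = r * (1 + t) := by rw [hvv']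
      push_cast at hvev
      linarith
    have h2 : ((t : ℤ) + 2) * (q1 + t * q2) = (1 + t) * (t * ℓ) := by
      have : (((t + 2) * (q1 + t * q2) : ℕ) : ℤ) = (((1 + t) * 1 * (t * ℓ) : ℕ) : ℤ) := by
        exact_mod_cast heq
      push_cast at this; linarith
    have hlow : ((t : ℤ) - 2) * (t * ℓ) ≤ 4 * (((t : ℤ) + 2) * q1) := by
      have h1 : (4 : ℤ) * q2 ≤ 3 * ℓ := by exact_mod_cast hq2'
      have h3 := mul_le_mul_of_nonneg_left h1 (show (0 : ℤ) ≤ (t + 2) * t by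
        exact mul_nonneg (by omega) (by omega))
      linarith
    have hlt : (t : ℤ) + 2 ≤ 2 * ℓ := by
      have h3 : ((t : ℤ) + 2) * ((q1 : ℤ) + t * q2 - (t - 1) * ℓ) = 2 * ℓ := by
        linear_combination h2
      have hp : 0 < (q1 : ℤ) + t * q2 - (t - 1) * ℓ :=
        pos_of_mul_pos_right (by rw [h3]; linarith) (by omega)
      have h4 : ((t : ℤ) + 2) * 1 ≤ ((t : ℤ) + 2) * ((q1 : ℤ) + t * q2 - (t - 1) * ℓ) :=
        mul_le_mul_of_nonneg_left (by omega) (by omega)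
      linarith
    have hmain : ((t : ℤ) - 6) * (t * ℓ) ≤ 4 + 4 * (1 + t) * (t - 2) := by
      have h3 := mul_le_mul_of_nonneg_left hrt (show (0 : ℤ) ≤ 1 + t by omega)
      linarith
    have ht13 := t_le_thirteen hlt hmain
    exact small_t ⟨by omega, ht13⟩ htev hℓev hr1 hrt hrel h2 hq1 hq2' hlow (by linarith) hvv'
      (by push_cast at hvev; linarith)

/-- The parameters are those of the Clebsch graph. -/
theorem main {t ℓ h k e m lam mu q1 q2 f g v v' : ℕ} {r s : ℤ}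
    (ht : 2 ≤ t) (htev : Even t) (hℓ : 2 ≤ ℓ) (hℓev : Even ℓ) (hh : h = t * ℓ)
    (hk : k = e * h + 1) (he : 1 ≤ e) (hm : 1 ≤ m) (hlam : k = 1 + lam + h * m) (hmu : mu = ℓ * m)
    (heq : (t + 2) * (q1 + t * q2) = (1 + t) * e * h) (hq1 : q1 ≤ h) (hq2 : q2 ≤ ℓ)
    (hd1 : 3 * h < 4 * q1 → q1 = h) (hd2 : 3 * ℓ < 4 * q2 → q2 = ℓ)
    (hsm : (ℓ = 4 ∨ ℓ = 10) → ℓ < 2 * q2 → q2 = ℓ)
    (hsum : r + s = (lam : ℤ) - mu) (hprod : r * s = (mu : ℤ) - k) (hsr : s < r)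
    (hfg : f + g = k + k * t) (hev : (k : ℤ) + r * f + s * g = 0)
    (hvv : v + v' = 1 + t) (hvev : (k : ℤ) + r * v + s * v' = ((t + 2) * q1 : ℕ)) :
    t = 2 ∧ ℓ = 2 ∧ e = 1 := by
  have he2 : e ≤ 2 := by
    by_contra hgt
    push Not at hgt
    have h1 : q1 + t * q2 ≤ 2 * h := by
      have : t * q2 ≤ h := by rw [hh]; exact Nat.mul_le_mul_left _ hq2
      omega
    have hpos : 0 < h := by rw [hh]; exact Nat.mul_pos (by omega) (by omega)
    have h2 : (1 + t) * 3 * h ≤ (1 + t) * e * h :=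
      Nat.mul_le_mul_right _ (Nat.mul_le_mul_left _ hgt)
    have h3 : (t + 2) * (q1 + t * q2) ≤ (t + 2) * (2 * h) := Nat.mul_le_mul_left _ h1
    nlinarith
  rcases (show e = 1 ∨ e = 2 by omega) with he' | he'
  · obtain ⟨a, b⟩ := case_one ht htev hℓ hℓev hh hk he' hm hlam hmu heq hq1 hq2 hd2 hsm hsum
      hprod hsr hfg hev hvv hvev
    exact ⟨a, b, he'⟩
  · exact (case_two ht htev hℓ hℓev hh hk he' hm hlam hmu heq hq1 hq2 hd1 hd2 hsum hprod hsr
      hfg hev hvv hvev).elim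

end CfsgLib.FrobSuborbit.Arith
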