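import Cfsg.Agent.Lib.FrobSuborbit.Setup

/-!
Orders, neighbourhoods and the consequences of primitivity for a `Frame`.
-/

set_option autoImplicit false
set_option linter.style.haveILetI false
set_option linter.unusedSectionVars false

open scoped Pointwise
open MulAction

namespace CfsgLib.FrobSuborbit.Frame

variable {G X : Type*} [Group G] [MulAction G X] [Finite G] [Fintype X] (s : Frame G X)

/-- The length of the Frobenius suborbit. -/
noncomputable def k : ℕ := Nat.card s.K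

/-- The order of the complement. -/
noncomputable def h : ℕ := Nat.card s.H

/-- The length of the other suborbit. -/
noncomputable def l : ℕ := Nat.card {y : X // s.Dpt y}

theorem k_pos : 0 < s.k := Nat.card_pos

theorem h_pos : 0 < s.h := Nat.card_pos

theorem l_pos : 0 < s.l :=
  haveI : Nonempty {y : X // s.Dpt y} := ⟨⟨_, s.Dpt_C⟩⟩
  Nat.card_pos

theorem card_Ipt : Nat.card {y : X // s.Ipt y} = s.k := by
  refine (Nat.card_congr (Equiv.ofBijective
    (fun x : s.K => (⟨(x : G) • s.B, (s.Ipt_smul (s.K_le x.2)).2 s.Ipt_B⟩ : {y : X // s.Ipt y}))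
    ⟨?_, ?_⟩)).symm
  · rintro ⟨x, hx⟩ ⟨y, hy⟩ e
    have e' : x • s.B = y • s.B := congrArg Subtype.val e
    exact Subtype.ext (inv_mul_eq_one.1
      (s.K_free _ (mul_mem (inv_mem hx) hy) (by rw [mul_smul, ← e', inv_smul_smul])))
  · rintro ⟨_, a, ha, rfl⟩
    obtain ⟨x, hx, e⟩ := s.K_trans a ha
    exact ⟨⟨x, hx⟩, Subtype.ext e⟩

theorem card_N : Nat.card s.N = s.k * s.h := by
  unfold k h
  rw [← Nat.card_prod]
  refine (Nat.card_congr (Equiv.ofBijective
    (fun p : s.K × s.H => (⟨(p.1 : G) * p.2, s.N.mul_mem (s.K_le p.1.2) p.2.2.1⟩ : s.N))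
    ⟨?_, ?_⟩)).symm
  · rintro ⟨⟨a, ha⟩, ⟨b, hb⟩⟩ ⟨⟨c, hc⟩, ⟨d, hd⟩⟩ e
    have e' : a * b = c * d := congrArg Subtype.val e
    have h1 : c⁻¹ * a = d * b⁻¹ := by
      calc c⁻¹ * a = c⁻¹ * (a * b) * b⁻¹ := by group
        _ = c⁻¹ * (c * d) * b⁻¹ := by rw [e']
        _ = d * b⁻¹ := by group
    have h2 : c⁻¹ * a = 1 := s.K_inf_H (mul_mem (inv_mem hc) ha)
      (h1 ▸ s.H.mul_mem hd (s.H.inv_mem hb))
    have h3 : d * b⁻¹ = 1 := h1 ▸ h2
    exact Prod.ext (Subtype.ext (inv_mul_eq_one.1 h2).symm) (Subtype.ext (mul_inv_eq_one.1 h3).symm)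
  · rintro ⟨g, hg⟩
    obtain ⟨x, hx, η, hη, e⟩ := s.decomp hg
    exact ⟨(⟨x, hx⟩, ⟨η, hη⟩), Subtype.ext e.symm⟩

theorem l_mul_card_L : s.l * Nat.card s.L = s.k * s.h := by
  classical
  rw [← s.card_N]
  have horb : Nat.card (orbit s.N s.C) = s.l :=
    Nat.card_congr (Equiv.subtypeEquivRight fun y =>
      ⟨fun ⟨g, e⟩ => ⟨g, g.2, e⟩, fun ⟨g, hg, e⟩ => ⟨⟨g, hg⟩, e⟩⟩)
  have hst : Nat.card (stabilizer s.N s.C) = Nat.card s.L :=
    Nat.card_congr
      { toFun := fun g => ⟨(g : s.N), g.1.2, g.2⟩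
        invFun := fun g => ⟨⟨g, g.2.1⟩, g.2.2⟩
        left_inv := fun _ => rfl
        right_inv := fun _ => rfl }
  rw [← horb, ← hst]
  haveI := Fintype.ofFinite (orbit s.N s.C)
  rw [Nat.card_congr (orbitEquivQuotientStabilizer s.N s.C), mul_comm, ← Subgroup.index_eq_card,
    Subgroup.card_mul_index]

theorem card_X : Nat.card X = 1 + s.k + s.l := by
  classical
  rw [← s.card_Ipt, l, Nat.card_eq_fintype_card, Nat.card_eq_fintype_card,
    Nat.card_eq_fintype_card, Fintype.card_subtype, Fintype.card_subtype]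
  have h1 : (Finset.univ : Finset X) =
      {s.A} ∪ Finset.univ.filter s.Ipt ∪ Finset.univ.filter s.Dpt := by
    ext y
    simp only [Finset.mem_univ, Finset.mem_union, Finset.mem_singleton, Finset.mem_filter,
      true_and, true_iff]
    rcases s.cover y with h | h | h
    · exact Or.inl (Or.inl h)
    · exact Or.inl (Or.inr h)
    · exact Or.inr h
  conv_lhs => rw [← Finset.card_univ, h1]
  rw [Finset.card_union_of_disjoint, Finset.card_union_of_disjoint,
    Finset.card_singleton]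
  all_goals
    rw [Finset.disjoint_left]
    intro y hy hd
    simp only [Finset.mem_union, Finset.mem_singleton, Finset.mem_filter, Finset.mem_univ,
      true_and] at hy hd
    first
      | (rcases hy with h | h
         · exact Dpt.ne_A s hd h
         · exact s.not_Ipt_Dpt h hd)
      | exact Ipt.ne_A s hd hy

theorem card_G : Nat.card G = Nat.card X * (s.k * s.h) := by
  haveI := s.pretrans
  haveI : Nonempty X := ⟨s.A⟩
  rw [← s.card_N, ← index_stabilizer_of_transitive G s.A, mul_comm, Subgroup.card_mul_index]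

theorem h_dvd : s.h ∣ s.k - 1 := by
  classical
  let T := {y : X // s.Ipt y ∧ y ≠ s.B}
  letI : MulAction s.H T :=
    { smul := fun g y => ⟨(g : G) • (y : X), (s.Ipt_smul g.2.1).2 y.2.1, fun e => y.2.2 (by
        rw [← inv_smul_smul (g : G) (y : X), e, inv_fix (mem_stabilizer_iff.1 g.2.2)])⟩
      one_smul := fun y => Subtype.ext (one_smul G (y : X))
      mul_smul := fun a b y => Subtype.ext (mul_smul (a : G) (b : G) (y : X)) }
  have hT : Nat.card T = s.k - 1 := by
    rw [← s.card_Ipt, Nat.card_eq_fintype_card, Nat.card_eq_fintype_card, Fintype.card_subtype,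
      Fintype.card_subtype, ← Finset.card_erase_of_mem (a := s.B) (by simp [s.Ipt_B])]
    congr 1
    ext y
    simp [and_comm]
  rw [← hT]
  refine card_dvd_of_free fun g y e => ?_
  by_contra h1
  exact y.2.2 (s.H_fix g.2 (fun e' => h1 (Subtype.ext e')) y.2.1 (congrArg Subtype.val e))

theorem two_le_h : 2 ≤ s.h := by
  obtain ⟨g, hg, h1, e⟩ := s.hne
  have : Nontrivial s.H := ⟨⟨⟨g, hg, e⟩, 1, fun e' => h1 (congrArg Subtype.val e')⟩⟩
  exact Finite.one_lt_card

theorem two_le_k : 2 ≤ s.k := by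
  obtain ⟨x, hx, h1⟩ := s.K_ne
  have : Nontrivial s.K := ⟨⟨⟨x, hx⟩, 1, fun e' => h1 (congrArg Subtype.val e')⟩⟩
  exact Finite.one_lt_card

theorem exists_k_eq : ∃ e, 1 ≤ e ∧ s.k = e * s.h + 1 := by
  obtain ⟨e, he⟩ := s.h_dvd
  have := s.two_le_k
  refine ⟨e, ?_, ?_⟩
  · rcases Nat.eq_zero_or_pos e with h | h
    · subst h; omega
    · exact h
  · rw [mul_comm]; omega

theorem coprime : Nat.Coprime s.h s.k := by
  obtain ⟨e, -, he⟩ := s.exists_k_eq
  rw [he, mul_comm, Nat.coprime_mul_left_add_right]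
  exact Nat.coprime_one_right _

theorem mem_K_iff {x : G} : x ∈ s.K ↔ x • s.A = s.A ∧ x ^ s.k = 1 := by
  constructor
  · intro hx
    refine ⟨s.fixA hx, ?_⟩
    have h : (⟨x, hx⟩ : s.K) ^ s.k = 1 := pow_card_eq_one'
    exact congrArg Subtype.val h
  · rintro ⟨h1, h2⟩
    obtain ⟨a, ha, η, hη, rfl⟩ := s.decomp (g := x) h1
    have key : ∀ j : ℕ, ∃ b ∈ s.K, (a * η) ^ j = b * η ^ j := by
      intro j
      induction j with
      | zero => exact ⟨1, one_mem _, by simp⟩
      | succ j ih =>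
        obtain ⟨b, hb, e⟩ := ih
        refine ⟨b * (η ^ j * a * (η ^ j)⁻¹), mul_mem hb
          (s.K_normal _ (s.N.pow_mem hη.1 j) a ha), ?_⟩
        rw [pow_succ, e, pow_succ]
        group
    obtain ⟨b, hb, e⟩ := key s.k
    rw [h2] at e
    have hη1 : η ^ s.k = 1 := by
      have : η ^ s.k = b⁻¹ := by rw [eq_inv_iff_mul_eq_one]; exact mul_eq_one_comm.1 e.symm
      exact s.K_inf_H (this ▸ inv_mem hb) (s.H.pow_mem hη _)
    have h3 : (⟨η, hη⟩ : s.H) ^ s.h = 1 := pow_card_eq_one'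
    have h4 : η ^ s.h = 1 := congrArg Subtype.val h3
    have : η = 1 := pow_gcd_eq_one.2 ⟨h4, hη1⟩ |> fun h => by
      rwa [s.coprime.gcd_eq_one, pow_one] at h
    rw [this, mul_one]
    exact ha

/-- Membership in the kernel of the stabilizer of `P`. -/
def InKer (P : X) (x : G) : Prop := x • P = P ∧ x ^ s.k = 1

theorem inKer_A {x : G} : s.InKer s.A x ↔ x ∈ s.K := s.mem_K_iff.symm

theorem inKer_conj (g : G) {P : X} {x : G} :
    s.InKer (g • P) (g * x * g⁻¹) ↔ s.InKer P x := by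
  unfold InKer
  rw [conj_pow, conj_eq_one_iff, mul_smul, mul_smul, inv_smul_smul, smul_left_cancel_iff]

theorem inKer_of_fix {x : G} {P : X} (hx : x ∈ s.K) (h : x • P = P) : s.InKer P x :=
  ⟨h, (s.mem_K_iff.1 hx).2⟩

/-- Two points fixed by a nontrivial kernel element are not adjacent. -/
theorem not_adj_of_fix {x : G} (h1 : x ≠ 1) {P Q : X} (hx : s.InKer P x) (hQ : x • Q = Q) :
    ¬ s.Adj P Q := by
  obtain ⟨g, rfl⟩ := s.exists_to P
  intro hadj
  have hk : g⁻¹ * x * g ∈ s.K := by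
    rw [← s.inKer_A, ← s.inKer_conj g]
    simpa [mul_assoc] using hx
  have hI : s.Ipt (g⁻¹ • Q) := by
    rw [← s.adj_A, ← s.adj_smul g, smul_inv_smul]; exact hadj
  refine s.K_fix hk (fun e => h1 ?_) hI (by rw [mul_smul, mul_smul, smul_inv_smul, hQ])
  calc x = g * (g⁻¹ * x * g) * g⁻¹ := by group
    _ = 1 := by rw [e]; group

theorem mem_L0_iff {x : G} : x ∈ s.L0 ↔ x • s.A = s.A ∧ x • s.C = s.C ∧ x ^ s.k = 1 := by
  rw [s.mem_L0, s.mem_K_iff]
  tauto

theorem card_nbr (P : X) : Nat.card {Q : X // s.Adj P Q} = s.k := by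
  obtain ⟨g, rfl⟩ := s.exists_to P
  rw [← s.card_Ipt]
  refine Nat.card_congr ((MulAction.toPerm g).subtypeEquiv fun y => ?_).symm
  rw [toPerm_apply, s.adj_smul, s.adj_A]

include s in
/-- A nonempty proper block cannot have two points. -/
theorem block_absurd {S : Set X} (hS : IsBlock G S) {P Q R : X} (hP : P ∈ S) (hQ : Q ∈ S)
    (hPQ : P ≠ Q) (hR : R ∉ S) : False := by
  haveI := s.prim
  rcases hS.subsingleton_or_eq_univ with h | h
  · exact hPQ (h hP hQ)
  · exact hR (h ▸ Set.mem_univ R)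

/-- Equal neighbourhood sets give a block. -/
theorem isBlock_nbr (F : X → Set X) (hF : ∀ (g : G) (P : X), F (g • P) = g • F P) (P₀ : X) :
    IsBlock G {P : X | F P = F P₀} := by
  rw [isBlock_iff_smul_eq_or_disjoint]
  intro g
  have hset : g • {P : X | F P = F P₀} = {P : X | F P = g • F P₀} := by
    ext P
    rw [Set.mem_smul_set_iff_inv_smul_mem, Set.mem_setOf_eq, Set.mem_setOf_eq, hF,
      inv_smul_eq_iff]
  rw [hset]
  rcases eq_or_ne (g • F P₀) (F P₀) with h | h
  · exact Or.inl (by rw [h])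
  · refine Or.inr (Set.disjoint_left.2 fun P h1 h2 => h ?_)
    exact Eq.trans (Eq.symm h1) h2

/-- No nontrivial kernel element fixes the whole second suborbit. -/
theorem no_fix {x : G} (hx : x ∈ s.K) (hfix : ∀ y, s.Dpt y → x • y = y) : x = 1 := by
  classical
  by_contra h1
  have hfix' : ∀ y, ¬ s.Ipt y → x • y = y := fun y hy => by
    rcases eq_or_ne y s.A with h | h
    · rw [h]; exact s.fixA hx
    · exact hfix y (s.Dpt_iff.2 ⟨h, hy⟩)
  have hco : ∀ P Q, ¬ s.Ipt P → ¬ s.Ipt Q → ¬ s.Adj P Q := fun P Q hP hQ =>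
    s.not_adj_of_fix h1 (s.inKer_of_fix hx (hfix' P hP)) (hfix' Q hQ)
  let F : X → Set X := fun P => {Q | s.Adj P Q}
  have hF : ∀ (g : G) (P : X), F (g • P) = g • F P := fun g P => by
    ext Q
    rw [Set.mem_smul_set_iff_inv_smul_mem, Set.mem_setOf_eq, Set.mem_setOf_eq, ← s.adj_smul g⁻¹,
      inv_smul_smul]
  have hsame : ∀ P, ¬ s.Ipt P → F P = F s.A := by
    intro P hP
    refine Set.eq_of_subset_of_ncard_le ?_ ?_
    · intro Q hQ
      by_contra hQ'
      exact hco P Q hP (fun hI => hQ' (s.adj_A.2 hI)) hQ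
    · rw [← Nat.card_coe_set_eq, ← Nat.card_coe_set_eq]
      exact ((s.card_nbr s.A).trans (s.card_nbr P).symm).le
  refine s.block_absurd (isBlock_nbr F hF s.A) (P := s.A) (Q := s.C) (R := s.B) rfl
    (hsame _ s.C_not_Ipt) s.C_ne.symm ?_
  intro hmem
  have h : F s.B = F s.A := hmem
  have : s.A ∈ F s.A := h ▸ (s.adj_A'.2 s.Ipt_B : s.Adj s.B s.A)
  exact s.adj_irrefl _ this

/-- A subgroup of `L0` normal in the stabilizer is trivial. -/
theorem normal_le_L0 {M : Subgroup G} (hM : M ≤ s.L0)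
    (hn : ∀ g ∈ s.N, ∀ x ∈ M, g * x * g⁻¹ ∈ M) : M = ⊥ := by
  rw [eq_bot_iff]
  intro x hx
  refine Subgroup.mem_bot.2 (s.no_fix (hM hx).1 ?_)
  rintro y ⟨g, hg, rfl⟩
  have := mem_stabilizer_iff.1
    (hM (by simpa using hn g⁻¹ (inv_mem hg) x hx : g⁻¹ * x * g ∈ M)).2
  rw [mul_smul, mul_smul, inv_smul_eq_iff] at this
  exact this

/-- The Frobenius suborbit is not a clique. -/
theorem exists_nadj : ∃ y, s.Ipt y ∧ y ≠ s.B ∧ ¬ s.Adj s.B y := by
  classical
  by_contra hcon
  push Not at hcon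
  let F : X → Set X := fun P => {Q | Q = P ∨ s.Adj P Q}
  have hF : ∀ (g : G) (P : X), F (g • P) = g • F P := fun g P => by
    ext Q
    rw [Set.mem_smul_set_iff_inv_smul_mem, Set.mem_setOf_eq, Set.mem_setOf_eq, ← s.adj_smul g⁻¹,
      inv_smul_smul, inv_smul_eq_iff]
  have hBA : F s.B = F s.A := by
    have hsub : F s.A ⊆ F s.B := by
      rintro Q (rfl | hQ)
      · exact Or.inr (s.adj_A'.2 s.Ipt_B)
      · rcases eq_or_ne Q s.B with rfl | hne
        · exact Or.inl rfl
        · exact Or.inr (hcon Q (s.adj_A.1 hQ) hne)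
    refine (Set.eq_of_subset_of_ncard_le hsub ?_).symm
    have hc : ∀ P, (F P).ncard = s.k + 1 := fun P => by
      have : F P = insert P {Q | s.Adj P Q} := rfl
      rw [this, Set.ncard_insert_of_notMem (s := {Q | s.Adj P Q}) (s.adj_irrefl P),
        ← Nat.card_coe_set_eq]
      exact congrArg (· + 1) (s.card_nbr P)
    rw [hc, hc]
  refine s.block_absurd (isBlock_nbr F hF s.A) (P := s.A) (Q := s.B) (R := s.C) rfl hBA
    s.B_ne.symm ?_
  intro hmem
  have h : F s.C = F s.A := hmem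
  rcases (h ▸ Or.inl rfl : s.C ∈ F s.A) with e | e
  · exact s.C_ne e
  · exact s.not_adj_AC e

end CfsgLib.FrobSuborbit.Frame
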