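import Cfsg.Agent.Lib.FrobSuborbit.Setup
import Cfsg.Agent.Lib.Frobenius.Theorem

/-!
Construction of a `Frame` from a primitive rank three action with a Frobenius suborbit, and the
change of the representative of the second suborbit.
-/

set_option autoImplicit false
set_option linter.style.haveILetI false
set_option linter.unusedSectionVars false

open scoped Pointwise
open MulAction

namespace CfsgLib.FrobSuborbit

universe u v

variable {G : Type u} {X : Type v} [Group G] [Finite G] [Fintype X] [MulAction G X]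

/-- An involution moving a point swaps the pair of `A` and another point. -/
theorem exists_swap [FaithfulSMul G X] [IsPretransitive G X] (heven : Even (Nat.card G)) (A : X) :
    ∃ (u : G) (y : X), y ≠ A ∧ u • A = y ∧ u • y = A := by
  haveI := Fact.mk Nat.prime_two
  obtain ⟨t, ht⟩ := exists_prime_orderOf_dvd_card' (G := G) 2 (even_iff_two_dvd.1 heven)
  have h2 : t * t = 1 := by
    have := pow_orderOf_eq_one t
    rwa [ht, pow_two] at this
  obtain ⟨P, hP⟩ : ∃ P : X, t • P ≠ P := by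
    by_contra h
    push Not at h
    have : t = 1 := eq_of_smul_eq_smul (α := X) fun x => by rw [h x, one_smul]
    rw [this, orderOf_one] at ht
    omega
  obtain ⟨g, rfl⟩ := exists_smul_eq G A P
  refine ⟨g⁻¹ * t * g, g⁻¹ • t • g • A, fun e => hP ?_, by rw [mul_smul, mul_smul], ?_⟩
  · rwa [inv_smul_eq_iff] at e
  · rw [mul_smul, mul_smul, smul_inv_smul, ← mul_smul t t, h2, one_smul, inv_smul_smul]

/-- In rank three both orbitals are self-paired once the group has even order. -/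
theorem exists_swaps [FaithfulSMul G X] [IsPretransitive G X] (heven : Even (Nat.card G))
    {A B C : X} (hB : B ≠ A) (hC : C ≠ A) (hnot : ∀ g ∈ stabilizer G A, g • B ≠ C)
    (hcov : ∀ x : X, x = A ∨ (∃ g ∈ stabilizer G A, g • B = x) ∨
      ∃ g ∈ stabilizer G A, g • C = x) :
    (∃ u : G, u • A = B ∧ u • B = A) ∧ ∃ u : G, u • A = C ∧ u • C = A := by
  have conj : ∀ {u a : G} {T : X}, a ∈ stabilizer G A → u • A = a • T → u • (a • T) = A →
      ∃ w : G, w • A = T ∧ w • T = A := by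
    intro u a T ha h1 h2
    refine ⟨a⁻¹ * u * a, ?_, ?_⟩
    · rw [mul_smul, mul_smul, mem_stabilizer_iff.1 ha, h1, inv_smul_smul]
    · rw [mul_smul, mul_smul, h2, inv_smul_eq_iff, mem_stabilizer_iff.1 ha]
  obtain ⟨u, y, hy, u1, u2⟩ := exists_swap (G := G) heven A
  rcases hcov y with e | ⟨a, ha, rfl⟩ | ⟨a, ha, rfl⟩
  · exact absurd e hy
  · obtain ⟨w, w1, w2⟩ := conj ha u1 u2
    refine ⟨⟨w, w1, w2⟩, ?_⟩
    obtain ⟨g, hg⟩ := exists_smul_eq G A C
    rcases hcov (g⁻¹ • A) with e | ⟨b, hb, e⟩ | ⟨b, hb, e⟩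
    · rw [inv_smul_eq_iff] at e
      exact absurd (e.trans hg).symm hC
    · refine absurd ?_ (hnot (g * b * w) (mem_stabilizer_iff.2 ?_))
      · rw [mul_smul, w2, mul_smul, mem_stabilizer_iff.1 hb, hg]
      · rw [mul_smul, w1, mul_smul, e, smul_inv_smul]
    · exact ⟨g * b, by rw [mul_smul, mem_stabilizer_iff.1 hb, hg],
        by rw [mul_smul, e, smul_inv_smul]⟩
  · obtain ⟨w, w1, w2⟩ := conj ha u1 u2
    refine ⟨?_, ⟨w, w1, w2⟩⟩
    obtain ⟨g, hg⟩ := exists_smul_eq G A B
    rcases hcov (g⁻¹ • A) with e | ⟨b, hb, e⟩ | ⟨b, hb, e⟩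
    · rw [inv_smul_eq_iff] at e
      exact absurd (e.trans hg).symm hB
    · exact ⟨g * b, by rw [mul_smul, mem_stabilizer_iff.1 hb, hg],
        by rw [mul_smul, e, smul_inv_smul]⟩
    · have hmem : g * b * w ∈ stabilizer G A := mem_stabilizer_iff.2 (by
        rw [mul_smul, w1, mul_smul, e, smul_inv_smul])
      refine absurd ?_ (hnot (g * b * w)⁻¹ (inv_mem hmem))
      rw [inv_smul_eq_iff, mul_smul, w2, mul_smul, mem_stabilizer_iff.1 hb, hg]

/-- A primitive rank three action with a Frobenius suborbit gives a frame. -/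
theorem exists_frame [FaithfulSMul G X] (heven : Even (Nat.card G))
    (hprim : IsPreprimitive G X) (A : X)
    (h3 : Nat.card (orbitRel.Quotient ↥(stabilizer G A) X) = 3) (B : X) (hBA : B ≠ A)
    (hfaith : ∀ g ∈ stabilizer G A,
      (∀ h ∈ stabilizer G A, g • (h • B) = h • B) → g = 1)
    (hfix : ∃ g ∈ stabilizer G A, g ≠ 1 ∧ g • B = B)
    (hfrob : ∀ g ∈ stabilizer G A, ∀ h ∈ stabilizer G A,
      g • B = B → g • (h • B) = h • B → h • B ≠ B → g = 1) :
    ∃ s : Frame G X, s.A = A ∧ s.B = B := by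
  classical
  haveI := hprim
  -- the third orbit
  let π : X → orbitRel.Quotient ↥(stabilizer G A) X := fun x => Quotient.mk _ x
  haveI : Finite (orbitRel.Quotient ↥(stabilizer G A) X) := Nat.finite_of_card_ne_zero (by omega)
  haveI := Fintype.ofFinite (orbitRel.Quotient ↥(stabilizer G A) X)
  have hπ : ∀ {x y : X}, π x = π y → ∃ g ∈ stabilizer G A, g • y = x := by
    intro x y e
    obtain ⟨g, hg⟩ := (orbitRel_apply.1 (Quotient.exact e) : x ∈ orbit _ y)
    exact ⟨g, g.2, hg⟩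
  have hAB : π B ≠ π A := by
    intro e
    obtain ⟨g, hg, e'⟩ := hπ e
    exact hBA (by rw [← e', mem_stabilizer_iff.1 hg])
  obtain ⟨c, hcA, hcB⟩ : ∃ c, c ≠ π A ∧ c ≠ π B := by
    by_contra h
    push Not at h
    have : (Finset.univ : Finset (orbitRel.Quotient ↥(stabilizer G A) X)) ⊆ {π A, π B} := by
      intro c _
      rcases eq_or_ne c (π A) with e | e
      · simp [e]
      · simp [h c e]
    have := (Finset.card_le_card this).trans Finset.card_le_two
    rw [Finset.card_univ, ← Nat.card_eq_fintype_card, h3] at this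
    omega
  obtain ⟨C, rfl⟩ : ∃ C, π C = c := ⟨c.out, Quotient.out_eq c⟩
  have hCA : C ≠ A := fun e => hcA (by rw [e])
  have hnot : ∀ g ∈ stabilizer G A, g • B ≠ C := fun g hg e =>
    hcB (Quotient.sound (orbitRel_apply.2 ⟨⟨g, hg⟩, e⟩))
  have hcov : ∀ x : X, x = A ∨ (∃ g ∈ stabilizer G A, g • B = x) ∨
      ∃ g ∈ stabilizer G A, g • C = x := by
    intro x
    by_contra h
    push Not at h
    obtain ⟨h1, h2, h4⟩ := h
    have x1 : π x ≠ π A := fun e => by
      obtain ⟨g, hg, e'⟩ := hπ e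
      exact h1 (by rw [← e', mem_stabilizer_iff.1 hg])
    have x2 : π x ≠ π B := fun e => by
      obtain ⟨g, hg, e'⟩ := hπ e
      exact h2 g hg e'
    have x3 : π x ≠ π C := fun e => by
      obtain ⟨g, hg, e'⟩ := hπ e
      exact h4 g hg e'
    have : ({π A, π B, π C, π x} : Finset _).card = 4 := by
      rw [Finset.card_insert_of_notMem (by simp [hAB.symm, hcA.symm, x1.symm]),
        Finset.card_insert_of_notMem (by simp [hcB.symm, x2.symm]),
        Finset.card_insert_of_notMem (by simp [x3.symm]), Finset.card_singleton]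
    have h5 := Finset.card_le_univ ({π A, π B, π C, π x} : Finset _)
    rw [this, ← Nat.card_eq_fintype_card, h3] at h5
    omega
  obtain ⟨hsB, hsC⟩ := exists_swaps heven hBA hCA hnot hcov
  -- the Frobenius kernel
  set N := stabilizer G A with hNdef
  set H' : Subgroup N := (stabilizer G B).subgroupOf N with hH'def
  have memH : ∀ x : N, x ∈ H' ↔ (x : G) • B = B := fun _ => Iff.rfl
  have hHc : Cfsg.IsFrobeniusComplement H' := by
    refine ⟨?_, ?_, fun g hg => ?_⟩
    · obtain ⟨g, hg, g1, g2⟩ := hfix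
      intro e
      have : (⟨g, hg⟩ : N) ∈ (⊥ : Subgroup N) := e ▸ (memH _).2 g2
      exact g1 (congrArg Subtype.val (Subgroup.mem_bot.1 this))
    · intro e
      obtain ⟨g, hg, g1, g2⟩ := hfix
      refine g1 (hfaith g hg fun a ha => ?_)
      have : (⟨a, ha⟩ : N) ∈ H' := e ▸ Subgroup.mem_top _
      rw [(memH _).1 this]
      exact g2
    · rw [eq_bot_iff]
      rintro x ⟨hx, hx'⟩
      obtain ⟨y, hy, rfl⟩ : ∃ y ∈ H', g * y * g⁻¹ = x := hx'
      have e1 := (memH _).1 hx
      refine Subgroup.mem_bot.2 (Subtype.ext ?_)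
      refine hfrob _ (g * y * g⁻¹ : N).2 g g.2 e1 ?_ (fun e => hg ((memH _).2 e))
      rw [← mul_smul, Subgroup.coe_mul, Subgroup.coe_mul, Subgroup.coe_inv,
        inv_mul_cancel_right, mul_smul, (memH _).1 hy]
  obtain ⟨N0, hset, hN0, hc⟩ := CfsgLib.Frobenius.exists_normal_kernel hHc
  have hmemK : ∀ {x : G} (hx : x ∈ N), x ∈ N0.map N.subtype ↔ (⟨x, hx⟩ : N) ∈ N0 := by
    intro x hx
    constructor
    · rintro ⟨y, hy, rfl⟩
      exact hy
    · exact fun h => ⟨_, h, rfl⟩
  refine ⟨{ prim := hprim, A := A, B := B, C := C, B_ne := hBA, C_ne := hCA, C_not := hnot,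
            cover := hcov, swapB := hsB, swapC := hsC,
            frob := fun g hg e a ha e1 e2 => hfrob g hg a ha e e1 e2,
            hne := hfix, K := N0.map N.subtype, K_le := Subgroup.map_subtype_le N0,
            K_ne := ?_, K_normal := ?_, K_free := ?_, K_trans := ?_, K_cover := ?_ }, rfl, rfl⟩
  · have hb : N0 ≠ ⊥ := fun e => hHc.2.1 (Subgroup.isComplement'_bot_left.1 (e ▸ hc))
    obtain ⟨x, hx, hx1⟩ := (Subgroup.ne_bot_iff_exists_ne_one.1 hb) |> fun ⟨⟨x, hx⟩, h⟩ =>
      (⟨x, hx, fun e => h (Subtype.ext e)⟩ : ∃ x ∈ N0, x ≠ 1)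
    exact ⟨x, ⟨x, hx, rfl⟩, fun e => hx1 (Subtype.ext e)⟩
  · intro g hg x hx
    have hxN : x ∈ N := Subgroup.map_subtype_le N0 hx
    exact (hmemK (mul_mem (mul_mem hg hxN) (inv_mem hg))).2
      (hN0.conj_mem _ ((hmemK hxN).1 hx) ⟨g, hg⟩)
  · intro x hx e
    have hxN : x ∈ N := Subgroup.map_subtype_le N0 hx
    have : (⟨x, hxN⟩ : N) ∈ (⊥ : Subgroup N) :=
      hc.disjoint.le_bot ⟨(hmemK hxN).1 hx, (memH _).2 e⟩
    exact congrArg Subtype.val (Subgroup.mem_bot.1 this)
  · intro g hg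
    obtain ⟨⟨⟨n, hn⟩, ⟨η, hη⟩⟩, e, _⟩ := hc.existsUnique (⟨g, hg⟩ : N)
    have e' : n * η = (⟨g, hg⟩ : N) := e
    refine ⟨n, ⟨n, hn, rfl⟩, ?_⟩
    have : (n : G) * η = g := congrArg Subtype.val e'
    rw [← this, mul_smul, (memH _).1 hη]
  · intro g hg hgK
    have hgN : (⟨g, hg⟩ : N) ∉ Cfsg.frobeniusKernel H' := fun h =>
      hgK ((hmemK hg).2 (by rw [← SetLike.mem_coe, hset]; exact h))
    simp only [Cfsg.frobeniusKernel, Set.mem_ofPred_eq, not_or, not_forall, not_not] at hgN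
    obtain ⟨_, a, ha⟩ := hgN
    obtain ⟨y, hy, e⟩ : ∃ y ∈ H', a * y * a⁻¹ = (⟨g, hg⟩ : N) := ha
    refine ⟨a, a.2, ?_⟩
    have : (a : G) * y * (a : G)⁻¹ = g := congrArg Subtype.val e
    rw [← this, ← mul_smul, inv_mul_cancel_right, mul_smul, (memH _).1 hy]

namespace Frame

/-- Replace the representative of the second suborbit. -/
theorem exists_moved (s : Frame G X) {y : X} (hy : s.Dpt y) :
    ∃ s' : Frame G X, s'.A = s.A ∧ s'.B = s.B ∧ s'.C = y ∧ s'.K = s.K := by
  obtain ⟨g, hg, rfl⟩ := hy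
  have hgA := mem_stabilizer_iff.1 hg
  refine ⟨{ prim := s.prim, A := s.A, B := s.B, C := g • s.C, B_ne := s.B_ne,
            C_ne := ?_, C_not := ?_, cover := ?_, swapB := s.swapB, swapC := ?_,
            frob := s.frob, hne := s.hne, K := s.K, K_le := s.K_le, K_ne := s.K_ne,
            K_normal := s.K_normal, K_free := s.K_free, K_trans := s.K_trans,
            K_cover := s.K_cover }, rfl, rfl, rfl, rfl⟩
  · intro e
    exact s.C_ne (smul_left_cancel g (e.trans hgA.symm))
  · intro a ha e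
    exact s.C_not (g⁻¹ * a) (mul_mem (inv_mem hg) ha) (by rw [mul_smul, e, inv_smul_smul])
  · intro x
    rcases s.cover x with h | h | ⟨a, ha, e⟩
    · exact Or.inl h
    · exact Or.inr (Or.inl h)
    · exact Or.inr (Or.inr ⟨a * g⁻¹, mul_mem ha (inv_mem hg),
        by rw [mul_smul, inv_smul_smul, e]⟩)
  · obtain ⟨u, u1, u2⟩ := s.swapC
    refine ⟨g * u * g⁻¹, ?_, ?_⟩
    · rw [mul_smul, mul_smul, inv_smul_eq_iff.2 hgA.symm, u1]
    · rw [mul_smul, mul_smul, inv_smul_smul, u2, hgA]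

end Frame

end CfsgLib.FrobSuborbit
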