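import Cfsg.Agent.Lib.FrobSuborbit.Basic

/-!
Double counting of the pairs interchanged by a class of involutions.
-/

set_option autoImplicit false
set_option linter.style.haveILetI false
set_option linter.unusedSectionVars false

open scoped Classical
open MulAction Finset

namespace CfsgLib.FrobSuborbit.Frame

variable {G X : Type*} [Group G] [MulAction G X] [Finite G] [Fintype X] (s : Frame G X)

/-- Number of fixed points. -/
noncomputable def fixNum (g : G) : ℕ := (univ.filter fun P : X => g • P = P).card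

/-- Number of points moved to a neighbour. -/
noncomputable def adjNum (g : G) : ℕ := (univ.filter fun P : X => s.Adj P (g • P)).card

/-- Number of points moved to a point at distance two. -/
noncomputable def farNum (g : G) : ℕ :=
  (univ.filter fun P : X => g • P ≠ P ∧ ¬ s.Adj P (g • P)).card

theorem adjNum_add (g : G) :
    s.adjNum g + s.farNum g + fixNum (X := X) g = Nat.card X := by
  rw [adjNum, farNum, fixNum, Nat.card_eq_fintype_card, ← card_univ, ← card_union_of_disjoint,
    ← card_union_of_disjoint]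
  · congr 1
    ext P
    simp only [mem_union, mem_filter, mem_univ, true_and, iff_true]
    tauto
  · rw [disjoint_left]
    intro P h1 h2
    simp only [mem_union, mem_filter, mem_univ, true_and] at h1 h2
    rcases h1 with h | h
    · exact s.adj_irrefl P (by rwa [h2] at h)
    · exact h.1 h2
  · rw [disjoint_left]
    intro P h1 h2
    simp only [mem_filter, mem_univ, true_and] at h1 h2
    exact h2.2 h1

theorem fixNum_conj (g z : G) : fixNum (X := X) (g * z * g⁻¹) = fixNum (X := X) z := by
  refine card_equiv (toPerm g⁻¹) fun P => ?_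
  simp [toPerm_apply, mul_smul, smul_eq_iff_eq_inv_smul]

theorem adjNum_conj (g z : G) : s.adjNum (g * z * g⁻¹) = s.adjNum z := by
  refine card_equiv (toPerm g⁻¹) fun P => ?_
  simp only [mem_filter, mem_univ, true_and, toPerm_apply]
  conv_lhs => rw [← s.adj_smul g⁻¹]
  simp [mul_smul]

theorem farNum_conj (g z : G) : s.farNum (g * z * g⁻¹) = s.farNum z := by
  refine card_equiv (toPerm g⁻¹) fun P => ?_
  simp only [mem_filter, mem_univ, true_and, toPerm_apply]
  conv_lhs => rw [← s.adj_smul g⁻¹]
  simp [mul_smul, smul_eq_iff_eq_inv_smul]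

variable [Fintype G]

/-- The conjugacy class as a finite set. -/
noncomputable def cls (z : G) : Finset G := univ.filter fun w => ∃ g : G, g * z * g⁻¹ = w

theorem mem_cls {z w : G} : w ∈ cls z ↔ ∃ g : G, g * z * g⁻¹ = w := by simp [cls]

theorem mem_cls_self (z : G) : z ∈ cls z := mem_cls.2 ⟨1, by simp⟩

theorem conj_mem_cls {z w : G} (g : G) (h : w ∈ cls z) : g * w * g⁻¹ ∈ cls z := by
  obtain ⟨a, rfl⟩ := mem_cls.1 h
  exact mem_cls.2 ⟨g * a, by group⟩

theorem cls_sq {z w : G} (hz : z * z = 1) (h : w ∈ cls z) : w * w = 1 := by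
  obtain ⟨a, rfl⟩ := mem_cls.1 h
  calc a * z * a⁻¹ * (a * z * a⁻¹) = a * (z * z) * a⁻¹ := by group
    _ = 1 := by rw [hz]; group

/-- Members of the class interchanging two points. -/
noncomputable def swap (z : G) (P Q : X) : Finset G :=
  (cls z).filter fun w => w • P = Q ∧ w • Q = P

theorem mem_swap {z : G} {P Q : X} {w : G} :
    w ∈ swap z P Q ↔ w ∈ cls z ∧ w • P = Q ∧ w • Q = P := by simp [swap]

theorem card_swap_smul (z g : G) (P Q : X) :
    (swap z (g • P) (g • Q)).card = (swap z P Q).card := by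
  refine card_equiv (MulAut.conj g⁻¹).toEquiv fun w => ?_
  simp only [mem_swap, MulEquiv.toEquiv_eq_coe, MulEquiv.coe_toEquiv, MulAut.conj_apply]
  constructor
  · rintro ⟨h1, h2, h3⟩
    refine ⟨conj_mem_cls _ h1, ?_, ?_⟩ <;> simp [mul_smul, h2, h3]
  · rintro ⟨h1, h2, h3⟩
    simp only [inv_inv, mul_smul] at h2 h3
    refine ⟨?_, (inv_smul_eq_iff).1 h2, (inv_smul_eq_iff).1 h3⟩
    simpa [mul_assoc] using conj_mem_cls g h1

include s in
theorem sum_fix (z : G) :
    (cls z).card * fixNum (X := X) z =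
      Nat.card X * ((cls z).filter fun w => w • s.A = s.A).card := by
  have h1 : ∑ w ∈ cls z, fixNum (X := X) w = (cls z).card * fixNum (X := X) z := by
    rw [← smul_eq_mul, ← sum_const]
    refine sum_congr rfl fun w hw => ?_
    obtain ⟨g, rfl⟩ := mem_cls.1 hw
    exact fixNum_conj g z
  rw [← h1]
  unfold fixNum
  simp only [card_filter]
  rw [sum_comm, Nat.card_eq_fintype_card, ← card_univ, ← smul_eq_mul, ← sum_const]
  refine sum_congr rfl fun P _ => ?_
  rw [← card_filter, ← card_filter]
  obtain ⟨g, rfl⟩ := s.exists_to P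
  refine card_equiv (MulAut.conj g⁻¹).toEquiv fun w => ?_
  simp only [mem_filter, MulEquiv.toEquiv_eq_coe, MulEquiv.coe_toEquiv, MulAut.conj_apply, inv_inv,
    mul_smul, inv_smul_eq_iff]
  exact and_congr_left fun _ => ⟨fun h => by simpa using conj_mem_cls g⁻¹ h,
    fun h => by simpa [mul_assoc] using conj_mem_cls g h⟩

include s in
/-- Pairs in a given orbital interchanged by the class. -/
theorem sum_orbital {z : G} (hz : z * z = 1) (R : X → X → Prop)
    (hR : ∀ (g : G) (P Q : X), R (g • P) (g • Q) ↔ R P Q) (D : X)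
    (hD : ∀ y, R s.A y ↔ ∃ g ∈ stabilizer G s.A, g • D = y) :
    (cls z).card * (univ.filter fun P : X => R P (z • P)).card =
      Nat.card X * (Nat.card {y : X // R s.A y} * (swap z s.A D).card) := by
  have h1 : ∑ w ∈ cls z, (univ.filter fun P : X => R P (w • P)).card =
      (cls z).card * (univ.filter fun P : X => R P (z • P)).card := by
    rw [← smul_eq_mul, ← sum_const]
    refine sum_congr rfl fun w hw => ?_
    obtain ⟨g, rfl⟩ := mem_cls.1 hw
    refine card_equiv (toPerm g⁻¹) fun P => ?_
    simp only [mem_filter, mem_univ, true_and, toPerm_apply]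
    conv_lhs => rw [← hR g⁻¹]
    simp [mul_smul]
  rw [← h1]
  simp only [card_filter]
  rw [sum_comm, Nat.card_eq_fintype_card, ← card_univ (α := X), ← smul_eq_mul, ← sum_const]
  refine sum_congr rfl fun P _ => ?_
  rw [← card_filter]
  obtain ⟨g, rfl⟩ := s.exists_to P
  have e1 : ((cls z).filter fun w => R (g • s.A) (w • g • s.A)).card =
      ((cls z).filter fun w => R s.A (w • s.A)).card := by
    refine card_equiv (MulAut.conj g⁻¹).toEquiv fun w => ?_
    simp only [mem_filter, MulEquiv.toEquiv_eq_coe, MulEquiv.coe_toEquiv, MulAut.conj_apply,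
      inv_inv, mul_smul]
    conv_lhs => rw [← hR g⁻¹, inv_smul_smul]
    exact and_congr_left fun _ => ⟨fun h => by simpa using conj_mem_cls g⁻¹ h,
      fun h => by simpa [mul_assoc] using conj_mem_cls g h⟩
  rw [e1, card_eq_sum_card_fiberwise (f := fun w => w • s.A)
    (t := univ.filter fun y => R s.A y) (fun w hw => by simpa using (mem_filter.1 hw).2),
    Nat.card_eq_fintype_card, Fintype.card_subtype, ← smul_eq_mul, ← sum_const]
  refine sum_congr rfl fun y hy => ?_
  obtain ⟨a, ha, rfl⟩ := (hD y).1 (mem_filter.1 hy).2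
  rw [← card_swap_smul z a s.A D, mem_stabilizer_iff.1 ha]
  congr 1
  ext w
  simp only [mem_filter, mem_swap]
  constructor
  · rintro ⟨⟨hw, _⟩, e⟩
    refine ⟨hw, e, ?_⟩
    rw [← e, ← mul_smul, cls_sq hz hw, one_smul]
  · rintro ⟨hw, e, -⟩
    exact ⟨⟨hw, by rw [e]; exact (hD _).2 ⟨a, ha, rfl⟩⟩, e⟩

theorem sum_adj {z : G} (hz : z * z = 1) :
    (cls z).card * s.adjNum z = Nat.card X * (s.k * (swap z s.A s.B).card) := by
  have := s.sum_orbital hz s.Adj (fun g _ _ => s.adj_smul g) s.B fun y => s.adj_A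
  rwa [Nat.card_congr (Equiv.subtypeEquivRight fun y => s.adj_A), s.card_Ipt] at this

theorem sum_far {z : G} (hz : z * z = 1) :
    (cls z).card * s.farNum z = Nat.card X * (s.l * (swap z s.A s.C).card) := by
  have hiff : ∀ y, (s.A ≠ y ∧ ¬ s.Adj s.A y) ↔ s.Dpt y := fun y => by
    rw [s.Dpt_iff, s.adj_A]; exact and_congr_left fun _ => ne_comm
  have := s.sum_orbital hz (fun P Q => P ≠ Q ∧ ¬ s.Adj P Q)
    (fun g _ _ => and_congr (smul_left_cancel_iff g).not (s.adj_smul g).not) s.C hiff
  rw [Nat.card_congr (Equiv.subtypeEquivRight hiff)] at this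
  rw [farNum, l]
  convert this using 4 with P
  exact and_congr_left fun _ => ne_comm

theorem swap_subset_coset (z : G) {D : X} {u : G} (hu : u ∈ swap z s.A D) :
    (swap z s.A D).card ≤ Nat.card (stabilizer G s.A ⊓ stabilizer G D : Subgroup G) := by
  have h : ∀ w ∈ swap z s.A D,
      w * u⁻¹ ∈ (stabilizer G s.A ⊓ stabilizer G D : Subgroup G) := by
    intro w hw
    obtain ⟨-, h1, h2⟩ := mem_swap.1 hw
    obtain ⟨-, g1, g2⟩ := mem_swap.1 hu
    have i1 : u⁻¹ • s.A = D := by rw [inv_smul_eq_iff, g2]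
    have i2 : u⁻¹ • D = s.A := by rw [inv_smul_eq_iff, g1]
    exact ⟨mem_stabilizer_iff.2 (by rw [mul_smul, i1, h2]),
      mem_stabilizer_iff.2 (by rw [mul_smul, i2, h1])⟩
  rw [← Nat.card_eq_finsetCard]
  refine Nat.card_le_card_of_injective (fun w => ⟨(w : G) * u⁻¹, h w w.2⟩) fun a b e => ?_
  exact Subtype.ext (mul_right_cancel (congrArg Subtype.val e))

theorem swap_le (z : G) (D : X) :
    (swap z s.A D).card ≤ Nat.card (stabilizer G s.A ⊓ stabilizer G D : Subgroup G) := by
  rcases (swap z s.A D).eq_empty_or_nonempty with h | ⟨u, hu⟩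
  · rw [h]; exact Nat.zero_le _
  · exact s.swap_subset_coset z hu

theorem swapB_le (z : G) : (swap z s.A s.B).card ≤ s.h := s.swap_le z s.B

theorem swapC_le (z : G) : (swap z s.A s.C).card ≤ Nat.card s.L := s.swap_le z s.C

end CfsgLib.FrobSuborbit.Frame
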