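import Mathlib.Tactic
import Mathlib.GroupTheory.Index

/-!
An involutory automorphism inverting more than three quarters of a group with one involution.
-/

set_option autoImplicit false
set_option linter.style.haveILetI false
set_option linter.unusedSectionVars false

open scoped Classical
open Finset

namespace CfsgLib.FrobSuborbit

variable {M : Type*} [Group M] [Fintype M]

/-- A set of inverted elements of more than three quarters generates commutativity. -/
theorem commute_of_inverted (σ : M →* M) (h : 3 * Fintype.card M <
    4 * (univ.filter fun y => σ y = y⁻¹).card) (a b : M) : a * b = b * a := by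
  set S := univ.filter fun y => σ y = y⁻¹ with hS
  have hc : ∀ y ∈ S, Subgroup.centralizer ({y} : Set M) = ⊤ := by
    intro y hy
    have hy' : σ y = y⁻¹ := (mem_filter.1 hy).2
    set T := S ∩ S.map (Equiv.mulLeft y⁻¹).toEmbedding with hT
    have hTc : ∀ x ∈ T, x ∈ Subgroup.centralizer ({y} : Set M) := by
      intro x hx
      obtain ⟨hx1, hx2⟩ := mem_inter.1 hx
      obtain ⟨w, hw, e⟩ := mem_map.1 hx2
      simp only [Equiv.toEmbedding_apply, Equiv.coe_mulLeft] at e
      have hw' : σ (y * x) = (y * x)⁻¹ := by
        rw [← e, mul_inv_cancel_left]; exact (mem_filter.1 hw).2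
      rw [map_mul, hy', (mem_filter.1 hx1).2, mul_inv_rev] at hw'
      rw [Subgroup.mem_centralizer_singleton_iff]
      have e2 := congrArg (·⁻¹) hw'
      simpa using e2
    have h1 := card_union_add_card_inter S (S.map (Equiv.mulLeft y⁻¹).toEmbedding)
    rw [card_map, ← hT] at h1
    have h2 : (S ∪ S.map (Equiv.mulLeft y⁻¹).toEmbedding).card ≤ Fintype.card M := card_le_univ _
    have h3 : T.card ≤ Nat.card (Subgroup.centralizer ({y} : Set M)) := by
      rw [← Nat.card_eq_finsetCard]
      exact Nat.card_le_card_of_injective (fun x => ⟨(x : M), hTc x x.2⟩) fun u v e =>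
        Subtype.ext (by simpa using e)
    have hgt : Nat.card M < 2 * Nat.card (Subgroup.centralizer ({y} : Set M)) := by
      rw [Nat.card_eq_fintype_card (α := M)]; omega
    have hmul := Subgroup.card_mul_index (Subgroup.centralizer ({y} : Set M))
    apply Subgroup.index_eq_one.1
    by_contra hne
    have hi : 2 ≤ (Subgroup.centralizer ({y} : Set M)).index := by
      have : (Subgroup.centralizer ({y} : Set M)).index ≠ 0 := Subgroup.index_ne_zero_of_finite
      omega
    have := Nat.mul_le_mul_left (Nat.card (Subgroup.centralizer ({y} : Set M))) hi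
    omega
  have hZ : ∀ y ∈ S, y ∈ Subgroup.center M := fun y hy => Subgroup.mem_center_iff.2 fun g =>
    Subgroup.mem_centralizer_singleton_iff.1 (by rw [hc y hy]; exact Subgroup.mem_top g)
  have h4 : S.card ≤ Nat.card (Subgroup.center M) := by
    rw [← Nat.card_eq_finsetCard]
    exact Nat.card_le_card_of_injective (fun x => ⟨(x : M), hZ x x.2⟩) fun u v e =>
      Subtype.ext (by simpa using e)
  have htop : Subgroup.center M = ⊤ := by
    apply Subgroup.index_eq_one.1
    by_contra hne
    have hmul := Subgroup.card_mul_index (Subgroup.center M)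
    have hi : 2 ≤ (Subgroup.center M).index := by
      have : (Subgroup.center M).index ≠ 0 := Subgroup.index_ne_zero_of_finite
      omega
    have := Nat.mul_le_mul_left (Nat.card (Subgroup.center M)) hi
    rw [Nat.card_eq_fintype_card (α := M)] at hmul
    omega
  exact Subgroup.mem_center_iff.1 (htop ▸ Subgroup.mem_top b) a

/-- A set of inverted elements stable under multiplication by squares is small or everything. -/
theorem card_eq_of_inverted {z : M} (huniq : ∀ y : M, y * y = 1 → y = 1 ∨ y = z) (σ : M →* M)
    (R : Finset M) (hR : ∀ y ∈ R, σ y = y⁻¹)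
    (hclosed : (∀ a b : M, a * b = b * a) → (∀ y : M, σ y = y⁻¹) →
      ∀ y ∈ R, ∀ l : M, l * l * y ∈ R)
    (h : 3 * Fintype.card M < 4 * R.card ∨
      ((∀ a b : M, a * b = b * a) ∧ Fintype.card M < 2 * R.card)) :
    R.card = Fintype.card M := by
  have hRS : R.card ≤ (univ.filter fun y => σ y = y⁻¹).card :=
    card_le_card fun y hy => mem_filter.2 ⟨mem_univ _, hR y hy⟩
  have hcomm : ∀ a b : M, a * b = b * a := by
    rcases h with h | h
    · exact commute_of_inverted σ (by omega)
    · exact h.1
  have h2R : Fintype.card M < 2 * R.card := by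
    rcases h with h | h
    · omega
    · exact h.2
  have hall : ∀ y : M, σ y = y⁻¹ := by
    let S : Subgroup M :=
      { carrier := {y | σ y = y⁻¹}
        mul_mem' := fun {a b} (ha : σ a = a⁻¹) (hb : σ b = b⁻¹) => by
          show σ (a * b) = (a * b)⁻¹
          rw [map_mul, ha, hb, mul_inv_rev, hcomm]
        one_mem' := by simp
        inv_mem' := fun {a} (ha : σ a = a⁻¹) => by
          show σ a⁻¹ = a⁻¹⁻¹
          rw [map_inv, ha] }
    have hS : Nat.card S = (univ.filter fun y => σ y = y⁻¹).card := by
      rw [← Nat.card_eq_finsetCard]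
      exact Nat.card_congr (Equiv.subtypeEquivRight fun y => by simp [S])
    have htop : S = ⊤ := by
      apply Subgroup.index_eq_one.1
      by_contra hne
      have hmul := Subgroup.card_mul_index S
      have hi : 2 ≤ S.index := by
        have : S.index ≠ 0 := Subgroup.index_ne_zero_of_finite
        omega
      have := Nat.mul_le_mul_left (Nat.card S) hi
      rw [Nat.card_eq_fintype_card (α := M)] at hmul
      omega
    intro y
    have : y ∈ S := htop ▸ Subgroup.mem_top y
    exact this
  by_contra hne
  obtain ⟨y0, hy0⟩ : ∃ y0, y0 ∉ R := by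
    by_contra hcon
    push Not at hcon
    exact hne (by rw [eq_univ_of_forall hcon, card_univ])
  have hQ : ∀ l : M, l * l * y0 ∉ R := fun l hl => hy0 (by
    have := hclosed hcomm hall _ hl l⁻¹
    have e : l⁻¹ * l⁻¹ * (l * l * y0) = y0 := by group
    rwa [e] at this)
  have hsq : Fintype.card M ≤ 2 * (univ.image fun l : M => l * l * y0).card := by
    rw [← card_univ]
    refine card_le_mul_card_image univ 2 fun b hb => ?_
    obtain ⟨l0, -, rfl⟩ := mem_image.1 hb
    refine le_trans (card_le_card (t := {l0, l0 * z}) fun l hl => ?_) card_le_two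
    have e := mul_right_cancel (mem_filter.1 hl).2
    rcases huniq (l0⁻¹ * l) (by
      rw [show l0⁻¹ * l * (l0⁻¹ * l) = (l0⁻¹ * l0⁻¹) * (l * l) by
        rw [mul_assoc, ← mul_assoc l l0⁻¹, hcomm l l0⁻¹]; group, e]
      group) with h1 | h1
    · simp [(inv_mul_eq_one.1 h1)]
    · simp [← h1]
  have hdis : R.card + (univ.image fun l : M => l * l * y0).card ≤ Fintype.card M := by
    rw [← card_union_of_disjoint]
    · exact card_le_univ _
    · rw [disjoint_left]
      intro y hy hy'
      obtain ⟨l, -, rfl⟩ := mem_image.1 hy'
      exact hQ l hy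
  omega

end CfsgLib.FrobSuborbit
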