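import Cfsg.Agent.Lib.FrobSuborbit.Kernel
import Mathlib.GroupTheory.FixedPointFree

/-!
The case of a complement of even order: the central involution inverts the kernel.
-/

set_option autoImplicit false
set_option linter.style.haveILetI false
set_option linter.unusedSectionVars false

open scoped Classical
open MulAction Finset

namespace CfsgLib.FrobSuborbit.Frame

variable {G X : Type*} [Group G] [MulAction G X] [Finite G] [Fintype X] (s : Frame G X)

/-- An involution of the complement. -/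
structure Inv (z : G) : Prop where
  mem : z ∈ s.H
  sq : z * z = 1
  ne : z ≠ 1

theorem exists_inv (hev : Even s.h) : ∃ z, s.Inv z := by
  haveI := Fact.mk Nat.prime_two
  obtain ⟨z, hz⟩ := exists_prime_orderOf_dvd_card' (G := s.H) 2 (even_iff_two_dvd.1 hev)
  refine ⟨z, z.2, ?_, fun e => ?_⟩
  · have := pow_orderOf_eq_one z
    rw [hz, pow_two] at this
    exact congrArg Subtype.val this
  · rw [Subtype.ext (a2 := (1 : s.H)) e, orderOf_one] at hz
    omega

variable {s} {z : G}

theorem Inv.inv_eq (hz : s.Inv z) : z⁻¹ = z := inv_eq_of_mul_eq_one_right hz.sq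

theorem Inv.fixA (hz : s.Inv z) : z • s.A = s.A := hz.mem.1

theorem Inv.fixB (hz : s.Inv z) : z • s.B = s.B := hz.mem.2

theorem Inv.zz_smul (hz : s.Inv z) (P : X) : z • z • P = P := by
  rw [← mul_smul, hz.sq, one_smul]

theorem Inv.inverts (hz : s.Inv z) {x : G} (hx : x ∈ s.K) : z * x * z⁻¹ = x⁻¹ := by
  let φ : s.K →* s.K :=
    { toFun := fun a => ⟨z * a * z⁻¹, s.K_normal z hz.mem.1 _ a.2⟩
      map_one' := Subtype.ext (by simp)
      map_mul' := fun a b => Subtype.ext (by simp only [Subgroup.coe_mul]; group) }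
  have h1 : MonoidHom.FixedPointFree φ := by
    intro a ha
    by_contra hne
    have e : z * a * z⁻¹ = a := congrArg Subtype.val ha
    have hzK : z ∈ s.K := s.cent_K a.2 (fun e' => hne (Subtype.ext e')) hz.mem.1
      (by rw [mul_inv_eq_iff_eq_mul] at e; exact e)
    exact hz.ne (s.K_inf_H hzK hz.mem)
  have h2 : Function.Involutive φ := by
    intro a
    apply Subtype.ext
    show z * (z * a * z⁻¹) * z⁻¹ = a
    calc z * (z * (a : G) * z⁻¹) * z⁻¹ = (z * z) * a * (z * z)⁻¹ := by group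
      _ = a := by rw [hz.sq]; simp
  exact congrArg Subtype.val (congrFun (h1.coe_eq_inv_of_involutive h2) ⟨x, hx⟩)

theorem Inv.K_comm (hz : s.Inv z) {x y : G} (hx : x ∈ s.K) (hy : y ∈ s.K) : x * y = y * x := by
  have h := hz.inverts (mul_mem hx hy)
  have e : z * (x * y) * z⁻¹ = x⁻¹ * y⁻¹ := by
    rw [← hz.inverts hx, ← hz.inverts hy]; group
  rw [e] at h
  have := congrArg (·⁻¹) h
  simpa using this.symm

theorem Inv.K_sq (hz : s.Inv z) {x : G} (hx : x ∈ s.K) (h : x * x = 1) : x = 1 := by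
  by_contra hne
  have e := hz.inverts hx
  rw [inv_eq_of_mul_eq_one_right h, mul_inv_eq_iff_eq_mul] at e
  exact hz.ne (s.K_inf_H (s.cent_K hx hne hz.mem.1 e) hz.mem)

theorem Inv.k_odd (hz : s.Inv z) : Odd s.k := by
  rw [← Nat.not_even_iff_odd, even_iff_two_dvd]
  intro h
  haveI := Fact.mk Nat.prime_two
  obtain ⟨x, hx⟩ := exists_prime_orderOf_dvd_card' (G := s.K) 2 h
  have h2 := pow_orderOf_eq_one x
  rw [hx, pow_two] at h2
  have := hz.K_sq x.2 (congrArg Subtype.val h2)
  rw [Subtype.ext (a2 := (1 : s.K)) this, orderOf_one] at hx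
  omega

/-- Square roots in the kernel. -/
theorem Inv.sqrt (hz : s.Inv z) {a : G} (ha : a ∈ s.K) : ∃ x ∈ s.K, x * x = a := by
  obtain ⟨j, hj⟩ := hz.k_odd
  refine ⟨a ^ (j + 1), pow_mem ha _, ?_⟩
  rw [← pow_add, show j + 1 + (j + 1) = s.k + 1 by omega, pow_succ, (s.mem_K_iff.1 ha).2, one_mul]

theorem Inv.unique (hz : s.Inv z) {w : G} (hw : w ∈ s.H) (h : w * w = 1) : w = 1 ∨ w = z := by
  by_contra hne
  push Not at hne
  have hw' : s.Inv w := ⟨hw, h, hne.1⟩
  obtain ⟨x, hx, hx1⟩ := s.K_ne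
  have e : z * w * x = x * (z * w) := by
    have : (z * w) * x * (z * w)⁻¹ = x := by
      calc (z * w) * x * (z * w)⁻¹ = z * (w * x * w⁻¹) * z⁻¹ := by group
        _ = z * x⁻¹ * z⁻¹ := by rw [hw'.inverts hx]
        _ = x := by rw [hz.inverts (inv_mem hx), inv_inv]
    rwa [mul_inv_eq_iff_eq_mul] at this
  have := s.K_inf_H (s.cent_K hx hx1 (s.N.mul_mem hz.mem.1 hw.1) e) (s.H.mul_mem hz.mem hw)
  exact hne.2 (by
    calc w = (z * z) * w := by rw [hz.sq, one_mul]
      _ = z := by rw [mul_assoc, this, mul_one])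

theorem Inv.central (hz : s.Inv z) {η : G} (hη : η ∈ s.H) : η * z = z * η := by
  rcases hz.unique (s.H.mul_mem (s.H.mul_mem hη hz.mem) (s.H.inv_mem hη)) (by
    calc η * z * η⁻¹ * (η * z * η⁻¹) = η * (z * z) * η⁻¹ := by group
      _ = 1 := by rw [hz.sq]; group) with e | e
  · rw [mul_inv_eq_one, mul_eq_left] at e
    exact absurd e hz.ne
  · rwa [mul_inv_eq_iff_eq_mul] at e

/-- The involutions of the stabilizer are conjugate under the kernel. -/
theorem Inv.conj_of_sq (hz : s.Inv z) {w : G} (hw : w ∈ s.N) (h : w * w = 1) (h1 : w ≠ 1) :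
    ∃ x ∈ s.K, x * z * x⁻¹ = w := by
  obtain ⟨a, ha, η, hη, rfl⟩ := s.decomp hw
  have hη2 : η * η = 1 := by
    have e : a * (η * a * η⁻¹) * (η * η) = 1 := by
      calc a * (η * a * η⁻¹) * (η * η) = a * η * (a * η) := by group
        _ = 1 := h
    have : (η * η) = (a * (η * a * η⁻¹))⁻¹ := eq_inv_of_mul_eq_one_right e
    exact s.K_inf_H (this ▸ inv_mem (mul_mem ha (s.K_normal η hη.1 a ha))) (s.H.mul_mem hη hη)
  rcases hz.unique hη hη2 with rfl | rfl
  · rw [mul_one] at h h1
    exact absurd (hz.K_sq ha h) h1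
  · obtain ⟨x, hx, rfl⟩ := hz.sqrt ha
    refine ⟨x, hx, ?_⟩
    have e := hz.inverts hx
    calc x * η * x⁻¹ = x * (η * x⁻¹ * η⁻¹) * η := by group
      _ = x * x * η := by rw [hz.inverts (inv_mem hx), inv_inv]

theorem Inv.cent (hz : s.Inv z) {g : G} (hg : g ∈ s.N) (h : g * z = z * g) : g ∈ s.H := by
  obtain ⟨a, ha, η, hη, rfl⟩ := s.decomp hg
  have e : z * a * z⁻¹ = a := by
    have h2 : a * z * η = z * a * η := by
      calc a * z * η = a * (z * η) := mul_assoc _ _ _
        _ = a * η * z := by rw [← hz.central hη, mul_assoc]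
        _ = z * a * η := by rw [h, mul_assoc]
    rw [mul_inv_eq_iff_eq_mul]
    exact (mul_right_cancel h2).symm
  rw [hz.inverts ha] at e
  have : a = 1 := hz.K_sq ha (inv_eq_iff_mul_eq_one.1 e)
  rw [this, one_mul]
  exact hη

theorem Inv.fix_Ipt (hz : s.Inv z) {y : X} (hy : s.Ipt y) (h : z • y = y) : y = s.B :=
  s.H_fix hz.mem hz.ne hy h

/-- The number of fixed points on the second suborbit. -/
noncomputable def farFix (s : Frame G X) (z : G) : ℕ :=
  (univ.filter fun y : X => s.Dpt y ∧ z • y = y).card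

theorem Inv.fixNum_eq (hz : s.Inv z) : fixNum (X := X) z = 2 + s.farFix z := by
  rw [fixNum, farFix]
  have : (univ.filter fun P : X => z • P = P) =
      insert s.A (insert s.B (univ.filter fun y : X => s.Dpt y ∧ z • y = y)) := by
    ext P
    simp only [mem_filter, mem_univ, true_and, mem_insert]
    constructor
    · intro h
      rcases s.cover P with h' | h' | h'
      · exact Or.inl h'
      · exact Or.inr (Or.inl (hz.fix_Ipt h' h))
      · exact Or.inr (Or.inr ⟨h', h⟩)
    · rintro (rfl | rfl | h)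
      · exact hz.fixA
      · exact hz.fixB
      · exact h.2
  rw [this, card_insert_of_notMem, card_insert_of_notMem]
  · omega
  · simp only [mem_filter, mem_univ, true_and, not_and]
    exact fun h => absurd h fun h' => s.not_Ipt_Dpt s.Ipt_B h'
  · simp only [mem_insert, mem_filter, mem_univ, true_and, not_or, not_and]
    exact ⟨s.B_ne.symm, fun h => absurd rfl (Dpt.ne_A s h)⟩

variable [Fintype G]

theorem Inv.cls_fixA (hz : s.Inv z) :
    ((cls z).filter fun w => w • s.A = s.A).card = s.k := by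
  rw [k, Nat.card_eq_fintype_card, ← card_univ]
  refine (card_bij (fun (x : s.K) _ => (x : G) * z * (x : G)⁻¹) ?_ ?_ ?_).symm
  · intro x _
    refine mem_filter.2 ⟨mem_cls.2 ⟨x, rfl⟩, ?_⟩
    rw [mul_smul, mul_smul, inv_fix (s.fixA x.2), hz.fixA, s.fixA x.2]
  · rintro ⟨a, ha⟩ _ ⟨b, hb⟩ _ (e : a * z * a⁻¹ = b * z * b⁻¹)
    have hc : b⁻¹ * a * z = z * (b⁻¹ * a) := by
      calc b⁻¹ * a * z = b⁻¹ * (a * z * a⁻¹) * a := by group
        _ = b⁻¹ * (b * z * b⁻¹) * a := by rw [e]
        _ = z * (b⁻¹ * a) := by group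
    exact Subtype.ext (inv_mul_eq_one.1 (s.K_inf_H (mul_mem (inv_mem hb) ha)
      (hz.cent (s.K_le (mul_mem (inv_mem hb) ha)) hc))).symm
  · intro w hw
    obtain ⟨hw1, hw2⟩ := mem_filter.1 hw
    have hne : w ≠ 1 := by
      obtain ⟨g, rfl⟩ := mem_cls.1 hw1
      intro e
      rw [mul_inv_eq_one, mul_eq_left] at e
      exact hz.ne e
    obtain ⟨x, hx, e⟩ := hz.conj_of_sq hw2 (cls_sq hz.sq hw1) hne
    exact ⟨⟨x, hx⟩, mem_univ _, e⟩

theorem Inv.cls_card (hz : s.Inv z) :
    (cls z).card * fixNum (X := X) z = Nat.card X * s.k := by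
  rw [s.sum_fix z, hz.cls_fixA]

theorem Inv.fixNum_pos (hz : s.Inv z) : 0 < fixNum (X := X) z := by
  rw [hz.fixNum_eq]; omega

/-- Neighbour moves. -/
theorem Inv.adjNum_eq (hz : s.Inv z) :
    s.adjNum z = fixNum (X := X) z * (swap z s.A s.B).card := by
  have h1 := s.sum_adj hz.sq
  have hpos : 0 < (cls z).card := card_pos.2 ⟨z, mem_cls_self z⟩
  apply Nat.eq_of_mul_eq_mul_left hpos
  rw [h1, ← mul_assoc, ← hz.cls_card, mul_assoc]

/-- Moves at distance two. -/
theorem Inv.farNum_eq (hz : s.Inv z) :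
    s.k * s.farNum z = fixNum (X := X) z * (s.l * (swap z s.A s.C).card) := by
  have h1 := s.sum_far hz.sq
  have hpos : 0 < (cls z).card := card_pos.2 ⟨z, mem_cls_self z⟩
  apply Nat.eq_of_mul_eq_mul_left hpos
  calc (cls z).card * (s.k * s.farNum z) = s.k * ((cls z).card * s.farNum z) := by ring
    _ = (Nat.card X * s.k) * (s.l * (swap z s.A s.C).card) := by rw [h1]; ring
    _ = _ := by rw [← hz.cls_card]; ring

end CfsgLib.FrobSuborbit.Frame
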