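import Cfsg.Agent.Lib.FrobSuborbit.Count

/-!
The projection to the complement, two-point stabilizers and the points fixed by a kernel element.
-/

set_option autoImplicit false
set_option linter.style.haveILetI false
set_option linter.unusedSectionVars false

open scoped Classical
open MulAction

namespace CfsgLib.FrobSuborbit.Frame

variable {G X : Type*} [Group G] [MulAction G X] [Finite G] [Fintype X] (s : Frame G X)

theorem K_le_fix {x : G} (hx : x ∈ s.K) : x ∈ s.N := s.K_le hx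

theorem decomp_unique {a a' η η' : G} (ha : a ∈ s.K) (ha' : a' ∈ s.K) (hη : η ∈ s.H)
    (hη' : η' ∈ s.H) (e : a * η = a' * η') : a = a' ∧ η = η' := by
  have h1 : a'⁻¹ * a = η' * η⁻¹ := by
    calc a'⁻¹ * a = a'⁻¹ * (a * η) * η⁻¹ := by group
      _ = a'⁻¹ * (a' * η') * η⁻¹ := by rw [e]
      _ = η' * η⁻¹ := by group
  have h2 := s.K_inf_H (mul_mem (inv_mem ha') ha) (h1 ▸ s.H.mul_mem hη' (s.H.inv_mem hη))
  have h3 := h1 ▸ h2
  exact ⟨(inv_mul_eq_one.1 h2).symm, (mul_inv_eq_one.1 h3).symm⟩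

/-- The complement component. -/
noncomputable def projFun (g : s.N) : s.H :=
  ⟨_, (s.decomp g.2).choose_spec.2.choose_spec.1⟩

theorem projFun_spec (g : s.N) : ∃ a ∈ s.K, (g : G) = a * (s.projFun g : G) :=
  ⟨_, (s.decomp g.2).choose_spec.1, (s.decomp g.2).choose_spec.2.choose_spec.2⟩

theorem projFun_eq {g : s.N} {a η : G} (ha : a ∈ s.K) (hη : η ∈ s.H) (e : (g : G) = a * η) :
    (s.projFun g : G) = η := by
  obtain ⟨b, hb, hb'⟩ := s.projFun_spec g
  exact (s.decomp_unique hb ha (s.projFun g).2 hη (hb'.symm.trans e)).2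

/-- The projection of the stabilizer onto the complement. -/
noncomputable def proj : s.N →* s.H :=
  MonoidHom.mk' s.projFun fun g g' => by
    obtain ⟨a, ha, e⟩ := s.projFun_spec g
    obtain ⟨a', ha', e'⟩ := s.projFun_spec g'
    apply Subtype.ext
    rw [s.projFun_eq (a := a * ((s.projFun g : G) * a' * (s.projFun g : G)⁻¹))
      (η := (s.projFun g : G) * (s.projFun g' : G))
      (mul_mem ha (s.K_normal _ (s.projFun g).2.1 _ ha'))
      (s.H.mul_mem (s.projFun g).2 (s.projFun g').2)]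
    · rfl
    · rw [Subgroup.coe_mul]
      conv_lhs => rw [e, e']
      group

theorem proj_eq_one_iff {g : s.N} : s.proj g = 1 ↔ (g : G) ∈ s.K := by
  constructor
  · intro h
    obtain ⟨a, ha, e⟩ := s.projFun_spec g
    have : (s.projFun g : G) = 1 := congrArg Subtype.val h
    rw [e, this, mul_one]
    exact ha
  · intro h
    exact Subtype.ext (s.projFun_eq (g := g) h s.H.one_mem (mul_one _).symm)

theorem L0_le_L : s.L0 ≤ s.L := fun _ hx => ⟨s.K_le hx.1, hx.2⟩

/-- `|L| = |L0| d` with `d ∣ h`. -/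
theorem card_L : ∃ d, d ∣ s.h ∧ Nat.card s.L = Nat.card s.L0 * d := by
  let f : s.L →* s.H := s.proj.comp (Subgroup.inclusion inf_le_left)
  refine ⟨Nat.card f.range, Subgroup.card_subgroup_dvd_card _, ?_⟩
  have hker : f.ker = s.L0.subgroupOf s.L := by
    ext g
    rw [MonoidHom.mem_ker, Subgroup.mem_subgroupOf]
    change s.proj ⟨(g : G), g.2.1⟩ = 1 ↔ _
    rw [s.proj_eq_one_iff]
    exact ⟨fun h => ⟨h, g.2.2⟩, fun h => h.1⟩
  have := Subgroup.card_mul_index f.ker
  rw [Subgroup.index_ker, hker, Nat.card_congr (Subgroup.subgroupOfEquivOfLe s.L0_le_L).toEquiv]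
    at this
  exact this.symm

theorem L0_conj {g : G} (hg : g ∈ s.N) {x : G} :
    x ∈ s.K ∧ x • (g • s.C) = g • s.C ↔ g⁻¹ * x * g ∈ s.L0 := by
  rw [s.mem_L0, mul_smul, mul_smul, inv_smul_eq_iff]
  refine and_congr_left fun _ => ⟨fun h => s.K_conj' hg h, fun h => ?_⟩
  have := s.K_normal g hg _ h
  simpa [mul_assoc] using this

/-- The kernel stabilizers of the points of the second suborbit have the same order. -/
theorem card_stab {y : X} (hy : s.Dpt y) :
    Nat.card {x : G // x ∈ s.K ∧ x • y = y} = Nat.card s.L0 := by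
  obtain ⟨g, hg, rfl⟩ := hy
  refine Nat.card_congr ((MulAut.conj g⁻¹).toEquiv.subtypeEquiv fun x => ?_)
  rw [s.L0_conj hg]
  simp

/-- A kernel element fixing `C` fixes it inside the kernel at `C`; `L0` is invariant. -/
theorem swap_L0 {u : G} (h1 : u • s.A = s.C) (h2 : u • s.C = s.A) {x : G} (hx : x ∈ s.L0) :
    u * x * u⁻¹ ∈ s.L0 := by
  rw [s.mem_L0_iff] at hx ⊢
  obtain ⟨a1, a2, a3⟩ := hx
  have i1 : u⁻¹ • s.A = s.C := by rw [inv_smul_eq_iff, h2]
  have i2 : u⁻¹ • s.C = s.A := by rw [inv_smul_eq_iff, h1]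
  refine ⟨by rw [mul_smul, mul_smul, i1, a2, h2], by rw [mul_smul, mul_smul, i2, a1, h1], ?_⟩
  rw [conj_pow, a3]; simp

theorem L0_conj_L {g : G} (hg : g ∈ s.L) {x : G} (hx : x ∈ s.L0) : g * x * g⁻¹ ∈ s.L0 :=
  ⟨s.K_normal g hg.1 x hx.1,
    (stabilizer G s.C).mul_mem ((stabilizer G s.C).mul_mem hg.2 hx.2)
      ((stabilizer G s.C).inv_mem hg.2)⟩

end CfsgLib.FrobSuborbit.Frame
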