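import Cfsg.Agent.Lib.FrobSuborbit.Spectral
import Cfsg.Agent.Lib.FrobSuborbit.Kernel

/-!
The parameters of the orbital graph.
-/

set_option autoImplicit false
set_option linter.style.haveILetI false
set_option linter.unusedSectionVars false

open scoped Classical
open MulAction Finset

namespace CfsgLib.FrobSuborbit.Frame

variable {G X : Type*} [Group G] [MulAction G X] [Finite G] [Fintype X] (s : Frame G X)

/-- The non-neighbours of `B` on its suborbit form full orbits of the complement. -/
theorem exists_m : ∃ m, 1 ≤ m ∧ s.k = 1 + s.lam + s.h * m ∧ s.l * s.mu = s.k * (s.h * m) := by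
  let T := {y : X // s.Ipt y ∧ y ≠ s.B ∧ ¬ s.Adj s.B y}
  letI : MulAction s.H T :=
    { smul := fun g y => ⟨(g : G) • (y : X), (s.Ipt_smul g.2.1).2 y.2.1,
        fun e => y.2.2.1 (smul_left_cancel (g : G) (e.trans (mem_stabilizer_iff.1 g.2.2).symm)),
        fun e => y.2.2.2 ((s.adj_smul (g : G)).1 (by rw [mem_stabilizer_iff.1 g.2.2]; exact e))⟩
      one_smul := fun y => Subtype.ext (one_smul G (y : X))
      mul_smul := fun a b y => Subtype.ext (mul_smul (a : G) (b : G) (y : X)) }
  have hdvd : s.h ∣ Nat.card T := card_dvd_of_free fun g y e => by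
    by_contra h1
    exact y.2.2.1 (s.H_fix g.2 (fun e' => h1 (Subtype.ext e')) y.2.1 (congrArg Subtype.val e))
  have hk : s.k = 1 + s.lam + Nat.card T := by
    rw [Nat.card_eq_fintype_card, Fintype.card_subtype, lam, ← s.card_adj_eq s.A]
    rw [← card_filter_add_card_filter_not (fun y => s.Adj y s.B)
      (s := univ.filter fun Q => s.Adj s.A Q), filter_filter, filter_filter]
    have e : (univ.filter fun y => s.Adj s.A y ∧ ¬ s.Adj y s.B) =
        insert s.B (univ.filter fun y => s.Ipt y ∧ y ≠ s.B ∧ ¬ s.Adj s.B y) := by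
      ext y
      simp only [mem_filter, mem_univ, true_and, mem_insert, s.adj_A]
      constructor
      · rintro ⟨h1, h2⟩
        rcases eq_or_ne y s.B with h | h
        · exact Or.inl h
        · exact Or.inr ⟨h1, h, fun h' => h2 (s.adj_symm h')⟩
      · rintro (rfl | ⟨h1, -, h3⟩)
        · exact ⟨s.Ipt_B, s.adj_irrefl _⟩
        · exact ⟨h1, fun h' => h3 (s.adj_symm h')⟩
    rw [e, card_insert_of_notMem (by simp)]
    omega
  obtain ⟨m, hm⟩ := hdvd
  refine ⟨m, ?_, by rw [← hm]; exact hk, ?_⟩
  · obtain ⟨y, hy⟩ := s.exists_nadj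
    have : Nonempty T := ⟨⟨y, hy⟩⟩
    have : 0 < Nat.card T := Nat.card_pos
    rcases Nat.eq_zero_or_pos m with h | h
    · rw [hm, h, mul_zero] at this; omega
    · exact h
  · have h2 := s.count_paths
    rw [← hm]
    nlinarith

theorem fixNum_one : fixNum (X := X) (1 : G) = 1 + s.k + s.l := by
  rw [← s.card_X, fixNum, Nat.card_eq_fintype_card, ← card_univ]
  exact congrArg card (filter_true_of_mem fun P _ => one_smul G P)

theorem adjNum_one : s.adjNum (1 : G) = 0 := by
  rw [adjNum, card_eq_zero, filter_eq_empty_iff]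
  exact fun P _ => by rw [one_smul]; exact s.adj_irrefl P

end CfsgLib.FrobSuborbit.Frame
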