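import Cfsg.Agent.Lib.FrobSuborbit.Even
import Cfsg.Agent.Lib.FrobSuborbit.Params

/-!
The fixed points of the central involution on the second suborbit.
-/

set_option autoImplicit false
set_option linter.style.haveILetI false
set_option linter.unusedSectionVars false

open scoped Classical
open MulAction Finset

namespace CfsgLib.FrobSuborbit.Frame

variable {G X : Type*} [Group G] [MulAction G X] [Finite G] [Fintype X] {s : Frame G X} {z : G}

/-- The orbit of a fixed point under the kernel contains no other fixed point. -/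
theorem Inv.fixed_unique (hz : s.Inv z) {x : G} (hx : x ∈ s.K) {y : X} (h0 : z • y = y)
    (h1 : z • x • y = x • y) : x • y = y := by
  have e : x⁻¹ • y = x • y := by
    rw [← hz.inverts hx, mul_smul, mul_smul, inv_fix h0, h1]
  have hsq : (x * x) • y = y := by
    rw [mul_smul, ← e, smul_inv_smul]
  obtain ⟨j, hj⟩ := hz.k_odd
  have hpow : ∀ i : ℕ, ((x * x) ^ i) • y = y := by
    intro i
    induction i with
    | zero => simp
    | succ i ih => rw [pow_succ, mul_smul, hsq, ih]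
  have hxe : (x * x) ^ (j + 1) = x := by
    rw [← pow_two, ← pow_mul, show 2 * (j + 1) = s.k + 1 by omega, pow_succ,
      (s.mem_K_iff.1 hx).2, one_mul]
  have := hpow (j + 1)
  rwa [hxe] at this

theorem Inv.fix_H_smul (hz : s.Inv z) (hC : z • s.C = s.C) {η : G} (hη : η ∈ s.H) :
    z • η • s.C = η • s.C := by
  rw [← mul_smul, ← hz.central hη, mul_smul, hC]

theorem Inv.orbit_decomp (hC : z • s.C = s.C) (hz : s.Inv z) {y : X} (hy : s.Dpt y) :
    ∃ x ∈ s.K, ∃ η ∈ s.H, y = x • η • s.C ∧ z • η • s.C = η • s.C := by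
  obtain ⟨g, hg, rfl⟩ := hy
  obtain ⟨x, hx, η, hη, rfl⟩ := s.decomp hg
  exact ⟨x, hx, η, hη, mul_smul _ _ _, hz.fix_H_smul hC hη⟩

/-- Counting the second suborbit by the fixed points. -/
theorem Inv.k_mul_farFix (hz : s.Inv z) (hC : z • s.C = s.C) :
    s.k * s.farFix z = s.l * Nat.card s.L0 := by
  let F := univ.filter fun y : X => s.Dpt y ∧ z • y = y
  haveI := Fintype.ofFinite s.K
  let D := univ.filter s.Dpt
  have h1 : ((univ : Finset s.K) ×ˢ F).card = s.k * s.farFix z := by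
    rw [card_product, card_univ, farFix, k, Nat.card_eq_fintype_card]
  rw [← h1, card_eq_sum_card_fiberwise (f := fun p : s.K × X => (p.1 : G) • p.2) (t := D)
    (fun p hp => by
      obtain ⟨-, hp2⟩ := mem_product.1 hp
      exact mem_filter.2 ⟨mem_univ _, (s.Dpt_smul (s.K_le p.1.2)).2 (mem_filter.1 hp2).2.1⟩)]
  have hD : D.card = s.l := by
    rw [l, Nat.card_eq_fintype_card, Fintype.card_subtype]
  rw [← hD, ← smul_eq_mul, ← sum_const]
  refine sum_congr rfl fun y hy => ?_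
  obtain ⟨x, hx, η, hη, rfl, hfix⟩ := hz.orbit_decomp hC (mem_filter.1 hy).2
  have hDη : s.Dpt (η • s.C) := ⟨η, hη.1, rfl⟩
  rw [← s.card_stab hDη, ← Nat.card_eq_finsetCard]
  refine Nat.card_congr
    { toFun := fun p => ⟨x⁻¹ * (p.1.1 : G), mul_mem (inv_mem hx) p.1.1.2, ?_⟩
      invFun := fun a => ⟨(⟨x * a.1, mul_mem hx a.2.1⟩, η • s.C), ?_⟩
      left_inv := fun p => ?_
      right_inv := fun a => ?_ }
  · obtain ⟨⟨⟨a, ha⟩, y0⟩, hp⟩ := p
    simp only [mem_filter, mem_product, F, mem_univ, true_and] at hp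
    obtain ⟨⟨-, h0⟩, he⟩ := hp
    have e2 : (x⁻¹ * a) • y0 = η • s.C := by rw [mul_smul, he, inv_smul_smul]
    have e3 := hz.fixed_unique (mul_mem (inv_mem hx) ha) h0 (by rw [e2, hfix])
    rw [e2] at e3
    subst e3
    exact e2
  · simp only [mem_filter, mem_product, F, mem_univ, true_and]
    exact ⟨⟨hDη, hfix⟩, by rw [mul_smul, a.2.2]⟩
  · obtain ⟨⟨⟨a, ha⟩, y0⟩, hp⟩ := p
    simp only [mem_filter, mem_product, F, mem_univ, true_and] at hp
    obtain ⟨⟨-, h0⟩, he⟩ := hp
    have e2 : (x⁻¹ * a) • y0 = η • s.C := by rw [mul_smul, he, inv_smul_smul]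
    have e3 := hz.fixed_unique (mul_mem (inv_mem hx) ha) h0 (by rw [e2, hfix])
    rw [e2] at e3
    subst e3
    simp
  · simp

theorem Inv.fix_eq_H_smul (hz : s.Inv z) (hC : z • s.C = s.C) {y : X} (hy : s.Dpt y)
    (h : z • y = y) : ∃ η ∈ s.H, η • s.C = y := by
  obtain ⟨x, hx, η, hη, rfl, hfix⟩ := hz.orbit_decomp hC hy
  exact ⟨η, hη, (hz.fixed_unique hx hfix h).symm⟩

/-- The complement is transitive on the fixed points of the second suborbit. -/
theorem Inv.farFix_mul (hz : s.Inv z) (hC : z • s.C = s.C) :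
    s.farFix z * Nat.card (s.H ⊓ s.L : Subgroup G) = s.h := by
  have horb : Nat.card (orbit s.H s.C) = s.farFix z := by
    rw [farFix, ← Nat.card_eq_finsetCard]
    refine Nat.card_congr (Equiv.subtypeEquivRight fun y => ?_)
    simp only [mem_filter, mem_univ, true_and]
    constructor
    · rintro ⟨η, rfl⟩
      exact ⟨⟨η, η.2.1, rfl⟩, hz.fix_H_smul hC η.2⟩
    · rintro ⟨h1, h2⟩
      obtain ⟨η, hη, e⟩ := hz.fix_eq_H_smul hC h1 h2
      exact ⟨⟨η, hη⟩, e⟩
  have hst : Nat.card (stabilizer s.H s.C) = Nat.card (s.H ⊓ s.L : Subgroup G) :=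
    Nat.card_congr
      { toFun := fun g => ⟨(g : s.H), g.1.2, g.1.2.1, g.2⟩
        invFun := fun g => ⟨⟨g, g.2.1⟩, g.2.2.2⟩
        left_inv := fun _ => rfl
        right_inv := fun _ => rfl }
  haveI := Fintype.ofFinite (orbit s.H s.C)
  rw [← horb, ← hst, Nat.card_congr (orbitEquivQuotientStabilizer s.H s.C),
    ← Subgroup.index_eq_card, mul_comm, Subgroup.card_mul_index]
  rfl

theorem Inv.farFix_pos (hC : z • s.C = s.C) : 0 < s.farFix z :=
  card_pos.2 ⟨s.C, mem_filter.2 ⟨mem_univ _, s.Dpt_C, hC⟩⟩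

/-- `|L| = |L0| |H ∩ L|`. -/
theorem Inv.card_L_eq (hz : s.Inv z) (hC : z • s.C = s.C) :
    Nat.card s.L = Nat.card s.L0 * Nat.card (s.H ⊓ s.L : Subgroup G) := by
  have h1 := s.l_mul_card_L
  have h2 := hz.k_mul_farFix hC
  have h3 := hz.farFix_mul hC
  have hl := s.l_pos
  apply Nat.eq_of_mul_eq_mul_left hl
  rw [h1, ← h3, ← mul_assoc, h2, mul_assoc]

end CfsgLib.FrobSuborbit.Frame
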