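import Cfsg.Agent.Lib.FrobSuborbit.Params

/-!
The fixed point set of the kernel part of a two-point stabilizer and its normalizer.
-/

set_option autoImplicit false
set_option linter.style.haveILetI false
set_option linter.unusedSectionVars false

open scoped Classical
open MulAction Finset

namespace CfsgLib.FrobSuborbit.Frame

variable {G X : Type*} [Group G] [MulAction G X] [Finite G] [Fintype X] (s : Frame G X)

/-- Elements normalizing `L0`. -/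
def Nrm (g : G) : Prop := ∀ x ∈ s.L0, g * x * g⁻¹ ∈ s.L0

theorem nrm_mul {a b : G} (ha : s.Nrm a) (hb : s.Nrm b) : s.Nrm (a * b) := fun x hx => by
  have : a * b * x * (a * b)⁻¹ = a * (b * x * b⁻¹) * a⁻¹ := by group
  rw [this]
  exact ha _ (hb x hx)

theorem nrm_inv {a : G} (ha : s.Nrm a) : s.Nrm a⁻¹ := by
  intro x hx
  let f : s.L0 → s.L0 := fun y => ⟨a * y * a⁻¹, ha y y.2⟩
  have hf : Function.Injective f := fun u v e => Subtype.ext
    (mul_left_cancel (mul_right_cancel (congrArg Subtype.val e)))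
  obtain ⟨⟨y, hy⟩, e⟩ := Finite.injective_iff_surjective.1 hf ⟨x, hx⟩
  have e' : a * y * a⁻¹ = x := congrArg Subtype.val e
  rw [← e']
  simpa [mul_assoc] using hy

/-- The points fixed by `L0`. -/
noncomputable def orb : Finset X := univ.filter fun P => ∀ x ∈ s.L0, x • P = P

theorem mem_orb {P : X} : P ∈ s.orb ↔ ∀ x ∈ s.L0, x • P = P := by simp [orb]

theorem A_mem_orb : s.A ∈ s.orb := s.mem_orb.2 fun _ hx => s.fixA hx.1

theorem C_mem_orb : s.C ∈ s.orb := s.mem_orb.2 fun _ hx => hx.2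

theorem nrm_smul_orb {g : G} (hg : s.Nrm g) {P : X} (hP : P ∈ s.orb) : g • P ∈ s.orb :=
  s.mem_orb.2 fun x hx => by
    have h1 : g⁻¹ * x * g ∈ s.L0 := by simpa using s.nrm_inv hg x hx
    have h2 := s.mem_orb.1 hP _ h1
    rwa [mul_smul, mul_smul, inv_smul_eq_iff] at h2

variable {s}

theorem exists_L0_ne (h0 : s.L0 ≠ ⊥) : ∃ x ∈ s.L0, x ≠ 1 := by
  obtain ⟨⟨x, hx⟩, hne⟩ := (Subgroup.ne_bot_iff_exists_ne_one).1 h0
  exact ⟨x, hx, fun e => hne (Subtype.ext e)⟩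

theorem orb_Dpt (h0 : s.L0 ≠ ⊥) {P : X} (hP : P ∈ s.orb) (hA : P ≠ s.A) : s.Dpt P := by
  obtain ⟨x, hx, h1⟩ := exists_L0_ne h0
  exact s.Dpt_iff.2 ⟨hA, fun hI => s.K_fix hx.1 h1 hI (s.mem_orb.1 hP x hx)⟩

theorem orb_coclique (h0 : s.L0 ≠ ⊥) {P Q : X} (hP : P ∈ s.orb) (hQ : Q ∈ s.orb) :
    ¬ s.Adj P Q := by
  obtain ⟨x, hx, h1⟩ := exists_L0_ne h0
  exact s.not_adj_of_fix h1 ⟨s.mem_orb.1 hP x hx, (s.mem_K_iff.1 hx.1).2⟩ (s.mem_orb.1 hQ x hx)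

/-- A stabilizer element moving `C` into the orbit normalizes. -/
theorem nrm_of_mem {g : G} (hg : g ∈ s.N) (hP : g • s.C ∈ s.orb) : s.Nrm g := by
  have : s.Nrm g⁻¹ := fun x hx => by
    rw [inv_inv]
    exact (s.L0_conj hg).1 ⟨hx.1, s.mem_orb.1 hP x hx⟩
  simpa using s.nrm_inv this

theorem exists_nrm_A (h0 : s.L0 ≠ ⊥) {P : X} (hP : P ∈ s.orb) : ∃ j, s.Nrm j ∧ j • s.A = P := by
  rcases eq_or_ne P s.A with rfl | hne
  · exact ⟨1, fun x hx => by simpa using hx, one_smul _ _⟩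
  obtain ⟨u, u1, u2⟩ := s.swapC
  obtain ⟨g, hg, rfl⟩ := orb_Dpt h0 hP hne
  exact ⟨g * u, s.nrm_mul (nrm_of_mem hg hP) fun x hx => s.swap_L0 u1 u2 hx,
    by rw [mul_smul, u1]⟩

/-- The normalizer is doubly transitive on the fixed point set. -/
theorem exists_nrm_pair (h0 : s.L0 ≠ ⊥) {P Q : X} (hP : P ∈ s.orb) (hQ : Q ∈ s.orb) (hne : P ≠ Q) :
    ∃ j, s.Nrm j ∧ j • s.A = P ∧ j • s.C = Q := by
  obtain ⟨i, hi, rfl⟩ := exists_nrm_A h0 hP
  have hQ' : i⁻¹ • Q ∈ s.orb := s.nrm_smul_orb (s.nrm_inv hi) hQ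
  obtain ⟨g, hg, e⟩ := orb_Dpt h0 hQ' fun e => hne (inv_smul_eq_iff.1 e).symm
  exact ⟨i * g, s.nrm_mul hi (nrm_of_mem hg (e ▸ hQ')),
    by rw [mul_smul, mem_stabilizer_iff.1 hg], by rw [mul_smul, e, smul_inv_smul]⟩

end CfsgLib.FrobSuborbit.Frame
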