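import Cfsg.Agent.Lib.FrobSuborbit.EvenFix
import Cfsg.Agent.Lib.FrobSuborbit.Orbit

/-!
A complement of even order and a two-point stabilizer meeting the kernel: the orders `16 · 9 · 4`.
-/

set_option autoImplicit false
set_option linter.style.haveILetI false
set_option linter.unusedSectionVars false

open scoped Classical
open MulAction Finset

namespace CfsgLib.FrobSuborbit.Frame

variable {G X : Type*} [Group G] [MulAction G X] [Finite G] [Fintype X] {s : Frame G X} {z : G}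

theorem Inv.z_nrm (hz : s.Inv z) : s.Nrm z := fun x hx => by
  rw [hz.inverts hx.1]
  exact inv_mem hx

theorem Inv.K_nrm (hz : s.Inv z) {a : G} (ha : a ∈ s.K) : s.Nrm a := fun x hx => by
  rw [hz.K_comm ha hx.1, mul_inv_cancel_right]
  exact hx

variable [Fintype G]

/-- The conjugates of `z` in the normalizer fixing a point of the fixed point set. -/
noncomputable def Wset (s : Frame G X) (z : G) : Finset G :=
  (cls z).filter fun w => s.Nrm w ∧ ∃ P ∈ s.orb, w • P = P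

/-- Fixed points of `z` in the fixed point set of `L0`. -/
noncomputable def cnum (s : Frame G X) (z : G) : ℕ := (s.orb.filter fun P => z • P = P).card

theorem Inv.Wset_conj (hz : s.Inv z) (h0 : s.L0 ≠ ⊥) {w : G} (hw : w ∈ s.Wset z) :
    ∃ j, s.Nrm j ∧ j * z * j⁻¹ = w := by
  obtain ⟨h1, h2, P, hP, hPf⟩ := mem_filter.1 hw
  obtain ⟨j, hj, rfl⟩ := exists_nrm_A h0 hP
  have hmem : j⁻¹ * w * j ∈ s.N := by
    rw [mem_stabilizer_iff, mul_smul, mul_smul, hPf, inv_smul_smul]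
  have hsq : j⁻¹ * w * j * (j⁻¹ * w * j) = 1 := by
    calc j⁻¹ * w * j * (j⁻¹ * w * j) = j⁻¹ * (w * w) * j := by group
      _ = 1 := by rw [cls_sq hz.sq h1]; group
  have hne : j⁻¹ * w * j ≠ 1 := by
    intro e
    obtain ⟨g, rfl⟩ := mem_cls.1 h1
    have e2 : g * z * g⁻¹ = 1 := by
      calc g * z * g⁻¹ = j * (j⁻¹ * (g * z * g⁻¹) * j) * j⁻¹ := by group
        _ = 1 := by rw [e]; group
    rw [mul_inv_eq_one, mul_eq_left] at e2
    exact hz.ne e2
  obtain ⟨x, hx, e⟩ := hz.conj_of_sq hmem hsq hne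
  refine ⟨j * x, s.nrm_mul hj (hz.K_nrm hx), ?_⟩
  calc j * x * z * (j * x)⁻¹ = j * (x * z * x⁻¹) * j⁻¹ := by group
    _ = w := by rw [e]; group

theorem Inv.Wset_mem (hz : s.Inv z) {j : G} (hj : s.Nrm j) : j * z * j⁻¹ ∈ s.Wset z :=
  mem_filter.2 ⟨mem_cls.2 ⟨j, rfl⟩, s.nrm_mul (s.nrm_mul hj hz.z_nrm) (s.nrm_inv hj),
    j • s.A, s.nrm_smul_orb hj s.A_mem_orb, by rw [mul_smul, mul_smul, inv_smul_smul, hz.fixA]⟩

theorem Inv.Wset_fix (hz : s.Inv z) (h0 : s.L0 ≠ ⊥) {w : G} (hw : w ∈ s.Wset z) :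
    (s.orb.filter fun P => w • P = P).card = s.cnum z := by
  obtain ⟨j, hj, rfl⟩ := hz.Wset_conj h0 hw
  refine card_equiv (toPerm j⁻¹) fun P => ?_
  simp only [mem_filter, toPerm_apply]
  refine and_congr ⟨fun h => s.nrm_smul_orb (s.nrm_inv hj) h, fun h => ?_⟩ ?_
  · simpa using s.nrm_smul_orb hj h
  · simp [mul_smul, smul_eq_iff_eq_inv_smul]

theorem Inv.Wset_inverts (hz : s.Inv z) (h0 : s.L0 ≠ ⊥) {w x : G} (hw : w ∈ s.Wset z)
    (hx : x ∈ s.L0) : w * x * w⁻¹ = x⁻¹ := by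
  obtain ⟨j, hj, rfl⟩ := hz.Wset_conj h0 hw
  have h1 : j⁻¹ * x * j ∈ s.L0 := by simpa using s.nrm_inv hj x hx
  calc j * z * j⁻¹ * x * (j * z * j⁻¹)⁻¹ = j * (z * (j⁻¹ * x * j) * z⁻¹) * j⁻¹ := by group
    _ = x⁻¹ := by rw [hz.inverts h1.1]; group

/-- Members of the set interchanging two points differ by an element of `L0`. -/
theorem Inv.swap_AC_le (hz : s.Inv z) (h0 : s.L0 ≠ ⊥) :
    ((s.Wset z).filter fun w => w • s.A = s.C ∧ w • s.C = s.A).card ≤ Nat.card s.L0 := by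
  set S := (s.Wset z).filter fun w => w • s.A = s.C ∧ w • s.C = s.A with hS
  rcases S.eq_empty_or_nonempty with h | ⟨u, hu⟩
  · rw [h]; exact Nat.zero_le _
  obtain ⟨huW, u1, u2⟩ := mem_filter.1 hu
  obtain ⟨x0, hx0, hx01⟩ := exists_L0_ne h0
  have key : ∀ w ∈ S, w * u⁻¹ ∈ s.L0 := by
    intro w hw
    obtain ⟨hwW, w1, w2⟩ := mem_filter.1 hw
    have i1 : u⁻¹ • s.A = s.C := by rw [inv_smul_eq_iff, u2]
    have i2 : u⁻¹ • s.C = s.A := by rw [inv_smul_eq_iff, u1]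
    have hA : (w * u⁻¹) • s.A = s.A := by rw [mul_smul, i1, w2]
    refine ⟨s.cent_K hx0.1 hx01 hA ?_, mem_stabilizer_iff.2 (by rw [mul_smul, i2, w1])⟩
    have hw' := hz.Wset_inverts h0 hwW (inv_mem hx0)
    have hu' := hz.Wset_inverts h0 huW (inv_mem hx0)
    rw [inv_inv] at hw' hu'
    have hu'' : u⁻¹ * x0 * u = x0⁻¹ := by
      calc u⁻¹ * x0 * u = u⁻¹ * (u * x0⁻¹ * u⁻¹) * u := by rw [hu']
        _ = x0⁻¹ := by group
    calc w * u⁻¹ * x0 = w * (u⁻¹ * x0 * u) * u⁻¹ := by group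
      _ = w * x0⁻¹ * w⁻¹ * (w * u⁻¹) := by rw [hu'']; group
      _ = x0 * (w * u⁻¹) := by rw [hw']
  rw [← Nat.card_eq_finsetCard]
  refine Nat.card_le_card_of_injective (fun w => ⟨(w : G) * u⁻¹, key w w.2⟩) fun a b e => ?_
  exact Subtype.ext (mul_right_cancel (congrArg Subtype.val e))

theorem Inv.Wset_count (hz : s.Inv z) (h0 : s.L0 ≠ ⊥) :
    (s.Wset z).card * s.cnum z = s.orb.card * s.k := by
  have h1 : ∑ w ∈ s.Wset z, (s.orb.filter fun P => w • P = P).card =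
      (s.Wset z).card * s.cnum z := by
    rw [← smul_eq_mul, ← sum_const]
    exact sum_congr rfl fun w hw => hz.Wset_fix h0 hw
  rw [← h1]
  simp only [card_filter]
  rw [sum_comm, ← smul_eq_mul, ← sum_const]
  refine sum_congr rfl fun P hP => ?_
  rw [← card_filter, ← hz.cls_fixA]
  obtain ⟨j, hj, rfl⟩ := exists_nrm_A h0 hP
  refine card_equiv (MulAut.conj j⁻¹).toEquiv fun w => ?_
  simp only [mem_filter, MulEquiv.toEquiv_eq_coe, MulEquiv.coe_toEquiv, MulAut.conj_apply, inv_inv]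
  constructor
  · rintro ⟨hw, e⟩
    exact ⟨by simpa using conj_mem_cls j⁻¹ (mem_filter.1 hw).1,
      by rw [mul_smul, mul_smul, e, inv_smul_smul]⟩
  · rintro ⟨hw, e⟩
    have hw' : w ∈ cls z := by simpa [mul_assoc] using conj_mem_cls j hw
    have e' : w • j • s.A = j • s.A := by
      rw [mul_smul, mul_smul, inv_smul_eq_iff] at e; exact e
    have hne : j⁻¹ * w * j ≠ 1 := by
      intro e1
      obtain ⟨g, hg⟩ := mem_cls.1 hw
      rw [e1, mul_inv_eq_one, mul_eq_left] at hg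
      exact hz.ne hg
    obtain ⟨x, hx, e2⟩ := hz.conj_of_sq (by rw [mem_stabilizer_iff]; exact e)
      (cls_sq hz.sq hw) hne
    refine ⟨?_, e'⟩
    have : w = (j * x) * z * (j * x)⁻¹ := by
      calc w = j * (j⁻¹ * w * j) * j⁻¹ := by group
        _ = j * (x * z * x⁻¹) * j⁻¹ := by rw [e2]
        _ = _ := by group
    rw [this]
    exact hz.Wset_mem (s.nrm_mul hj (hz.K_nrm hx))

/-- The basic inequality on the fixed point set. -/
theorem Inv.orb_ineq (hz : s.Inv z) (h0 : s.L0 ≠ ⊥) :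
    s.k * (s.orb.card - s.cnum z) ≤ s.cnum z * ((s.orb.card - 1) * Nat.card s.L0) := by
  have hM : 0 < s.orb.card := card_pos.2 ⟨_, s.A_mem_orb⟩
  have h1 : ∑ w ∈ s.Wset z, (s.orb.filter fun P => w • P ≠ P).card =
      (s.Wset z).card * (s.orb.card - s.cnum z) := by
    rw [← smul_eq_mul, ← sum_const]
    refine sum_congr rfl fun w hw => ?_
    rw [← hz.Wset_fix h0 hw, filter_not, card_sdiff_of_subset (filter_subset _ _)]
  have h2 : ∑ w ∈ s.Wset z, (s.orb.filter fun P => w • P ≠ P).card ≤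
      s.orb.card * ((s.orb.card - 1) * Nat.card s.L0) := by
    simp only [card_filter]
    rw [sum_comm, ← smul_eq_mul, ← sum_const]
    refine sum_le_sum fun P hP => ?_
    rw [← card_filter, card_eq_sum_card_fiberwise (f := fun w => w • P) (t := s.orb.erase P)
      (fun w hw => by
        obtain ⟨hw1, hw2⟩ := mem_filter.1 hw
        exact mem_erase.2 ⟨hw2, s.nrm_smul_orb (mem_filter.1 hw1).2.1 hP⟩),
      ← card_erase_of_mem hP, ← smul_eq_mul, ← sum_const]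
    refine sum_le_sum fun Q hQ => ?_
    obtain ⟨hne, hQ'⟩ := mem_erase.1 hQ
    obtain ⟨j, hj, rfl, rfl⟩ := exists_nrm_pair h0 hP hQ' hne.symm
    refine le_trans ?_ (hz.swap_AC_le h0)
    rw [← card_map (MulAut.conj j⁻¹).toEquiv.toEmbedding]
    refine card_le_card fun v hv => ?_
    obtain ⟨w, hw, rfl⟩ := mem_map.1 hv
    simp only [mem_filter] at hw
    obtain ⟨⟨hwW, -⟩, e⟩ := hw
    have e1 : w • j • s.C = j • s.A := by
      rw [← e, ← mul_smul, cls_sq hz.sq (mem_filter.1 hwW).1, one_smul]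
    simp only [Equiv.toEmbedding_apply, MulEquiv.toEquiv_eq_coe, MulEquiv.coe_toEquiv,
      MulAut.conj_apply, inv_inv, mem_filter, mul_smul, inv_smul_eq_iff]
    obtain ⟨i, hi, rfl⟩ := hz.Wset_conj h0 hwW
    refine ⟨?_, e, e1⟩
    have : j⁻¹ * (i * z * i⁻¹) * j = (j⁻¹ * i) * z * (j⁻¹ * i)⁻¹ := by group
    rw [this]
    exact hz.Wset_mem (s.nrm_mul (s.nrm_inv hj) hi)
  rw [h1] at h2
  have h3 := hz.Wset_count h0
  have h4 : s.cnum z * ((s.Wset z).card * (s.orb.card - s.cnum z)) ≤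
      s.cnum z * (s.orb.card * ((s.orb.card - 1) * Nat.card s.L0)) := Nat.mul_le_mul_left _ h2
  have h5 : s.orb.card * (s.k * (s.orb.card - s.cnum z)) ≤
      s.orb.card * (s.cnum z * ((s.orb.card - 1) * Nat.card s.L0)) := by
    rw [← mul_assoc, ← h3]
    calc _ = s.cnum z * ((s.Wset z).card * (s.orb.card - s.cnum z)) := by ring
      _ ≤ _ := h4
      _ = _ := by ring
  exact Nat.le_of_mul_le_mul_left h5 hM

theorem L0_lt (h0 : s.L0 ≠ ⊥) : Nat.card s.L0 < s.k := by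
  refine lt_of_le_of_ne (Subgroup.card_le_of_le inf_le_left) fun e => h0 ?_
  have hK : s.L0 = s.K := Subgroup.eq_of_le_of_card_ge inf_le_left e.ge
  exact s.normal_le_L0 le_rfl fun g hg x hx => by
    rw [hK] at hx ⊢
    exact s.K_normal g hg x hx

/-- The central involution fixes a point of the second suborbit. -/
theorem Inv.exists_far_fixed (hz : s.Inv z) (h0 : s.L0 ≠ ⊥) :
    ∃ y, s.Dpt y ∧ z • y = y := by
  by_contra hcon
  push Not at hcon
  have hc : s.cnum z = 1 := by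
    rw [cnum, card_eq_one]
    refine ⟨s.A, ?_⟩
    ext P
    simp only [mem_filter, mem_singleton]
    constructor
    · rintro ⟨hP, h⟩
      by_contra hne
      exact hcon P (orb_Dpt h0 hP hne) h
    · rintro rfl
      exact ⟨s.A_mem_orb, hz.fixA⟩
  have h1 := hz.orb_ineq h0
  rw [hc, one_mul] at h1
  have h2 : 2 ≤ s.orb.card := one_lt_card.2 ⟨s.A, s.A_mem_orb, s.C, s.C_mem_orb, s.C_ne.symm⟩
  have h3 := L0_lt (s := s) h0
  have h4 : (s.orb.card - 1) * Nat.card s.L0 < (s.orb.card - 1) * s.k :=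
    Nat.mul_lt_mul_of_pos_left h3 (by omega)
  rw [mul_comm] at h1
  omega

section Far

variable (hz : s.Inv z) (hC : z • s.C = s.C) (h0 : s.L0 ≠ ⊥)
include hz hC h0

/-- The kernel orbits inside the fixed point set. -/
theorem Inv.orb_count : s.k * (s.cnum z - 1) = (s.orb.card - 1) * Nat.card s.L0 := by
  let F := (s.orb.filter fun P => z • P = P).erase s.A
  let D := s.orb.erase s.A
  haveI := Fintype.ofFinite s.K
  have hA : s.A ∈ s.orb.filter fun P => z • P = P := mem_filter.2 ⟨s.A_mem_orb, hz.fixA⟩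
  have h1 : ((univ : Finset s.K) ×ˢ F).card = s.k * (s.cnum z - 1) := by
    rw [card_product, card_univ, card_erase_of_mem hA, k, Nat.card_eq_fintype_card, cnum]
  rw [← h1, ← card_erase_of_mem s.A_mem_orb, ← smul_eq_mul, ← sum_const]
  rw [card_eq_sum_card_fiberwise (f := fun p : s.K × X => (p.1 : G) • p.2) (t := D)
    (fun p hp => by
      obtain ⟨-, hp2⟩ := mem_product.1 hp
      obtain ⟨hne, hp3⟩ := mem_erase.1 hp2
      refine mem_erase.2 ⟨fun e => hne ?_, s.nrm_smul_orb (hz.K_nrm p.1.2) (mem_filter.1 hp3).1⟩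
      rwa [← eq_inv_smul_iff, inv_fix (s.fixA p.1.2)] at e)]
  refine sum_congr rfl fun y hy => ?_
  obtain ⟨hyA, hyO⟩ := mem_erase.1 hy
  have hyD := orb_Dpt h0 hyO hyA
  obtain ⟨x, hx, η, hη, e, hfix⟩ := hz.orbit_decomp hC hyD
  have hy0 : η • s.C ∈ s.orb := by
    have := s.nrm_smul_orb (s.nrm_inv (hz.K_nrm hx)) hyO
    rwa [e, inv_smul_smul] at this
  have hDη : s.Dpt (η • s.C) := ⟨η, hη.1, rfl⟩
  subst e
  rw [← s.card_stab hDη, ← Nat.card_eq_finsetCard]
  refine Nat.card_congr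
    { toFun := fun p => ⟨x⁻¹ * (p.1.1 : G), mul_mem (inv_mem hx) p.1.1.2, ?_⟩
      invFun := fun a => ⟨(⟨x * a.1, mul_mem hx a.2.1⟩, η • s.C), ?_⟩
      left_inv := fun p => ?_
      right_inv := fun a => ?_ }
  · obtain ⟨⟨⟨a, ha⟩, y0⟩, hp⟩ := p
    simp only [mem_filter, mem_product, F, mem_univ, true_and, mem_erase] at hp
    obtain ⟨⟨-, -, h00⟩, he⟩ := hp
    have e2 : (x⁻¹ * a) • y0 = η • s.C := by rw [mul_smul, he, inv_smul_smul]
    have e3 := hz.fixed_unique (mul_mem (inv_mem hx) ha) h00 (by rw [e2, hfix])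
    rw [e2] at e3
    subst e3
    exact e2
  · simp only [mem_filter, mem_product, F, mem_univ, true_and, mem_erase]
    exact ⟨⟨Dpt.ne_A s hDη, hy0, hfix⟩, by rw [mul_smul, a.2.2]⟩
  · obtain ⟨⟨⟨a, ha⟩, y0⟩, hp⟩ := p
    simp only [mem_filter, mem_product, F, mem_univ, true_and, mem_erase] at hp
    obtain ⟨⟨-, -, h00⟩, he⟩ := hp
    have e2 : (x⁻¹ * a) • y0 = η • s.C := by rw [mul_smul, he, inv_smul_smul]
    have e3 := hz.fixed_unique (mul_mem (inv_mem hx) ha) h00 (by rw [e2, hfix])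
    rw [e2] at e3
    subst e3
    simp
  · simp

/-- The normalizing part of the complement. -/
theorem Inv.card_nrm_H : ∃ h0' e1, h0' * e1 = Nat.card {η : G // η ∈ s.H ∧ s.Nrm η} ∧
    h0' = s.cnum z - 1 ∧ e1 = Nat.card (s.H ⊓ s.L : Subgroup G) := by
  refine ⟨_, _, ?_, rfl, rfl⟩
  let J : Subgroup G :=
    { carrier := {η | η ∈ s.H ∧ s.Nrm η}
      mul_mem' := fun ha hb => ⟨s.H.mul_mem ha.1 hb.1, s.nrm_mul ha.2 hb.2⟩
      one_mem' := ⟨s.H.one_mem, fun x hx => by simpa using hx⟩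
      inv_mem' := fun ha => ⟨s.H.inv_mem ha.1, s.nrm_inv ha.2⟩ }
  have horb : Nat.card (orbit J s.C) = s.cnum z - 1 := by
    have hA : s.A ∈ s.orb.filter fun P => z • P = P := mem_filter.2 ⟨s.A_mem_orb, hz.fixA⟩
    rw [cnum, ← card_erase_of_mem hA,
      ← Nat.card_eq_finsetCard]
    refine Nat.card_congr (Equiv.subtypeEquivRight fun y => ?_)
    simp only [mem_erase, mem_filter]
    constructor
    · rintro ⟨⟨η, hη, hn⟩, rfl⟩
      exact ⟨Dpt.ne_A s ⟨η, hη.1, rfl⟩, s.nrm_smul_orb hn s.C_mem_orb, hz.fix_H_smul hC hη⟩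
    · rintro ⟨h1, h2, h3⟩
      obtain ⟨η, hη, rfl⟩ := hz.fix_eq_H_smul hC (orb_Dpt h0 h2 h1) h3
      exact ⟨⟨η, hη, nrm_of_mem hη.1 h2⟩, rfl⟩
  have hst : Nat.card (stabilizer J s.C) = Nat.card (s.H ⊓ s.L : Subgroup G) :=
    Nat.card_congr
      { toFun := fun g => ⟨(g : J), g.1.2.1, g.1.2.1.1, g.2⟩
        invFun := fun g => ⟨⟨g, g.2.1, fun x hx => s.L0_conj_L g.2.2 hx⟩, g.2.2.2⟩
        left_inv := fun _ => rfl
        right_inv := fun _ => rfl }
  haveI := Fintype.ofFinite (orbit J s.C)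
  rw [← horb, ← hst, Nat.card_congr (orbitEquivQuotientStabilizer J s.C),
    ← Subgroup.index_eq_card, mul_comm, Subgroup.card_mul_index]
  rfl

/-- The normalizing part of the complement acts freely outside `L0`. -/
theorem Inv.nrm_H_dvd :
    Nat.card {η : G // η ∈ s.H ∧ s.Nrm η} ∣ s.k - Nat.card s.L0 := by
  let J : Subgroup G :=
    { carrier := {η | η ∈ s.H ∧ s.Nrm η}
      mul_mem' := fun ha hb => ⟨s.H.mul_mem ha.1 hb.1, s.nrm_mul ha.2 hb.2⟩
      one_mem' := ⟨s.H.one_mem, fun x hx => by simpa using hx⟩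
      inv_mem' := fun ha => ⟨s.H.inv_mem ha.1, s.nrm_inv ha.2⟩ }
  let T := {x : G // x ∈ s.K ∧ x ∉ s.L0}
  letI : MulAction J T :=
    { smul := fun g x => ⟨(g : G) * x * (g : G)⁻¹, s.K_normal _ g.2.1.1 _ x.2.1,
        fun e => x.2.2 (by
          have := s.nrm_inv g.2.2 _ e
          simpa [mul_assoc] using this)⟩
      one_smul := fun x => Subtype.ext (show (1 : G) * (x : G) * (1 : G)⁻¹ = x by simp)
      mul_smul := fun a b x => Subtype.ext
        (show ((a : G) * b) * (x : G) * ((a : G) * b)⁻¹ = a * (b * x * (b : G)⁻¹) * (a : G)⁻¹ by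
          group) }
  have hT : Nat.card T = s.k - Nat.card s.L0 := by
    rw [k]
    have : Nat.card T = ((s.K : Set G) \ (s.L0 : Set G)).ncard := by
      rw [← Nat.card_coe_set_eq]; rfl
    rw [this, Set.ncard_sdiff (fun x hx => hx.1), ← Nat.card_coe_set_eq, ← Nat.card_coe_set_eq]
    rfl
  rw [← hT]
  refine card_dvd_of_free (S := J) fun g x e => ?_
  by_contra h1
  have e' : (g : G) * x * (g : G)⁻¹ = x := congrArg Subtype.val e
  have hx1 : (x : G) ≠ 1 := fun e2 => x.2.2 (e2 ▸ one_mem _)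
  exact h1 (Subtype.ext (s.K_inf_H (s.cent_K x.2.1 hx1 g.2.1.1
    (by rwa [mul_inv_eq_iff_eq_mul] at e')) g.2.1))

/-- The kernel part has index three, the fixed point set has four points and `|H ∩ L| = 2`. -/
theorem Inv.nontriv_index :
    s.k = 3 * Nat.card s.L0 ∧ s.cnum z = 2 ∧ s.orb.card = 4 ∧
      Nat.card (s.H ⊓ s.L : Subgroup G) = 2 := by
  have h1 := hz.orb_ineq h0
  have h2 := hz.orb_count hC h0
  obtain ⟨e0, ℓ, hel, he0, hℓ⟩ := hz.card_nrm_H hC h0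
  have h3 := hz.nrm_H_dvd hC h0
  rw [← hel] at h3
  have hc : s.cnum z = e0 + 1 := by
    have : 0 < s.cnum z := card_pos.2 ⟨s.A, mem_filter.2 ⟨s.A_mem_orb, hz.fixA⟩⟩
    omega
  have he0pos : 1 ≤ e0 := by
    have : 2 ≤ s.cnum z := one_lt_card.2
      ⟨s.A, mem_filter.2 ⟨s.A_mem_orb, hz.fixA⟩, s.C, mem_filter.2 ⟨s.C_mem_orb, hC⟩, s.C_ne.symm⟩
    omega
  have hℓ2 : 2 ≤ ℓ := by
    rw [hℓ]
    have : Nontrivial (s.H ⊓ s.L : Subgroup G) :=
      ⟨⟨⟨z, hz.mem, hz.mem.1, hC⟩, 1, fun e => hz.ne (congrArg Subtype.val e)⟩⟩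
    exact Finite.one_lt_card
  obtain ⟨w, hw⟩ : Nat.card s.L0 ∣ s.k := Subgroup.card_dvd_of_le inf_le_left
  have hL0 : 0 < Nat.card s.L0 := Nat.card_pos
  have hlt := L0_lt (s := s) h0
  set L0c := Nat.card s.L0
  set M := s.orb.card
  rw [hc] at h1 h2
  simp only [Nat.add_sub_cancel] at h2
  have hM : M - 1 = e0 * w := by
    apply Nat.eq_of_mul_eq_mul_right hL0
    rw [← h2, hw]; ring
  have hM1 : M = e0 * w + 1 := by
    have : 0 < M := card_pos.2 ⟨_, s.A_mem_orb⟩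
    omega
  have hw1 : 2 ≤ w := by
    rcases Nat.lt_or_ge w 2 with h | h
    · interval_cases w <;> omega
    · exact h
  -- `w ≤ e0 + 2`
  have h4 : w * (M - (e0 + 1)) ≤ (e0 + 1) * (e0 * w) := by
    rw [hM, hw] at h1
    apply Nat.le_of_mul_le_mul_left _ hL0
    calc L0c * (w * (M - (e0 + 1))) = L0c * w * (M - (e0 + 1)) := by ring
      _ ≤ _ := h1
      _ = _ := by ring
  have h5 : M - (e0 + 1) ≤ (e0 + 1) * e0 :=
    Nat.le_of_mul_le_mul_left (by rw [← mul_assoc w] at *; nlinarith [h4]) (by omega : 0 < w)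
  have h6 : w ≤ e0 + 2 := by
    by_contra hgt
    push Not at hgt
    have : e0 * (e0 + 3) ≤ e0 * w := Nat.mul_le_mul_left _ hgt
    rw [hM1] at h5
    have : e0 * w ≤ (e0 + 1) * e0 + e0 := by omega
    nlinarith
  -- `e0 ℓ` divides `w - 1`
  have h7 : e0 * ℓ ∣ w - 1 := by
    have h8 : s.k - L0c = L0c * (w - 1) := by rw [hw, Nat.mul_sub, mul_one]
    rw [h8] at h3
    refine Nat.Coprime.dvd_of_dvd_mul_left ?_ h3
    refine Nat.Coprime.coprime_dvd_left ?_ (s.coprime.coprime_dvd_right ⟨w, hw⟩)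
    rw [hel]
    let J : Subgroup G :=
      { carrier := {η | η ∈ s.H ∧ s.Nrm η}
        mul_mem' := fun ha hb => ⟨s.H.mul_mem ha.1 hb.1, s.nrm_mul ha.2 hb.2⟩
        one_mem' := ⟨s.H.one_mem, fun x hx => by simpa using hx⟩
        inv_mem' := fun ha => ⟨s.H.inv_mem ha.1, s.nrm_inv ha.2⟩ }
    exact Subgroup.card_dvd_of_le (fun η (hη : η ∈ J) => hη.1)
  have h9 : e0 * ℓ ≤ w - 1 := Nat.le_of_dvd (by omega) h7
  have h10 : e0 * 2 ≤ e0 * ℓ := Nat.mul_le_mul_left _ hℓ2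
  have he : e0 = 1 := by omega
  subst he
  rw [one_mul] at h9 hM
  refine ⟨by rw [hw]; have : w = 3 := by omega
             subst this; ring, hc, by omega, by omega⟩

end Far

end CfsgLib.FrobSuborbit.Frame
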