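import Cfsg.Agent.Lib.FrobSuborbit.EvenNontriv

/-!
The case `|G| = 16 · 9 · 4`.
-/

set_option autoImplicit false
set_option linter.style.haveILetI false
set_option linter.unusedSectionVars false

open scoped Classical
open MulAction Finset

namespace CfsgLib.FrobSuborbit.Frame

variable {G X : Type*} [Group G] [MulAction G X] [Finite G] [Fintype X] {s : Frame G X} {z : G}

/-- Subsets of the Frobenius suborbit counted in the kernel. -/
theorem card_Ipt_filter (s : Frame G X) [Fintype s.K] (P : X → Prop) :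
    (univ.filter fun y => s.Ipt y ∧ P y).card =
      ((univ : Finset s.K).filter fun x : s.K => P ((x : G) • s.B)).card := by
  symm
  refine card_bij (fun (x : s.K) _ => (x : G) • s.B) ?_ ?_ ?_
  · intro x hx
    exact mem_filter.2 ⟨mem_univ _, (s.Ipt_smul (s.K_le x.2)).2 s.Ipt_B, (mem_filter.1 hx).2⟩
  · rintro ⟨a, ha⟩ _ ⟨b, hb⟩ _ (e : a • s.B = b • s.B)
    exact Subtype.ext (inv_mul_eq_one.1
      (s.K_free _ (mul_mem (inv_mem ha) hb) (by rw [mul_smul, ← e, inv_smul_smul])))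
  · intro y hy
    obtain ⟨-, ⟨g, hg, rfl⟩, hP⟩ := mem_filter.1 hy
    obtain ⟨x, hx, e⟩ := s.K_trans g hg
    exact ⟨⟨x, hx⟩, mem_filter.2 ⟨mem_univ _, by rw [← e] at hP; exact hP⟩, e⟩

theorem Inv.sq_bij (hz : s.Inv z) :
    Function.Bijective fun x : s.K => (⟨(x : G) * x, mul_mem x.2 x.2⟩ : s.K) := by
  refine Finite.surjective_iff_bijective.1 fun a => ?_
  obtain ⟨x, hx, e⟩ := hz.sqrt a.2
  exact ⟨⟨x, hx⟩, Subtype.ext e⟩

theorem Inv.adj_moves_Ipt (hz : s.Inv z) :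
    (univ.filter fun y => s.Ipt y ∧ s.Adj y (z • y)).card = s.lam := by
  haveI := Fintype.ofFinite s.K
  have h2 : s.lam = (univ.filter fun y => s.Ipt y ∧ s.Adj y s.B).card :=
    congrArg card (filter_congr fun y _ => and_congr s.adj_A Iff.rfl)
  rw [h2, s.card_Ipt_filter, s.card_Ipt_filter]
  refine card_equiv (Equiv.ofBijective _ hz.sq_bij) fun x => ?_
  simp only [mem_filter, mem_univ, true_and, Equiv.ofBijective_apply]
  have e : z • (x : G) • s.B = (x : G)⁻¹ • s.B := by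
    rw [← hz.inverts x.2, mul_smul, mul_smul, inv_fix hz.fixB]
  rw [e, mul_smul]
  conv_lhs => rw [← s.adj_smul (x : G)]
  rw [smul_inv_smul]

theorem Inv.adjNum_nontriv (hz : s.Inv z) (hC : z • s.C = s.C) (h0 : s.L0 ≠ ⊥) :
    s.adjNum z = s.lam := by
  rw [← hz.adj_moves_Ipt, adjNum]
  congr 1
  ext y
  simp only [mem_filter, mem_univ, true_and]
  refine ⟨fun h => ⟨?_, h⟩, fun h => h.2⟩
  rcases s.cover y with rfl | hI | hD
  · exact absurd (by rwa [hz.fixA] at h) (s.adj_irrefl _)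
  · exact hI
  · exfalso
    obtain ⟨x, hx, η, hη, rfl, hfix⟩ := hz.orbit_decomp hC hD
    have e : z • x • η • s.C = x⁻¹ • η • s.C := by
      rw [← hz.inverts hx, mul_smul, mul_smul, inv_fix hfix]
    have hmv : ∀ a ∈ s.K, a • η • s.C = η • (η⁻¹ * a * η) • s.C := fun a _ => by
      rw [← mul_smul, ← mul_smul]; group
    rw [e, hmv x hx, hmv x⁻¹ (inv_mem hx), s.adj_smul] at h
    exact orb_coclique h0 (s.nrm_smul_orb (hz.K_nrm (s.K_conj' hη.1 hx)) s.C_mem_orb)
      (s.nrm_smul_orb (hz.K_nrm (s.K_conj' hη.1 (inv_mem hx))) s.C_mem_orb) h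

variable [Fintype G]

theorem Inv.swapC_ge (hz : s.Inv z) (hC : z • s.C = s.C) (h0 : s.L0 ≠ ⊥) :
    Nat.card s.L0 ≤ (swap z s.A s.C).card := by
  obtain ⟨hk, -, -, -⟩ := hz.nontriv_index hC h0
  obtain ⟨x, hx, hxL⟩ : ∃ x ∈ s.K, x ∉ s.L0 := by
    by_contra hcon
    push Not at hcon
    have := Subgroup.card_le_of_le (show s.K ≤ s.L0 from hcon)
    have hp : 0 < Nat.card s.L0 := Nat.card_pos
    have : s.k ≤ Nat.card s.L0 := this
    omega
  have hD : x • s.C ∈ s.orb := s.nrm_smul_orb (hz.K_nrm hx) s.C_mem_orb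
  have hzD : z • x • s.C ∈ s.orb := s.nrm_smul_orb hz.z_nrm hD
  have hne : x • s.C ≠ z • x • s.C := fun e =>
    hxL ⟨hx, mem_stabilizer_iff.2 (hz.fixed_unique hx hC e.symm)⟩
  obtain ⟨j, hj, j1, j2⟩ := exists_nrm_pair h0 hD hzD hne
  set w := j⁻¹ * z * j with hw
  have hwc : w ∈ cls z := mem_cls.2 ⟨j⁻¹, by rw [hw, inv_inv]⟩
  have w1 : w • s.A = s.C := by rw [hw, mul_smul, mul_smul, j1, inv_smul_eq_iff, j2]
  have w2 : w • s.C = s.A := by
    rw [hw, mul_smul, mul_smul, j2, inv_smul_eq_iff, j1, hz.zz_smul]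
  have winv : ∀ y ∈ s.L0, w * y * w⁻¹ = y⁻¹ := fun y hy => by
    have h1 := hz.inverts (hj y hy).1
    calc w * y * w⁻¹ = j⁻¹ * (z * (j * y * j⁻¹) * z⁻¹) * j := by rw [hw]; group
      _ = j⁻¹ * (j * y * j⁻¹)⁻¹ * j := by rw [h1]
      _ = y⁻¹ := by group
  rw [← Nat.card_eq_finsetCard]
  refine Nat.card_le_card_of_injective (fun y : s.L0 => ⟨(y : G) * w, ?_⟩) fun a b e => ?_
  · obtain ⟨v, hv, e⟩ := hz.sqrt y.2.1
    have hvC : v ∈ s.L0 := by
      obtain ⟨i, hi⟩ := hz.k_odd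
      have : v = (y : G) ^ (i + 1) := by
        rw [← e, ← pow_two, ← pow_mul, show 2 * (i + 1) = s.k + 1 by omega, pow_succ,
          (s.mem_K_iff.1 hv).2, one_mul]
      rw [this]
      exact pow_mem y.2 _
    refine mem_swap.2 ⟨?_, ?_, ?_⟩
    · have : (y : G) * w = v * w * v⁻¹ := by
        calc (y : G) * w = v * (v * w) := by rw [← e, mul_assoc]
          _ = v * ((w * v⁻¹ * w⁻¹) * w) := by rw [winv _ (inv_mem hvC), inv_inv]
          _ = v * w * v⁻¹ := by group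
      rw [this]
      exact conj_mem_cls v hwc
    · rw [mul_smul, w1, mem_stabilizer_iff.1 y.2.2]
    · rw [mul_smul, w2, s.fixA y.2.1]
  · exact Subtype.ext (mul_right_cancel (congrArg Subtype.val e))

/-- The case with nontrivial kernel part has degree `16` and stabilizer order `36`. -/
theorem Inv.nontriv_final (hz : s.Inv z) (hC : z • s.C = s.C) (h0 : s.L0 ≠ ⊥) :
    Nat.card X = 16 ∧ s.k * s.h = 36 := by
  obtain ⟨hk, -, horb, hℓ⟩ := hz.nontriv_index hC h0
  set L0c := Nat.card s.L0 with hL0c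
  have hp : 0 < L0c := Nat.card_pos
  set t := s.farFix z with ht
  have hh : s.h = 2 * t := by rw [← hz.farFix_mul hC, hℓ, mul_comm]
  have hl : s.l = 3 * t := by
    apply Nat.eq_of_mul_eq_mul_right hp
    rw [← hz.k_mul_farFix hC, hk]; ring
  have hF : fixNum (X := X) z = 2 + t := hz.fixNum_eq
  obtain ⟨m, hm, hlam, hmu⟩ := s.exists_m
  have hml : s.mu * 3 * t = s.k * (2 * t * m) := by
    rw [← hh, ← hmu, hl]; ring
  have htpos : 0 < t := Inv.farFix_pos hC
  have hmu3 : s.mu * 3 = 2 * m * s.k := by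
    apply Nat.eq_of_mul_eq_mul_right htpos
    rw [hml]; ring
  have hm1 : m = 1 := by
    have h1 := s.mu_le
    have h2 := s.k_pos
    by_contra hne
    have : 2 * 2 * s.k ≤ 2 * m * s.k := Nat.mul_le_mul_right _ (by omega)
    omega
  subst hm1
  have hadd := s.adjNum_add z
  rw [hz.adjNum_nontriv hC h0, hF, s.card_X, hl] at hadd
  have hfar : s.farNum z = 4 * t := by omega
  have heq := hz.farNum_eq
  rw [hfar, hF, hl] at heq
  have hq := hz.swapC_ge hC h0
  -- `t ≤ 2`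
  have ht2 : t ≤ 2 := by
    have h1 : (2 + t) * (3 * t * L0c) ≤ s.k * (4 * t) := by
      rw [heq]
      exact Nat.mul_le_mul_left _ (Nat.mul_le_mul_left _ hq)
    rw [hk] at h1
    have h2 : (2 + t) * (3 * t * L0c) ≤ 4 * (3 * t * L0c) := by
      calc (2 + t) * (3 * t * L0c) ≤ 3 * L0c * (4 * t) := h1
        _ = _ := by ring
    have := Nat.le_of_mul_le_mul_right h2 (by positivity)
    omega
  -- `t ≠ 1`
  have ht1 : t ≠ 1 := by
    intro e
    refine h0 (s.normal_le_L0 le_rfl fun g hg x hx => ?_)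
    obtain ⟨a, ha, η, hη, rfl⟩ := s.decomp hg
    have hηC : η • s.C = s.C := by
      have h1 : η • s.C ∈ univ.filter fun y : X => s.Dpt y ∧ z • y = y :=
        mem_filter.2 ⟨mem_univ _, ⟨η, hη.1, rfl⟩, hz.fix_H_smul hC hη⟩
      have h2 : s.C ∈ univ.filter fun y : X => s.Dpt y ∧ z • y = y :=
        mem_filter.2 ⟨mem_univ _, s.Dpt_C, hC⟩
      exact card_le_one.1 (le_of_eq e) _ h1 _ h2
    have : a * η * x * (a * η)⁻¹ = a * (η * x * η⁻¹) * a⁻¹ := by group
    rw [this]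
    exact hz.K_nrm ha _ (s.L0_conj_L ⟨hη.1, hηC⟩ hx)
  have ht2' : t = 2 := by omega
  -- `k ≤ 9`
  obtain ⟨y, hy, hyC⟩ : ∃ y ∈ univ.filter (fun y : X => s.Dpt y ∧ z • y = y), y ≠ s.C :=
    exists_mem_ne (show 1 < s.farFix z by omega) _
  obtain ⟨-, hyD, hyz⟩ := mem_filter.1 hy
  obtain ⟨η, hη, rfl⟩ := hz.fix_eq_H_smul hC hyD hyz
  have hk9 : s.k ≤ 9 := by
    have hinj : Function.Injective fun x : s.K =>
        ((⟨(x : G) • s.C, mem_erase.2 ⟨Dpt.ne_A s ((s.Dpt_smul (s.K_le x.2)).2 s.Dpt_C),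
            s.nrm_smul_orb (hz.K_nrm x.2) s.C_mem_orb⟩⟩ : (s.orb.erase s.A : Finset X)),
          (⟨(η⁻¹ * (x : G) * η) • s.C, mem_erase.2
            ⟨Dpt.ne_A s ((s.Dpt_smul (s.K_le (s.K_conj' hη.1 x.2))).2 s.Dpt_C),
            s.nrm_smul_orb (hz.K_nrm (s.K_conj' hη.1 x.2)) s.C_mem_orb⟩⟩ :
              (s.orb.erase s.A : Finset X))) := by
      rintro ⟨a, ha⟩ ⟨b, hb⟩ e
      obtain ⟨e1, e2⟩ := Prod.ext_iff.1 e
      have e1' : a • s.C = b • s.C := congrArg Subtype.val e1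
      have e2' : (η⁻¹ * a * η) • s.C = (η⁻¹ * b * η) • s.C := congrArg Subtype.val e2
      have f1 : (b⁻¹ * a) • s.C = s.C := by rw [mul_smul, e1', inv_smul_smul]
      have f2 : (b⁻¹ * a) • η • s.C = η • s.C := by
        have : a • η • s.C = b • η • s.C := by
          simpa [mul_smul, inv_smul_eq_iff] using e2'
        rw [mul_smul, this, inv_smul_smul]
      refine Subtype.ext (inv_mul_eq_one.1 (s.no_fix (mul_mem (inv_mem hb) ha) ?_)).symm
      intro y hy
      obtain ⟨x, hx, η', hη', rfl, hfix⟩ := hz.orbit_decomp hC hy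
      rw [← mul_smul, hz.K_comm (mul_mem (inv_mem hb) ha) hx, mul_smul]
      congr 1
      have hsub : ({s.C, η • s.C} : Finset X) = univ.filter fun y : X => s.Dpt y ∧ z • y = y := by
        refine eq_of_subset_of_card_le ?_ ?_
        · simp [insert_subset_iff, s.Dpt_C, hC, hyD, hyz]
        · rw [card_pair hyC.symm]
          show s.farFix z ≤ 2
          omega
      have hmem : η' • s.C ∈ ({s.C, η • s.C} : Finset X) := by
        rw [hsub]
        exact mem_filter.2 ⟨mem_univ _, ⟨η', hη'.1, rfl⟩, hfix⟩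
      rcases mem_insert.1 hmem with e | e
      · rw [e, f1]
      · rw [mem_singleton.1 e, f2]
    have := Nat.card_le_card_of_injective _ hinj
    rw [Nat.card_prod, Nat.card_eq_finsetCard, card_erase_of_mem s.A_mem_orb, horb] at this
    exact this
  have hL3 : L0c = 3 := by
    have h2 : L0c ≠ 1 := fun e => h0 (Subgroup.card_eq_one.1 e)
    obtain ⟨i, hi⟩ := hz.k_odd
    omega
  rw [s.card_X, hl, hh, hk, hL3, ht2']
  norm_num

end CfsgLib.FrobSuborbit.Frame
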