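import Cfsg.Agent.Lib.FrobSuborbit.SwapDich
import Cfsg.Agent.Lib.FrobSuborbit.Arith

/-!
A complement of even order with the kernel semiregular on the second suborbit: `n = 10` or `16`.
-/

set_option autoImplicit false
set_option linter.style.haveILetI false
set_option linter.unusedSectionVars false

open scoped Classical
open MulAction Finset

namespace CfsgLib.FrobSuborbit.Frame

variable {G X : Type*} [Group G] [MulAction G X] [Finite G] [Fintype X] {s : Frame G X} {z : G}

theorem l_eq_of_semi (h0 : s.L0 = ⊥) :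
    ∃ t d, Nat.card s.L = d ∧ s.h = t * d ∧ s.l = s.k * t := by
  obtain ⟨d, ⟨t, ht⟩, hd⟩ := s.card_L
  rw [h0, Subgroup.card_bot, one_mul] at hd
  refine ⟨t, d, hd, by rw [ht, mul_comm], ?_⟩
  have h1 := s.l_mul_card_L
  rw [hd, ht] at h1
  have hd0 : 0 < d := hd ▸ Nat.card_pos
  apply Nat.eq_of_mul_eq_mul_right hd0
  rw [h1]; ring

variable [Fintype G]

theorem Inv.no_far_case (hz : s.Inv z) (h0 : s.L0 = ⊥) (hev : Even s.h)
    (hno : ∀ y, s.Dpt y → z • y ≠ y) : Nat.card X = 10 ∧ s.k * s.h = 6 := by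
  obtain ⟨t, d, hd, hh, hl⟩ := l_eq_of_semi h0
  -- the two-point stabilizer has odd order
  have hdodd : Odd d := by
    rw [← Nat.not_even_iff_odd, even_iff_two_dvd, ← hd]
    intro h
    haveI := Fact.mk Nat.prime_two
    obtain ⟨w, hw⟩ := exists_prime_orderOf_dvd_card' (G := s.L) 2 h
    have h2 := pow_orderOf_eq_one w
    rw [hw, pow_two] at h2
    have hw1 : (w : G) ≠ 1 := fun e => by
      rw [Subtype.ext (a2 := (1 : s.L)) e, orderOf_one] at hw
      omega
    obtain ⟨x, hx, e⟩ := hz.conj_of_sq w.2.1 (congrArg Subtype.val h2) hw1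
    have hfix : (x * z * x⁻¹) • s.C = s.C := by rw [e]; exact w.2.2
    refine hno (x⁻¹ • s.C) ((s.Dpt_smul (inv_mem (s.K_le hx))).2 s.Dpt_C) ?_
    rw [eq_inv_smul_iff, ← mul_smul, ← mul_smul, hfix]
  have htev : Even t := by
    rw [hh] at hev
    rcases Nat.even_mul.1 hev with h | h
    · exact h
    · exact absurd h (Nat.not_even_iff_odd.2 hdodd)
  have ht2 : 2 ≤ t := by
    obtain ⟨c, hc⟩ := htev
    have := s.l_pos
    rw [hl] at this
    rcases Nat.eq_zero_or_pos t with h | h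
    · subst h; simp at this
    · omega
  have hfar0 : s.farFix z = 0 := by
    rw [farFix, card_eq_zero, filter_eq_empty_iff]
    exact fun y _ hy => hno y hy.1 hy.2
  have hF : fixNum (X := X) z = 2 := by rw [hz.fixNum_eq, hfar0]
  have hA : s.adjNum z ≤ 2 * s.h := by
    rw [hz.adjNum_eq, hF]
    exact Nat.mul_le_mul_left _ (s.swapB_le z)
  have hB : s.farNum z ≤ 2 * s.h := by
    have h1 := hz.farNum_eq
    have h2 := s.swapC_le z
    rw [hd] at h2
    rw [hF, hl] at h1
    apply Nat.le_of_mul_le_mul_left _ s.k_pos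
    rw [h1]
    calc 2 * (s.k * t * (swap z s.A s.C).card) ≤ 2 * (s.k * t * d) :=
          Nat.mul_le_mul_left _ (Nat.mul_le_mul_left _ h2)
      _ = s.k * (2 * s.h) := by rw [hh]; ring
  have hadd := s.adjNum_add z
  rw [hF, s.card_X, hl] at hadd
  obtain ⟨e, he, hk⟩ := s.exists_k_eq
  have hh2 := s.two_le_h
  have hineq : s.k + s.k * t ≤ 4 * s.h + 1 := by omega
  have he1 : e = 1 := by
    by_contra hne
    have h1 : 2 * s.h ≤ e * s.h := Nat.mul_le_mul_right _ (by omega)
    have h2 : s.k * 2 ≤ s.k * t := Nat.mul_le_mul_left _ ht2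
    omega
  subst he1
  rw [one_mul] at hk
  have ht : t = 2 := by
    by_contra hne
    obtain ⟨c, hc⟩ := htev
    have h2 : s.k * 4 ≤ s.k * t := Nat.mul_le_mul_left _ (by omega)
    omega
  subst ht
  obtain ⟨m, hm, hlam, hmu⟩ := s.exists_m
  have hm1 : m = 1 := by
    by_contra hne
    have : s.h * 2 ≤ s.h * m := Nat.mul_le_mul_left _ (by omega)
    omega
  subst hm1
  have hlam0 : s.lam = 0 := by omega
  rw [hl, mul_one] at hmu
  have hmu' : 2 * s.mu = s.h := Nat.eq_of_mul_eq_mul_left s.k_pos (by rw [← hmu]; ring)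
  have hmud : s.mu = d := by omega
  obtain ⟨f, g, hfg, hev'⟩ := s.multiplicities (r := 1) (t := -((s.mu : ℤ) + 1))
    (by rw [hlam0]; push_cast; ring) (by rw [hk]; push_cast; omega) (by omega)
  rw [hl, hk, hh] at hfg
  rw [hk, hh, hmud] at hev'
  push_cast at hev'
  have hfg' : (f : ℤ) + g = 3 * (2 * d + 1) := by
    have : ((f + g : ℕ) : ℤ) = ((2 * d + 1 + (2 * d + 1) * 2 : ℕ) : ℤ) := by exact_mod_cast hfg
    push_cast at this; linarith
  have hdvd : ((d : ℤ) + 2) ∣ 12 := ⟨8 - g, by linarith⟩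
  have hle : (d : ℤ) + 2 ≤ 12 := Int.le_of_dvd (by norm_num) hdvd
  obtain ⟨c, hc⟩ := hdodd
  have hd1 : d = 1 := by
    have : d ≤ 10 := by omega
    interval_cases d <;> omega
  rw [s.card_X, hl, hk, hh, hd1]
  exact ⟨by norm_num, by norm_num⟩

theorem Inv.even_farFix (hz : s.Inv z) : Even (fixNum (X := X) z) := by
  -- each fixed point has exactly one fixed neighbour
  set F := univ.filter fun P : X => z • P = P with hFdef
  have key : ∀ P ∈ F, ∃ Q, Q ∈ F ∧ s.Adj P Q ∧ ∀ R ∈ F, s.Adj P R → R = Q := by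
    intro P hP
    have hP' : z • P = P := (mem_filter.1 hP).2
    obtain ⟨g, rfl⟩ := s.exists_to P
    have hmem : g⁻¹ * z * g ∈ s.N := by
      rw [mem_stabilizer_iff, mul_smul, mul_smul, hP', inv_smul_smul]
    have hne : g⁻¹ * z * g ≠ 1 := fun e => hz.ne (by
      calc z = g * (g⁻¹ * z * g) * g⁻¹ := by group
        _ = 1 := by rw [e]; group)
    obtain ⟨x, hx, e⟩ := hz.conj_of_sq hmem (by
      calc g⁻¹ * z * g * (g⁻¹ * z * g) = g⁻¹ * (z * z) * g := by group
        _ = 1 := by rw [hz.sq]; group) hne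
    set j := g * x with hj
    have hjA : j • s.A = g • s.A := by rw [hj, mul_smul, s.fixA hx]
    have hjz : j * z = z * j := by
      calc j * z = g * (x * z * x⁻¹) * x := by rw [hj]; group
        _ = z * j := by rw [e, hj]; group
    refine ⟨j • s.B, mem_filter.2 ⟨mem_univ _, by rw [← mul_smul, ← hjz, mul_smul, hz.fixB]⟩,
      by rw [← hjA, s.adj_smul]; exact s.adj_A.2 s.Ipt_B, fun R hR hadj => ?_⟩
    have h1 : s.Ipt (j⁻¹ • R) := by
      rw [← s.adj_A, ← s.adj_smul j, hjA, smul_inv_smul]; exact hadj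
    have h2 : z • j⁻¹ • R = j⁻¹ • R := by
      have : z * j⁻¹ = j⁻¹ * z := by
        calc z * j⁻¹ = j⁻¹ * (j * z) * j⁻¹ := by group
          _ = j⁻¹ * z := by rw [hjz]; group
      rw [← mul_smul, this, mul_smul, (mem_filter.1 hR).2]
    exact inv_smul_eq_iff.1 (hz.fix_Ipt h1 h2)
  choose f hf1 hf2 hf3 using key
  have hsum : (∑ P ∈ F, (1 : ZMod 2)) = 0 :=
    sum_involution (fun P hP => f P hP) (fun P hP => by decide)
      (fun P hP _ e => s.adj_irrefl P (by simpa [e] using hf2 P hP))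
      (fun P hP => hf1 P hP)
      (fun P hP => (hf3 (f P hP) (hf1 P hP) P hP (s.adj_symm (hf2 P hP))).symm)
  rw [sum_const, nsmul_eq_mul, mul_one, ZMod.natCast_eq_zero_iff_even] at hsum
  exact hsum

theorem Inv.translate (hz : s.Inv z) (hC : z • s.C = s.C) (y : X) :
    ∃ a ∈ s.K, z • y = a • y := by
  have hrot : ∀ {x : G} {P : X}, x ∈ s.K → z • P = P → z • x • P = (x⁻¹ * x⁻¹) • x • P := by
    intro x P hx hP
    rw [← mul_smul z x, ← mul_smul (x⁻¹ * x⁻¹) x]
    have : z * x = x⁻¹ * z := by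
      rw [← hz.inverts hx]; group
    rw [this, mul_smul, hP]
    congr 1
    group
  rcases s.cover y with rfl | hI | hD
  · exact ⟨1, one_mem _, by rw [hz.fixA, one_smul]⟩
  · obtain ⟨g, hg, rfl⟩ := hI
    obtain ⟨x, hx, e⟩ := s.K_trans g hg
    exact ⟨x⁻¹ * x⁻¹, mul_mem (inv_mem hx) (inv_mem hx), by rw [← e]; exact hrot hx hz.fixB⟩
  · obtain ⟨x, hx, η, hη, rfl, hfix⟩ := hz.orbit_decomp hC hD
    exact ⟨x⁻¹ * x⁻¹, mul_mem (inv_mem hx) (inv_mem hx), hrot hx hfix⟩

theorem semi_fix (h0 : s.L0 = ⊥) {x : G} (hx : x ∈ s.K) (h1 : x ≠ 1) {y : X} (hy : x • y = y) :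
    y = s.A := by
  rcases s.cover y with rfl | hI | ⟨g, hg, rfl⟩
  · rfl
  · exact absurd hy (s.K_fix hx h1 hI)
  · exfalso
    have := (s.L0_conj hg).1 ⟨hx, hy⟩
    rw [h0, Subgroup.mem_bot] at this
    apply h1
    calc x = g * (g⁻¹ * x * g) * g⁻¹ := by group
      _ = 1 := by rw [this]; group

theorem semi_fix_sum (h0 : s.L0 = ⊥) {t : ℕ} (hl : s.l = s.k * t) [Fintype s.K] :
    ∑ x : s.K, fixNum (X := X) (x : G) = s.k * (2 + t) := by
  have hKc : Fintype.card s.K = s.k := by rw [k, Nat.card_eq_fintype_card]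
  rw [Finset.sum_eq_add_sum_sdiff_singleton_of_mem (mem_univ (1 : s.K))]
  rw [OneMemClass.coe_one, s.fixNum_one]
  rw [sum_congr rfl (g := fun _ => 1)]
  · rw [sum_const, card_sdiff_of_subset (subset_univ _), card_univ, card_singleton, hKc, hl,
      smul_eq_mul, mul_one]
    have := s.k_pos
    rw [Nat.mul_add]; omega
  · intro x hx
    have hx1 : (x : G) ≠ 1 := fun e => by
      simp only [mem_sdiff, mem_singleton] at hx
      exact hx.2 (Subtype.ext e)
    rw [fixNum, card_eq_one]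
    refine ⟨s.A, ?_⟩
    ext P
    simp only [mem_filter, mem_univ, true_and, mem_singleton]
    exact ⟨fun h => semi_fix h0 x.2 hx1 h, fun h => h ▸ s.fixA x.2⟩

theorem Inv.semi_adj_sum (hz : s.Inv z) (hC : z • s.C = s.C) [Fintype s.K] :
    ∑ x : s.K, s.adjNum (x : G) = s.k * s.adjNum z := by
  have hKc : Fintype.card s.K = s.k := by rw [k, Nat.card_eq_fintype_card]
  have hconst : ∀ x : s.K, s.adjNum ((x : G) * z) = s.adjNum z := fun x => by
    obtain ⟨v, hv, ev⟩ := hz.sqrt x.2
    have : (x : G) * z = v * z * v⁻¹ := by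
      calc (x : G) * z = v * (v * z) := by rw [← ev, mul_assoc]
        _ = v * ((z * v⁻¹ * z⁻¹) * z) := by rw [hz.inverts (inv_mem hv), inv_inv]
        _ = _ := by group
    rw [this, s.adjNum_conj]
  rw [← hKc, ← card_univ, ← smul_eq_mul, ← sum_const]
  rw [← sum_congr rfl fun x _ => hconst x]
  unfold adjNum
  simp only [card_filter]
  rw [sum_comm]
  conv_rhs => rw [sum_comm]
  refine sum_congr rfl fun y _ => ?_
  obtain ⟨a, ha, ea⟩ := hz.translate hC y
  refine (Fintype.sum_equiv (Equiv.mulRight (⟨a, ha⟩ : s.K)) _ _ fun x => ?_).symm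
  simp [mul_smul, ea]

theorem Inv.far_case (hz : s.Inv z) (hC : z • s.C = s.C) (h0 : s.L0 = ⊥) :
    Nat.card X = 16 ∧ s.k * s.h = 20 := by
  set t := s.farFix z with ht
  set ℓ := Nat.card (s.H ⊓ s.L : Subgroup G) with hℓ
  have htℓ : s.h = t * ℓ := (hz.farFix_mul hC).symm
  have hl : s.l = s.k * t := by
    have := hz.k_mul_farFix hC
    rw [h0, Subgroup.card_bot, mul_one] at this
    exact this.symm
  have hcardL : Nat.card s.L = ℓ := by rw [hz.card_L_eq hC, h0, Subgroup.card_bot, one_mul]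
  have hLH : s.L ≤ s.H := by
    have : (s.H ⊓ s.L : Subgroup G) = s.L := Subgroup.eq_of_le_of_card_ge inf_le_right hcardL.le
    exact this ▸ inf_le_left
  have hF : fixNum (X := X) z = t + 2 := by rw [hz.fixNum_eq]; omega
  have htev : Even t := by
    have := hz.even_farFix
    rw [hF, Nat.even_add] at this
    exact this.2 even_two
  have ht2 : 2 ≤ t := by
    have h1 : 0 < t := Inv.farFix_pos hC
    obtain ⟨c, hc⟩ := htev
    omega
  have hℓ2 : 2 ≤ ℓ := by
    have : Nontrivial (s.H ⊓ s.L : Subgroup G) :=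
      ⟨⟨⟨z, hz.mem, hz.mem.1, hC⟩, 1, fun e => hz.ne (congrArg Subtype.val e)⟩⟩
    exact Finite.one_lt_card
  have hℓev : Even ℓ := by
    rw [even_iff_two_dvd, hℓ]
    have h2 : orderOf (⟨z, hz.mem, hz.mem.1, hC⟩ : (s.H ⊓ s.L : Subgroup G)) = 2 :=
      orderOf_eq_prime (Subtype.ext (by show z ^ 2 = 1; rw [pow_two, hz.sq]))
        (fun e => hz.ne (congrArg Subtype.val e))
    rw [← h2]
    exact orderOf_dvd_natCard _
  obtain ⟨e, he, hk⟩ := s.exists_k_eq
  obtain ⟨m, hm, hlam, hmu⟩ := s.exists_m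
  have hmu' : s.mu = ℓ * m := by
    rw [hl, htℓ] at hmu
    have h1 : (s.k * t) * s.mu = (s.k * t) * (ℓ * m) := by rw [hmu]; ring
    exact Nat.eq_of_mul_eq_mul_left (Nat.mul_pos s.k_pos (by omega)) h1
  set q1 := (swap z s.A s.B).card with hq1
  set q2 := (swap z s.A s.C).card with hq2
  have hadj : s.adjNum z = (t + 2) * q1 := by rw [hz.adjNum_eq, hF]
  have hfar : s.farNum z = (t + 2) * (t * q2) := by
    have h1 := hz.farNum_eq
    rw [hF, hl] at h1
    apply Nat.eq_of_mul_eq_mul_left s.k_pos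
    rw [h1]; ring
  have heq : (t + 2) * (q1 + t * q2) = (1 + t) * e * s.h := by
    have hadd := s.adjNum_add z
    rw [hadj, hfar, hF, s.card_X, hl, hk] at hadd
    linarith
  have hd1 : 3 * s.h < 4 * q1 → q1 = s.h := fun h =>
    hz.swap_dichotomy (D := s.B) le_rfl (Or.inl h)
  have hd2 : 3 * ℓ < 4 * q2 → q2 = ℓ := fun h => by
    rw [← hcardL]
    exact hz.swap_dichotomy (D := s.C) hLH (Or.inl (by
      rw [show (stabilizer G s.A ⊓ stabilizer G s.C : Subgroup G) = s.L from rfl, hcardL]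
      exact h))
  have hsm : (ℓ = 4 ∨ ℓ = 10) → ℓ < 2 * q2 → q2 = ℓ := fun hc h => by
    rw [← hcardL]
    refine hz.swap_dichotomy (D := s.C) hLH (Or.inr ⟨fun a ha b hb => ?_, ?_⟩)
    · haveI := Fintype.ofFinite s.L
      have hcomm : ∀ x y : s.L, x * y = y * x := by
        rcases hc with hc | hc
        · haveI := Fact.mk Nat.prime_two
          exact fun x y => (IsPGroup.isMulCommutative_of_card_eq_prime_sq (p := 2)
            (G := s.L) (by rw [hcardL, hc]; norm_num)).is_comm.comm x y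
        · intro x y
          -- the central involution has prime index
          let Z : Subgroup s.L := Subgroup.zpowers ⟨z, hz.mem.1, hC⟩
          have hZ : Z ≤ Subgroup.center s.L := by
            rw [Subgroup.zpowers_le, Subgroup.mem_center_iff]
            exact fun g => Subtype.ext (hz.central (hLH g.2))
          have h2 : Nat.card Z = 2 := by
            rw [Nat.card_zpowers]
            exact orderOf_eq_prime (Subtype.ext (by show z ^ 2 = 1; rw [pow_two, hz.sq]))
              (fun e => hz.ne (congrArg Subtype.val e))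
          haveI : Z.Normal :=
            ⟨fun a ha g => by
              rw [Subgroup.mem_center_iff.1 (hZ ha) g, mul_inv_cancel_right]; exact ha⟩
          have h5 : Nat.card (s.L ⧸ Z) = 5 := by
            have := Z.card_mul_index
            rw [h2, hcardL, hc, Subgroup.index_eq_card] at this
            omega
          haveI := Fact.mk (show Nat.Prime 5 by norm_num)
          haveI : IsCyclic (s.L ⧸ Z) := isCyclic_of_prime_card h5
          exact ((QuotientGroup.mk' Z).isMulCommutative_of_isCyclic_of_ker_le_center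
            (by rw [QuotientGroup.ker_mk']; exact hZ)).is_comm.comm x y
      exact congrArg Subtype.val (hcomm ⟨a, ha⟩ ⟨b, hb⟩)
    · rw [show (stabilizer G s.A ⊓ stabilizer G s.C : Subgroup G) = s.L from rfl, hcardL]
      exact h
  -- integral eigenvalues
  obtain ⟨r, r', hsum, hprod, hlt⟩ := s.exists_int_roots (by
    intro e0
    rw [hl] at e0
    push_cast at e0
    have h1 : (s.k : ℤ) * (2 + (1 + (t : ℤ)) * ((s.lam : ℤ) - s.mu)) = 0 := by
      linear_combination e0
    have h2 : 2 + (1 + (t : ℤ)) * ((s.lam : ℤ) - s.mu) = 0 :=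
      (mul_eq_zero.1 h1).resolve_left (by have := s.k_pos; omega)
    have h3 : ((1 : ℤ) + t) ∣ 2 := ⟨-((s.lam : ℤ) - s.mu), by linarith⟩
    have := Int.le_of_dvd (by norm_num) h3
    omega)
  obtain ⟨f, g, hfg, hev⟩ := s.multiplicities hsum hprod hlt.ne'
  rw [hl] at hfg
  haveI := Fintype.ofFinite s.K
  obtain ⟨v, v', hv1, hv2⟩ := s.trace_int s.K hsum hprod hlt.ne'
  have hKc : Fintype.card s.K = s.k := by rw [k, Nat.card_eq_fintype_card]
  have hfixsum := semi_fix_sum h0 hl
  have hadjsum := hz.semi_adj_sum hC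
  rw [hfixsum, hKc] at hv1
  have hvv : v + v' = 1 + t := by
    have : (v + v' + 1) * s.k = (2 + t) * s.k := by rw [hv1]; ring
    have := Nat.eq_of_mul_eq_mul_right s.k_pos this
    omega
  have hvev : (s.k : ℤ) + r * v + r' * v' = (((t + 2) * q1 : ℕ) : ℤ) := by
    rw [← Nat.cast_sum, hadjsum, hKc, hadj] at hv2
    apply mul_right_cancel₀ (show (s.k : ℤ) ≠ 0 by have := s.k_pos; omega)
    rw [hv2]; push_cast; ring
  obtain ⟨ht', hℓ', he'⟩ := Arith.main ht2 htev hℓ2 hℓev htℓ hk he hm hlam hmu' heq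
    (s.swapB_le z) (hcardL ▸ s.swapC_le z) hd1 hd2 hsm hsum hprod hlt hfg hev hvv hvev
  rw [s.card_X, hl, hk, htℓ, ht', hℓ', he']
  exact ⟨by norm_num, by norm_num⟩

end CfsgLib.FrobSuborbit.Frame
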