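import Cfsg.Agent.Lib.FrobSuborbit.OddMeet

/-!
No complement of odd order with a two-point stabilizer meeting the kernel.
-/

set_option autoImplicit false
set_option linter.style.haveILetI false
set_option linter.unusedSectionVars false

open scoped Classical
open MulAction Finset

namespace CfsgLib.FrobSuborbit.Frame

variable {G X : Type*} [Group G] [MulAction G X] [Finite G] [Fintype X] {s : Frame G X} [Fintype G]

theorem Eo_nonempty (hG : Even (Nat.card G)) (hodd : Odd s.h) : s.Eo.Nonempty := by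
  by_contra hcon
  rw [not_nonempty_iff_eq_empty] at hcon
  refine s.E_not_le_L0 hG hodd fun e he => ⟨he.1, mem_stabilizer_iff.2 ?_⟩
  by_contra hne
  have : e ∈ s.Eo := mem_Eo.2 ⟨he, hne⟩
  rw [hcon] at this
  exact notMem_empty _ this

theorem conj_Psub_ne (hodd : Odd s.h) (h0 : s.L0 ≠ ⊥) (hE : s.Eo.Nonempty) :
    Nat.card s.Psub = 2 := by
  obtain ⟨η, hη, hη1, hηB⟩ := s.hne
  have hηH : η ∈ s.H := ⟨hη, hηB⟩
  -- products of two conjugates are distinct
  have h1 : Nat.card s.Psub * Nat.card s.Psub ≤ 2 * Nat.card s.Psub := by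
    rw [← card_E h0 hE, ← Nat.card_prod]
    refine Nat.card_le_card_of_injective
      (fun p : s.Psub × s.Psub => (⟨(p.1 : G) * (η * p.2 * η⁻¹),
        mul_mem p.1.2.1 (s.E_normal hη p.2.2.1)⟩ : s.E)) ?_
    rintro ⟨⟨a, ha⟩, ⟨b, hb⟩⟩ ⟨⟨c, hc⟩, ⟨d, hd⟩⟩ e
    have e' : a * (η * b * η⁻¹) = c * (η * d * η⁻¹) := congrArg Subtype.val e
    have h : c⁻¹ * a = η * (d * b⁻¹) * η⁻¹ := by
      calc c⁻¹ * a = c⁻¹ * (a * (η * b * η⁻¹)) * (η * b * η⁻¹)⁻¹ := by group
        _ = c⁻¹ * (c * (η * d * η⁻¹)) * (η * b * η⁻¹)⁻¹ := by rw [e']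
        _ = η * (d * b⁻¹) * η⁻¹ := by group
    have hz : c⁻¹ * a ∈ s.Psub := mul_mem (inv_mem hc) ha
    have hz' : η⁻¹ * (c⁻¹ * a) * η ∈ s.Psub := by
      rw [h, show η⁻¹ * (η * (d * b⁻¹) * η⁻¹) * η = d * b⁻¹ by group]
      exact mul_mem hd (inv_mem hb)
    have e1 := meet_trivial hodd h0 hE hηH hη1 hz hz'
    rw [e1] at h
    have e2 : d * b⁻¹ = 1 := by
      calc d * b⁻¹ = η⁻¹ * (η * (d * b⁻¹) * η⁻¹) * η := by group
        _ = 1 := by rw [← h]; group
    exact Prod.ext (Subtype.ext (inv_mul_eq_one.1 e1).symm) (Subtype.ext (mul_inv_eq_one.1 e2).symm)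
  have hle : Nat.card s.Psub ≤ 2 := Nat.le_of_mul_le_mul_right h1 Nat.card_pos
  have hne : Nat.card s.Psub ≠ 1 := fun e => hη1 (eq_one_of_norm hodd h0 hE hηH fun x hx => by
    rw [Subgroup.card_eq_one.1 e, Subgroup.mem_bot] at hx
    subst hx
    simp)
  have : 0 < Nat.card s.Psub := Nat.card_pos
  omega

theorem h_eq_three (hodd : Odd s.h) (h0 : s.L0 ≠ ⊥) (hE : s.Eo.Nonempty) : s.h = 3 := by
  have h4 : Nat.card s.E = 4 := by rw [card_E h0 hE, conj_Psub_ne hodd h0 hE]
  let T := {e : G // e ∈ s.E ∧ e ≠ 1}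
  letI : MulAction s.H T :=
    { smul := fun g e => ⟨(g : G) * e * (g : G)⁻¹, s.E_normal g.2.1 e.2.1, fun h => e.2.2 (by
        calc (e : G) = (g : G)⁻¹ * ((g : G) * e * (g : G)⁻¹) * g := by group
          _ = 1 := by rw [h]; group)⟩
      one_smul := fun e => Subtype.ext (show (1 : G) * (e : G) * (1 : G)⁻¹ = e by simp)
      mul_smul := fun a b e => Subtype.ext
        (show ((a : G) * b) * (e : G) * ((a : G) * b)⁻¹ = a * (b * e * (b : G)⁻¹) * (a : G)⁻¹ by
          group) }
  have hT : Nat.card T = 3 := by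
    have h1 : Nat.card T = ((univ.filter fun e : G => e ∈ s.E).erase 1).card := by
      rw [Nat.card_eq_fintype_card, Fintype.card_subtype]
      congr 1
      ext e
      simp [and_comm]
    rw [h1, card_erase_of_mem (by simp [s.E.one_mem]), ← Fintype.card_subtype,
      ← Nat.card_eq_fintype_card]
    change Nat.card s.E - 1 = 3
    omega
  have hdvd : s.h ∣ 3 := hT ▸ card_dvd_of_free fun g e he => by
    by_contra hg
    have e' : (g : G) * e * (g : G)⁻¹ = e := congrArg Subtype.val he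
    rw [mul_inv_eq_iff_eq_mul] at e'
    exact hg (Subtype.ext (s.K_inf_H (s.cent_K e.2.1.1 e.2.2 g.2.1 e') g.2))
  rcases (Nat.dvd_prime Nat.prime_three).1 hdvd with h | h
  · have := s.two_le_h; omega
  · exact h

theorem odd_nontriv_false (hG : Even (Nat.card G)) (hodd : Odd s.h) (h0 : s.L0 ≠ ⊥) : False := by
  have hE := Eo_nonempty hG hodd
  have hP := conj_Psub_ne hodd h0 hE
  have hh := h_eq_three hodd h0 hE
  obtain ⟨⟨z, hz⟩, hz1'⟩ : ∃ z : s.Psub, z ≠ 1 := by
    have : Nontrivial s.Psub := Finite.one_lt_card_iff_nontrivial.1 (by omega)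
    exact exists_ne 1
  have hz1 : z ≠ 1 := fun e => hz1' (Subtype.ext e)
  have hPeq : ∀ x ∈ s.Psub, x = 1 ∨ x = z := by
    intro x hx
    by_contra hne
    push Not at hne
    have h3 : ({1, z, x} : Finset G) ⊆ univ.filter fun e : G => e ∈ s.Psub := by
      intro e he
      simp only [mem_insert, mem_singleton] at he
      simp only [mem_filter, mem_univ, true_and]
      rcases he with rfl | rfl | rfl
      · exact one_mem _
      · exact hz
      · exact hx
    have h2 : (univ.filter fun e : G => e ∈ s.Psub).card = 2 := by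
      rw [← hP, Nat.card_eq_fintype_card, Fintype.card_subtype]
    have := card_le_card h3
    rw [card_eq_three.2 ⟨1, z, x, hz1.symm, hne.1.symm, hne.2.symm, rfl⟩, h2] at this
    omega
  have hzsq : z * z = 1 := E_sq hz.1
  have hconjP : ∀ η ∈ s.H, η⁻¹ * z * η ∈ s.Psub → η = 1 := by
    intro η hη h
    have e : η⁻¹ * z * η = z := (hPeq _ h).resolve_left fun e => hz1 (by
      calc z = η * (η⁻¹ * z * η) * η⁻¹ := by group
        _ = 1 := by rw [e]; group)
    refine eq_one_of_norm hodd h0 hE hη fun x hx => ?_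
    have e' : η * z * η⁻¹ = z := by
      calc η * z * η⁻¹ = η * (η⁻¹ * z * η) * η⁻¹ := by rw [e]
        _ = z := by group
    rcases hPeq x hx with rfl | rfl
    · simp
    · rw [e']; exact hz
  -- the fixed points of `z`
  have hfixD : ∀ y, s.Dpt y → (z • y = y ↔ ∃ x ∈ s.K, x • s.C = y) := by
    intro y hy
    constructor
    · intro h
      obtain ⟨g, hg, rfl⟩ := hy
      obtain ⟨a, ha, η, hη, rfl⟩ := s.decomp hg
      have h1 : η⁻¹ * z * η ∈ s.Psub := by
        refine ⟨by simpa using s.E_normal (s.N.inv_mem hη.1) hz.1, mem_stabilizer_iff.2 ?_⟩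
        have : z • η • s.C = η • s.C := by
          rw [mul_smul, ← mul_smul z a, ← hz.1.2.2 a ha, mul_smul, smul_left_cancel_iff] at h
          exact h
        rw [mul_smul, mul_smul, inv_smul_eq_iff, this]
      rw [hconjP η hη h1, mul_one]
      exact ⟨a, ha, rfl⟩
    · rintro ⟨x, hx, rfl⟩
      rw [← mul_smul, ← hz.1.2.2 x hx, mul_smul, mem_stabilizer_iff.1 hz.2]
  -- the orbit of `C` under the kernel
  set O := univ.filter fun y : X => ∃ x ∈ s.K, x • s.C = y with hO
  set w := O.card with hw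
  have hOD : ∀ y ∈ O, s.Dpt y := fun y hy => by
    obtain ⟨x, hx, rfl⟩ := (mem_filter.1 hy).2
    exact (s.Dpt_smul (s.K_le hx)).2 s.Dpt_C
  have hk : w * Nat.card s.L0 = s.k := by
    haveI := Fintype.ofFinite s.K
    rw [k, Nat.card_eq_fintype_card (α := s.K), ← card_univ,
      card_eq_sum_card_fiberwise (s := (univ : Finset s.K)) (f := fun x : s.K => (x : G) • s.C)
        (t := O) fun x _ => mem_filter.2 ⟨mem_univ _, x, x.2, rfl⟩, ← smul_eq_mul, ← sum_const]
    refine sum_congr rfl fun y hy => ?_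
    obtain ⟨a, ha, rfl⟩ := (mem_filter.1 hy).2
    rw [← Nat.card_eq_finsetCard]
    refine Nat.card_congr
      { toFun := fun x => ⟨⟨a * x, mul_mem ha x.2.1⟩, mem_filter.2 ⟨mem_univ _, by
          show (a * x) • s.C = a • s.C
          rw [mul_smul, mem_stabilizer_iff.1 x.2.2]⟩⟩
        invFun := fun x => ⟨a⁻¹ * (x.1 : G), s.K.mul_mem (s.K.inv_mem ha) x.1.2, mem_stabilizer_iff.2 (by
          rw [mul_smul, (mem_filter.1 x.2).2, inv_smul_smul])⟩
        left_inv := fun x => by simp
        right_inv := fun x => by simp }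
  have hF : fixNum (X := X) z = 1 + w := by
    rw [fixNum, hw, add_comm, ← card_insert_of_notMem (fun h => Dpt.ne_A s (hOD _ h) rfl :
      s.A ∉ O)]
    congr 1
    ext y
    simp only [mem_filter, mem_univ, true_and, mem_insert, hO]
    constructor
    · intro h
      rcases s.cover y with hy | hy | hy
      · exact Or.inl hy
      · exact absurd h (s.K_fix hz.1.1 hz1 hy)
      · exact Or.inr ((hfixD y hy).1 h)
    · rintro (rfl | ⟨x, hx, rfl⟩)
      · exact s.fixA hz.1.1
      · exact (hfixD _ ((s.Dpt_smul (s.K_le hx)).2 s.Dpt_C)).2 ⟨x, hx, rfl⟩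
  -- `L = L0`
  have hL : s.L = s.L0 := by
    refine le_antisymm (fun g hg => ⟨?_, hg.2⟩) s.L0_le_L
    exact nrm_mem_K hodd h0 hE hg.1 (nrm_Psub hg.1 fun x hx => s.L0_conj_L hg hx)
  have hl : s.l = 3 * w := by
    apply Nat.eq_of_mul_eq_mul_right (Nat.card_pos (α := s.L0))
    rw [show s.l * Nat.card s.L0 = s.l * Nat.card s.L by rw [hL], s.l_mul_card_L, ← hk, hh]
    ring
  -- the members of the class fixing `A`
  have hEcls : ∀ e : G, e ∈ s.E → e ≠ 1 → e ∈ cls z := by
    intro e he he1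
    have hsub : (univ.filter fun η : G => η ∈ s.H).image (fun η => η * z * η⁻¹) ⊆
        (univ.filter fun e : G => e ∈ s.E).erase 1 := by
      intro x hx
      obtain ⟨η, hη, rfl⟩ := mem_image.1 hx
      refine mem_erase.2 ⟨fun h => hz1 ?_, mem_filter.2
        ⟨mem_univ _, s.E_normal (mem_filter.1 hη).2.1 hz.1⟩⟩
      calc z = η⁻¹ * (η * z * η⁻¹) * η := by group
        _ = 1 := by rw [h]; group
    have hcard : ((univ.filter fun η : G => η ∈ s.H).image (fun η => η * z * η⁻¹)).card = 3 := by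
      rw [card_image_of_injOn, ← Fintype.card_subtype, ← Nat.card_eq_fintype_card]
      · exact hh
      · intro a ha b hb (h : a * z * a⁻¹ = b * z * b⁻¹)
        have ha' := (mem_filter.1 ha).2
        have hb' := (mem_filter.1 hb).2
        have h1 : (a⁻¹ * b) = 1 := by
          refine hconjP _ (s.H.mul_mem (s.H.inv_mem ha') hb') ?_
          have : (a⁻¹ * b)⁻¹ * z * (a⁻¹ * b) = z := by
            calc (a⁻¹ * b)⁻¹ * z * (a⁻¹ * b) = b⁻¹ * (a * z * a⁻¹) * b := by group
              _ = b⁻¹ * (b * z * b⁻¹) * b := by rw [h]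
              _ = z := by group
          rw [this]; exact hz
        exact inv_mul_eq_one.1 h1
    have hE3 : ((univ.filter fun e : G => e ∈ s.E).erase 1).card = 3 := by
      rw [card_erase_of_mem (by simp [s.E.one_mem]), ← Fintype.card_subtype,
        ← Nat.card_eq_fintype_card]
      change Nat.card s.E - 1 = 3
      rw [card_E h0 hE, hP]
    have heq := eq_of_subset_of_card_le hsub (by rw [hE3, hcard])
    have hmem : e ∈ (univ.filter fun η : G => η ∈ s.H).image (fun η => η * z * η⁻¹) := by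
      rw [heq]; simp [he, he1]
    obtain ⟨η, -, rfl⟩ := mem_image.1 hmem
    exact mem_cls.2 ⟨η, rfl⟩
  have hzA : s.InEat s.A z := inEat_A.2 hz.1
  have hinE : ∀ {y : G} {P : X}, y ∈ cls z → y • P = P → s.InEat P y := by
    intro y P hy hP'
    obtain ⟨g, rfl⟩ := mem_cls.1 hy
    rw [mul_smul, mul_smul, ← eq_inv_smul_iff] at hP'
    have := (inEat_conj g).2 (inEat_of_fix h0 hE hzA hP')
    rwa [smul_inv_smul] at this
  have hclsne : ∀ {y : G}, y ∈ cls z → y ≠ 1 := by
    intro y hy e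
    obtain ⟨g, rfl⟩ := mem_cls.1 hy
    rw [mul_inv_eq_one, mul_eq_left] at e
    exact hz1 e
  have hfixA : ((cls z).filter fun y => y • s.A = s.A).card = 3 := by
    have : (cls z).filter (fun y => y • s.A = s.A) =
        (univ.filter fun e : G => e ∈ s.E).erase 1 := by
      ext y
      simp only [mem_filter, mem_erase, mem_univ, true_and]
      constructor
      · rintro ⟨h1, h2⟩
        exact ⟨hclsne h1, inEat_A.1 (hinE h1 h2)⟩
      · rintro ⟨h1, h2⟩
        exact ⟨hEcls y h2 h1, s.fixA h2.1⟩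
    rw [this, card_erase_of_mem (by simp [s.E.one_mem]), ← Fintype.card_subtype,
      ← Nat.card_eq_fintype_card]
    change Nat.card s.E - 1 = 3
    rw [card_E h0 hE, hP]
  have hcls : (cls z).card * (1 + w) = Nat.card X * 3 := by
    rw [← hF, s.sum_fix z, hfixA]
  -- the swappers
  have hoddM : ∀ y : G, y * y = 1 → (∀ P ∈ s.orb, y • P ∈ s.orb) → ∃ D ∈ s.orb, y • D = D := by
    obtain ⟨e0, he0⟩ := hE
    intro y hy hmap
    by_contra hcon
    push Not at hcon
    have hsum : ∀ (S : Finset X) (f : G), f * f = 1 → (∀ P ∈ S, f • P ∈ S) →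
        (∀ P ∈ S, f • P ≠ P) → (S.card : ZMod 2) = 0 := by
      intro S f hf h1 h2
      have : ∑ P ∈ S, (1 : ZMod 2) = 0 :=
        sum_involution (fun P _ => f • P) (fun _ _ => by decide) (fun P hP _ => h2 P hP) h1
          (fun P _ => by rw [← mul_smul, hf, one_smul])
      simpa using this
    have a1 := hsum s.orb y hy hmap hcon
    have he0E := (mem_Eo.1 he0).1
    have a2 := hsum (s.orb.erase s.A) e0 (E_sq he0E) (fun P hP' => by
      obtain ⟨hne, hPo⟩ := mem_erase.1 hP'
      refine mem_erase.2 ⟨fun e => hne ?_, s.nrm_smul_orb (E_nrm he0E) hPo⟩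
      rw [← inv_fix (s.fixA he0E.1), ← e, inv_smul_smul])
      (fun P hP' e => (mem_erase.1 hP').1 (Eo_fix h0 he0 (mem_erase.1 hP').2 e))
    have a3 : s.orb.card = (s.orb.erase s.A).card + 1 := (card_erase_add_one s.A_mem_orb).symm
    rw [a3, Nat.cast_add, a2] at a1
    simp at a1
  have hswap : swap z s.A s.C = s.Sset := by
    ext y
    rw [mem_swap, mem_Sset]
    constructor
    · rintro ⟨h1, h2, h3⟩
      refine ⟨?_, h2, h3⟩
      have hn : s.Nrm y := fun x hx => s.swap_L0 h2 h3 hx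
      obtain ⟨D, hD, hfix⟩ := hoddM y (cls_sq hzsq h1) fun P hP' => s.nrm_smul_orb hn hP'
      obtain ⟨j, hj, rfl⟩ := exists_nrm_A h0 hD
      have h4 := (inEat_iff (g := j) rfl).1 (hinE h1 hfix)
      refine mem_Vset.2 ⟨j, hj, mem_Eo.2 ⟨h4, fun hC => ?_⟩⟩
      have h5 := hj _ (⟨h4.1, mem_stabilizer_iff.2 hC⟩ : j⁻¹ * y * j ∈ s.L0)
      rw [show j * (j⁻¹ * y * j) * j⁻¹ = y by group] at h5
      exact s.C_ne (by rw [← h2, s.fixA h5.1])
    · rintro ⟨h1, h2, h3⟩
      refine ⟨?_, h2, h3⟩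
      obtain ⟨j, hj, h⟩ := mem_Vset.1 h1
      obtain ⟨he, hC⟩ := mem_Eo.1 h
      have := hEcls _ he fun e => hC (by rw [e, one_smul])
      have := conj_mem_cls j this
      rwa [show j * (j⁻¹ * y * j) * j⁻¹ = y by group] at this
  have hq2 : (swap z s.A s.C).card = 2 := by rw [hswap, card_Sset h0, card_Eo h0 hE, hP]
  -- the equations
  have hn : 0 < Nat.card X := by rw [s.card_X]; omega
  have hfar : s.farNum z = 2 * w * (1 + w) := by
    have e := s.sum_far hzsq
    rw [hq2, hl] at e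
    apply Nat.eq_of_mul_eq_mul_left (show 0 < Nat.card X * 3 by omega)
    calc Nat.card X * 3 * s.farNum z = (1 + w) * ((cls z).card * s.farNum z) := by
          rw [← hcls]; ring
      _ = (1 + w) * (Nat.card X * (3 * w * 2)) := by rw [e]
      _ = _ := by ring
  have hadj : 3 * s.adjNum z = (1 + w) * (s.k * (swap z s.A s.B).card) := by
    have e := s.sum_adj hzsq
    apply Nat.eq_of_mul_eq_mul_left hn
    calc Nat.card X * (3 * s.adjNum z) = (1 + w) * ((cls z).card * s.adjNum z) := by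
          rw [← mul_assoc, ← hcls]; ring
      _ = (1 + w) * (Nat.card X * (s.k * (swap z s.A s.B).card)) := by rw [e]
      _ = _ := by ring
  have hadd := s.adjNum_add z
  rw [hfar, hF, s.card_X, hl] at hadd
  have hwpos : 1 ≤ w := card_pos.2 ⟨s.C, mem_filter.2 ⟨mem_univ _, 1, one_mem _, one_smul _ _⟩⟩
  have hw2 : 2 ≤ w := by
    by_contra hlt
    have : w = 1 := by omega
    rw [this, one_mul] at hk
    exact h0 (s.normal_le_L0 le_rfl fun g hg x hx => by
      have hK : s.L0 = s.K := Subgroup.eq_of_le_of_card_ge inf_le_left hk.ge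
      rw [hK] at hx ⊢
      exact s.K_normal g hg x hx)
  have hk' : s.k = s.adjNum z + 2 * w * w := by
    have : 2 * w * (1 + w) = 2 * w + 2 * w * w := by ring
    omega
  rcases Nat.eq_zero_or_pos (swap z s.A s.B).card with hq | hq
  · rw [hq, mul_zero, mul_zero] at hadj
    obtain ⟨e, -, hke⟩ := s.exists_k_eq
    rw [hh] at hke
    have h2 : (2 * w * w) % 3 = 1 := by omega
    rw [mul_assoc, Nat.mul_mod, Nat.mul_mod w w] at h2
    have : w % 3 < 3 := Nat.mod_lt _ (by norm_num)
    interval_cases h : w % 3 <;> norm_num at h2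
  · have h2 : 3 * s.k ≤ 3 * s.adjNum z := by
      rw [hadj]
      exact Nat.mul_le_mul (by omega) (Nat.le_mul_of_pos_right _ hq)
    have : 1 ≤ w * w := Nat.mul_pos hwpos hwpos
    have : 2 * w * w = 2 * (w * w) := by ring
    omega

end CfsgLib.FrobSuborbit.Frame
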