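import Cfsg.Agent.Lib.FrobSuborbit.OddBasic
import Cfsg.Agent.Lib.FrobSuborbit.EvenSemi

/-!
No complement of odd order with the kernel semiregular on the second suborbit.
-/

set_option autoImplicit false
set_option linter.style.haveILetI false
set_option linter.unusedSectionVars false

open scoped Classical Pointwise
open MulAction Finset

namespace CfsgLib.FrobSuborbit.Frame

variable {G X : Type*} [Group G] [MulAction G X] [Finite G] [Fintype X] {s : Frame G X} [Fintype G]

/-- A nontrivial element with a single fixed point has class size `|G : K|`. -/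
theorem cls_card_single {z : G} (hz : z ∈ s.E) (h1 : z ≠ 1) (hfix : ∀ y, z • y = y → y = s.A) :
    (cls z).card * s.k = Nat.card G := by
  haveI := Fintype.ofFinite s.K
  rw [Nat.card_eq_fintype_card (α := G), ← card_univ, card_eq_sum_card_fiberwise (s := (univ : Finset G))
    (f := fun g : G => g * z * g⁻¹) (t := cls z) (fun g _ => mem_cls.2 ⟨g, rfl⟩),
    ← smul_eq_mul, ← sum_const]
  refine sum_congr rfl fun w hw => ?_
  obtain ⟨a, rfl⟩ := mem_cls.1 hw
  rw [k, Nat.card_eq_fintype_card, ← card_univ]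
  refine card_bij (fun (x : s.K) _ => a * x) (fun x _ => mem_filter.2 ⟨mem_univ _, ?_⟩)
    (fun u _ v _ e => Subtype.ext (mul_left_cancel e)) fun g hg => ?_
  · calc a * (x : G) * z * (a * x)⁻¹ = a * ((x : G) * z * (x : G)⁻¹) * a⁻¹ := by group
      _ = a * z * a⁻¹ := by rw [hz.2.2 x x.2, mul_inv_cancel_right]
  · have e := (mem_filter.1 hg).2
    have hc : a⁻¹ * g * z = z * (a⁻¹ * g) := by
      calc a⁻¹ * g * z = a⁻¹ * (g * z * g⁻¹) * g := by group
        _ = a⁻¹ * (a * z * a⁻¹) * g := by rw [e]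
        _ = z * (a⁻¹ * g) := by group
    have hN : a⁻¹ * g ∈ s.N := by
      refine mem_stabilizer_iff.2 (hfix _ ?_)
      rw [← mul_smul, ← hc, mul_smul, s.fixA hz.1]
    exact ⟨⟨a⁻¹ * g, s.cent_K hz.1 h1 hN hc⟩, mem_univ _, by group⟩

theorem odd_semi_false (hG : Even (Nat.card G)) (hodd : Odd s.h) (h0 : s.L0 = ⊥) : False := by
  obtain ⟨z, hz, h1⟩ := s.exists_E hG hodd
  have hsq : z * z = 1 := hz.2.1
  have hfix : ∀ y, z • y = y → y = s.A := fun y hy => semi_fix h0 hz.1 h1 hy
  have hF : fixNum (X := X) z = 1 := by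
    rw [fixNum, card_eq_one]
    refine ⟨s.A, ?_⟩
    ext P
    simp only [mem_filter, mem_univ, true_and, mem_singleton]
    exact ⟨hfix P, fun h => h ▸ s.fixA hz.1⟩
  obtain ⟨t, d, hd, hh, hl⟩ := l_eq_of_semi (s := s) h0
  -- `h (k + l) ≤ 2 k h`
  have hcls : (cls z).card = Nat.card X * s.h := by
    apply Nat.eq_of_mul_eq_mul_right s.k_pos
    rw [cls_card_single hz h1 hfix, s.card_G]; ring
  have hn : 0 < Nat.card X := by rw [s.card_X]; omega
  have hA : s.h * s.adjNum z ≤ s.k * s.h := by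
    have e := s.sum_adj hsq
    rw [hcls, mul_assoc] at e
    rw [Nat.eq_of_mul_eq_mul_left hn e]
    exact Nat.mul_le_mul_left _ (s.swapB_le z)
  have hB : s.h * s.farNum z ≤ s.k * s.h := by
    have e := s.sum_far hsq
    rw [hcls, mul_assoc] at e
    rw [Nat.eq_of_mul_eq_mul_left hn e, ← s.l_mul_card_L]
    exact Nat.mul_le_mul_left _ (s.swapC_le z)
  have ht : t = 1 := by
    have hadd := s.adjNum_add z
    rw [hF, s.card_X, hl] at hadd
    have h2 : s.h * (s.k + s.k * t) ≤ s.h * (2 * s.k) := by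
      rw [show s.k + s.k * t = s.adjNum z + s.farNum z by omega]
      linarith
    have h3 := Nat.le_of_mul_le_mul_left h2 s.h_pos
    have h4 := s.k_pos
    have h5 := s.l_pos
    rw [hl] at h5
    rcases Nat.lt_or_ge t 2 with h | h
    · rcases Nat.eq_zero_or_pos t with h' | h'
      · subst h'; simp at h5
      · omega
    · have : s.k * 2 ≤ s.k * t := Nat.mul_le_mul_left _ h
      omega
  subst ht
  rw [one_mul] at hh
  rw [mul_one] at hl
  -- the complement fixes a point of the second suborbit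
  have hFr := s.isFrobComplement
  obtain ⟨⟨a, ha⟩, hle⟩ := CfsgLib.Frobenius.exists_le_conj_of_card_dvd hFr
    (L := s.L.subgroupOf s.N) (by
      rw [Nat.card_congr (Subgroup.subgroupOfEquivOfLe (show s.L ≤ s.N from inf_le_left)).toEquiv,
        Nat.card_congr (Subgroup.subgroupOfEquivOfLe (show s.H ≤ s.N from inf_le_left)).toEquiv,
        hd, ← hh]
      exact dvd_rfl)
  have heq : s.L.subgroupOf s.N = MulAut.conj (⟨a, ha⟩ : s.N) • s.H.subgroupOf s.N := by
    refine Subgroup.eq_of_le_of_card_ge hle ?_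
    rw [Nat.card_congr (Subgroup.equivSMul _ _).toEquiv.symm, Nat.card_congr
      (Subgroup.subgroupOfEquivOfLe (show s.L ≤ s.N from inf_le_left)).toEquiv,
      Nat.card_congr (Subgroup.subgroupOfEquivOfLe (show s.H ≤ s.N from inf_le_left)).toEquiv,
      hd, ← hh]
    rfl
  set C' := a⁻¹ • s.C with hC'
  have hC'D : s.Dpt C' := (s.Dpt_smul (s.N.inv_mem ha)).2 s.Dpt_C
  have hHfix : ∀ η ∈ s.H, η • C' = C' := by
    intro η hη
    have hmem : (⟨a, ha⟩ : s.N) * ⟨η, hη.1⟩ * (⟨a, ha⟩ : s.N)⁻¹ ∈ s.L.subgroupOf s.N := by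
      rw [heq]
      refine CfsgLib.Frobenius.mem_conj_smul_iff.2 (Subgroup.mem_subgroupOf.2 ?_)
      have e : (((⟨a, ha⟩ : s.N)⁻¹ * ((⟨a, ha⟩ : s.N) * ⟨η, hη.1⟩ * (⟨a, ha⟩ : s.N)⁻¹) *
          (⟨a, ha⟩ : s.N) : s.N) : G) = η := by simp [mul_assoc]
      rw [e]; exact hη
    have hm : a * η * a⁻¹ ∈ s.L := hmem
    have := mem_stabilizer_iff.1 hm.2
    rw [mul_smul, mul_smul] at this
    rw [hC', eq_inv_smul_iff, this]
  have huniq : ∀ y, s.Dpt y → ∀ η ∈ s.H, η ≠ 1 → η • y = y → y = C' := by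
    intro y hy η hη hη1 he
    obtain ⟨g, hg, e⟩ := hy
    obtain ⟨x, hx, η', hη', eg⟩ := s.decomp (g := g * a) (s.N.mul_mem hg ha)
    have hy' : y = x • C' := by
      rw [← e, show g = x * η' * a⁻¹ by rw [← eg]; group, mul_smul, mul_smul, ← hC', hHfix η' hη']
    subst hy'
    have hfixx : (x⁻¹ * η * x * η⁻¹) • C' = C' := by
      rw [mul_smul, mul_smul, mul_smul, inv_fix (hHfix η hη), he, inv_smul_smul]
    have hK : x⁻¹ * η * x * η⁻¹ ∈ s.K := by
      rw [mul_assoc, mul_assoc, ← mul_assoc η]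
      exact mul_mem (inv_mem hx) (s.K_normal η hη.1 x hx)
    have hx1 : x⁻¹ * η * x * η⁻¹ = 1 := by
      by_contra hne
      exact Dpt.ne_A s hC'D (semi_fix h0 hK hne hfixx)
    by_contra hxC
    have hxne : x ≠ 1 := fun e' => hxC (by rw [e', one_smul])
    refine hη1 (s.K_inf_H (s.cent_K hx hxne hη.1 ?_) hη)
    calc η * x = x * (x⁻¹ * η * x * η⁻¹) * η := by group
      _ = x * η := by rw [hx1, mul_one]
  obtain ⟨u, u1, u2⟩ := s.swapB
  obtain ⟨η0, hη0, hη01, hη0B⟩ := s.hne
  have hη0H : η0 ∈ s.H := ⟨hη0, hη0B⟩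
  have hconj : ∀ η ∈ s.H, u⁻¹ * η * u ∈ s.H := by
    intro η hη
    have i1 : u⁻¹ • s.A = s.B := by rw [inv_smul_eq_iff, u2]
    have i2 : u⁻¹ • s.B = s.A := by rw [inv_smul_eq_iff, u1]
    exact ⟨mem_stabilizer_iff.2 (by rw [mul_smul, mul_smul, u1, mem_stabilizer_iff.1 hη.2, i2]),
      mem_stabilizer_iff.2 (by rw [mul_smul, mul_smul, u2, mem_stabilizer_iff.1 hη.1, i1])⟩
  have huC : u • C' = C' := by
    have hA : u • C' ≠ s.A := fun e => by
      rw [← u2, smul_left_cancel_iff] at e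
      exact s.not_Ipt_Dpt (e ▸ s.Ipt_B) hC'D
    have hB : u • C' ≠ s.B := fun e => by
      rw [← u1, smul_left_cancel_iff] at e
      exact Dpt.ne_A s hC'D e
    have hfix2 : η0 • u • C' = u • C' := by
      have := hHfix _ (hconj η0 hη0H)
      rwa [mul_smul, mul_smul, inv_smul_eq_iff] at this
    refine huniq _ (s.Dpt_iff.2 ⟨hA, fun hI => hB (s.H_fix hη0H hη01 hI hfix2)⟩) η0 hη0H hη01 hfix2
  by_cases hBC : s.Adj s.B C'
  · have h : s.Adj s.A C' := by
      have := (s.adj_smul u).2 hBC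
      rwa [u2, huC] at this
    exact s.not_Ipt_Dpt (s.adj_A.1 h) hC'D
  · -- the complement would act freely on the neighbours of `C'`
    let T := {Q : X // s.Adj C' Q}
    letI : MulAction s.H T :=
      { smul := fun g Q => ⟨(g : G) • (Q : X), by
          have h := (s.adj_smul (g : G)).2 Q.2
          rwa [hHfix g g.2] at h⟩
        one_smul := fun y => Subtype.ext (one_smul G (y : X))
        mul_smul := fun a b y => Subtype.ext (mul_smul (a : G) (b : G) (y : X)) }
    have hdvd : s.h ∣ Nat.card T := card_dvd_of_free fun g Q e => by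
      by_contra hg1
      have e' : (g : G) • (Q : X) = Q := congrArg Subtype.val e
      have hg1' : (g : G) ≠ 1 := fun e2 => hg1 (Subtype.ext e2)
      rcases s.cover (Q : X) with hQ | hQ | hQ
      · have hh := Q.2
        rw [hQ] at hh
        exact s.not_Ipt_Dpt (s.adj_A'.1 hh) hC'D
      · have hh := Q.2
        rw [s.H_fix g.2 hg1' hQ e'] at hh
        exact hBC (s.adj_symm hh)
      · have hh := Q.2
        rw [huniq _ hQ g g.2 hg1' e'] at hh
        exact s.adj_irrefl _ hh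
    rw [s.card_nbr] at hdvd
    have := s.two_le_h
    have h1 : s.h = 1 := Nat.eq_one_of_dvd_coprimes s.coprime dvd_rfl hdvd
    omega

end CfsgLib.FrobSuborbit.Frame
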