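import Cfsg.Agent.Lib.FrobSuborbit.Build
import Cfsg.Agent.Lib.FrobSuborbit.EvenSemi
import Cfsg.Agent.Lib.FrobSuborbit.EvenNontrivFinish
import Cfsg.Agent.Lib.FrobSuborbit.OddSemi
import Cfsg.Agent.Lib.FrobSuborbit.OddNontriv
import Cfsg.Agent.Lib.Solvable.MinNormal

/-!
The possible parameters of a rank three group with a Frobenius suborbit, and regular normal
subgroups of solvable primitive groups.
-/

set_option autoImplicit false
set_option linter.style.haveILetI false
set_option linter.unusedSectionVars false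

open MulAction

namespace CfsgLib.FrobSuborbit

variable {G X : Type*} [Group G] [MulAction G X]

/-- In a solvable group with a faithful primitive action on at least two points there is a normal
elementary abelian regular subgroup. -/
theorem exists_regular_normal [Finite G] [Group.IsSolvable G] [FaithfulSMul G X]
    [IsPreprimitive G X] [Nontrivial X] :
    ∃ (N : Subgroup G) (p k : ℕ), N.Normal ∧ p.Prime ∧ Nat.card N = p ^ k ∧
      Nat.card N = Nat.card X ∧ ∀ x y : X, ∃! n : ↥N, (n : G) • x = y := by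
  obtain ⟨x0, x1, hne⟩ := exists_pair_ne X
  haveI : Nontrivial G := by
    obtain ⟨g, hg⟩ := exists_smul_eq G x0 x1
    refine ⟨g, 1, fun e => hne ?_⟩
    rw [← hg, e, one_smul]
  obtain ⟨N, hN⟩ := CfsgLib.MinNormal.exists_isMinNormal (G := G)
  haveI := hN.1
  have hab := hN.isMulCommutative
  obtain ⟨p, hp, -, -, k, -, hk⟩ := hN.exists_prime_elementaryAbelian hab
  haveI : IsPretransitive N X := IsQuasiPreprimitive.isPretransitive_of_normal fun h => hN.2.1 (by
    rw [eq_bot_iff]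
    intro g hg
    refine Subgroup.mem_bot.2 (eq_of_smul_eq_smul (α := X) fun x => ?_)
    rw [one_smul]
    exact ((Set.eq_univ_iff_forall.1 h) x) ⟨g, hg⟩)
  have key : ∀ x y : X, ∃! n : ↥N, (n : G) • x = y := by
    intro x y
    obtain ⟨n, hn⟩ := exists_smul_eq N x y
    refine ⟨n, hn, fun m hm => ?_⟩
    refine Subtype.ext (inv_mul_eq_one.1 (eq_of_smul_eq_smul (α := X) fun z => ?_)).symm
    rw [one_smul]
    obtain ⟨a, rfl⟩ := exists_smul_eq N x z
    change ((n : G)⁻¹ * (m : G)) • (a : G) • x = (a : G) • x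
    have hc : n⁻¹ * m * a = a * (n⁻¹ * m) := hab.is_comm.comm _ _
    have hc' : (n : G)⁻¹ * m * a = a * ((n : G)⁻¹ * m) := congrArg Subtype.val hc
    rw [← mul_smul, hc', mul_smul, mul_smul, hm, ← hn]
    change (a : G) • (n : G)⁻¹ • (n : G) • x = (a : G) • x
    rw [inv_smul_smul]
  refine ⟨N, p, k, hN.1, hp, hk, ?_, key⟩
  refine Nat.card_congr (Equiv.ofBijective (fun n : N => (n : G) • x0) ⟨?_, ?_⟩)
  · intro a b e
    exact (key x0 _).unique rfl e.symm
  · intro y
    obtain ⟨n, hn, -⟩ := key x0 y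
    exact ⟨n, hn⟩

namespace Frame

variable [Finite G] [Fintype X]

/-- The parameters of a frame. -/
theorem classify (s : Frame G X) (hG : Even (Nat.card G)) :
    (Nat.card X = 10 ∧ Nat.card G = 60) ∨
      (Nat.card X = 16 ∧ (Nat.card G = 576 ∨ Nat.card G = 320)) := by
  classical
  haveI := Fintype.ofFinite G
  rcases Nat.even_or_odd s.h with hev | hodd
  swap
  · by_cases h0 : s.L0 = ⊥
    · exact (odd_semi_false hG hodd h0).elim
    · exact (odd_nontriv_false hG hodd h0).elim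
  obtain ⟨z, hz⟩ := s.exists_inv hev
  have moved : ∀ y, s.Dpt y → z • y = y → ∃ s' : Frame G X, s'.Inv z ∧ z • s'.C = s'.C ∧
      Nat.card G = Nat.card X * (s'.k * s'.h) ∧ (s.L0 = ⊥ ↔ s'.L0 = ⊥) := by
    intro y hy hzy
    obtain ⟨s', eA, eB, eC, eK⟩ := s.exists_moved hy
    refine ⟨s', ⟨?_, hz.sq, hz.ne⟩, eC.symm ▸ hzy, s'.card_G, ?_⟩
    · rw [s'.mem_H, eA, eB]
      exact s.mem_H.1 hz.mem
    · have h1 : Nat.card s'.L0 = Nat.card {x : G // x ∈ s.K ∧ x • y = y} :=
        Nat.card_congr (Equiv.subtypeEquivRight fun x => by rw [s'.mem_L0, eK, eC])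
      rw [s.card_stab hy] at h1
      rw [← Subgroup.card_eq_one, ← Subgroup.card_eq_one, h1]
  by_cases h0 : s.L0 = ⊥
  · by_cases hfar : ∃ y, s.Dpt y ∧ z • y = y
    · obtain ⟨y, hy, hzy⟩ := hfar
      obtain ⟨s', hz', hC, hcard, hiff⟩ := moved y hy hzy
      obtain ⟨e1, e2⟩ := hz'.far_case hC (hiff.1 h0)
      exact Or.inr ⟨e1, Or.inr (by rw [hcard, e1, e2])⟩
    · push Not at hfar
      obtain ⟨e1, e2⟩ := hz.no_far_case h0 hev hfar
      exact Or.inl ⟨e1, by rw [s.card_G, e1, e2]⟩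
  · obtain ⟨y, hy, hzy⟩ := hz.exists_far_fixed h0
    obtain ⟨s', hz', hC, hcard, hiff⟩ := moved y hy hzy
    obtain ⟨e1, e2⟩ := hz'.nontriv_final hC (fun e => h0 (hiff.2 e))
    exact Or.inr ⟨e1, Or.inl (by rw [hcard, e1, e2])⟩

end Frame

end CfsgLib.FrobSuborbit
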