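import Cfsg.Agent.Lib.FrobSuborbit.Kernel
import Cfsg.Agent.Lib.FrobSuborbit.Orbit
import Cfsg.Agent.Lib.Frobenius.Basic
import Cfsg.Agent.Lib.OddChar.FrobeniusKernel

/-!
The case of a complement of odd order: the kernel is nilpotent of even order.
-/

set_option autoImplicit false
set_option linter.style.haveILetI false
set_option linter.unusedSectionVars false

open scoped Classical Pointwise
open MulAction Finset

namespace CfsgLib.FrobSuborbit.Frame

variable {G X : Type*} [Group G] [MulAction G X] [Finite G] [Fintype X] (s : Frame G X)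

theorem isFrobComplement : Cfsg.IsFrobeniusComplement (s.H.subgroupOf s.N) := by
  haveI : (s.K.subgroupOf s.N).Normal := ⟨fun x hx g => s.K_normal g g.2 x hx⟩
  refine CfsgLib.Frobenius.isFrobeniusComplement_of_normal_complement
    (K := s.K.subgroupOf s.N) ?_ ?_ ?_ ?_
  · refine Subgroup.isComplement'_of_card_mul_and_disjoint ?_ ?_
    · rw [Nat.card_congr (Subgroup.subgroupOfEquivOfLe s.K_le).toEquiv,
        Nat.card_congr (Subgroup.subgroupOfEquivOfLe (show s.H ≤ s.N from inf_le_left)).toEquiv,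
        s.card_N]
      rfl
    · rw [Subgroup.disjoint_def]
      intro x h1 h2
      exact Subtype.ext (s.K_inf_H h1 h2)
  · obtain ⟨x, hx, h1⟩ := s.K_ne
    exact (Subgroup.ne_bot_iff_exists_ne_one).2
      ⟨⟨⟨x, s.K_le hx⟩, hx⟩, fun e => h1 (congrArg (fun y => ((y : s.N) : G))
        (congrArg Subtype.val e))⟩
  · obtain ⟨g, hg, h1, e⟩ := s.hne
    exact (Subgroup.ne_bot_iff_exists_ne_one).2
      ⟨⟨⟨g, hg⟩, hg, e⟩, fun e' => h1 (congrArg (fun y => ((y : s.N) : G))
        (congrArg Subtype.val e'))⟩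
  · intro η hη h1 x hx e
    by_contra hx1
    exact h1 (Subtype.ext (s.K_inf_H (s.cent_K hx (fun e' => hx1 (Subtype.ext e')) η.2
      (congrArg Subtype.val e)) hη))

theorem K_nilpotent : Group.IsNilpotent s.K := by
  haveI : (s.K.subgroupOf s.N).Normal := ⟨fun x hx g => s.K_normal g g.2 x hx⟩
  have h := CfsgLib.OddChar.kernel_isNilpotent (N := s.N) (H := s.K.subgroupOf s.N)
    (fun x hx h1 g hg => s.cent_K hx (fun e => h1 (Subtype.ext e)) g.2
      (congrArg Subtype.val (Subgroup.mem_centralizer_singleton_iff.1 hg)))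
    (fun e => by
      obtain ⟨g, hg, h1, e'⟩ := s.hne
      have : (⟨g, hg⟩ : s.N) ∈ s.K.subgroupOf s.N := e ▸ Subgroup.mem_top _
      exact h1 (s.K_inf_H this ⟨hg, e'⟩))
  exact Group.nilpotent_of_mulEquiv (_h := h) (Subgroup.subgroupOfEquivOfLe s.K_le)

theorem k_even (hG : Even (Nat.card G)) (hodd : Odd s.h) : Even s.k := by
  by_contra hk
  rw [Nat.not_even_iff_odd] at hk
  have h1 := s.l_mul_card_L
  have hl : Odd s.l := Nat.Odd.of_mul_left (n := Nat.card s.L) (by rw [h1]; exact hk.mul hodd)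
  rw [s.card_G, s.card_X] at hG
  exact (Nat.not_even_iff_odd.2 (((odd_one.add_odd hk).add_odd hl).mul (hk.mul hodd))) hG

/-- Central involutions of the kernel and the identity. -/
def InE (x : G) : Prop := x ∈ s.K ∧ x * x = 1 ∧ ∀ y ∈ s.K, y * x = x * y

theorem InE_conj {g x : G} (hg : g ∈ s.N) (hx : s.InE x) : s.InE (g * x * g⁻¹) := by
  obtain ⟨h1, h2, h3⟩ := hx
  refine ⟨s.K_normal g hg x h1, ?_, fun y hy => ?_⟩
  · calc g * x * g⁻¹ * (g * x * g⁻¹) = g * (x * x) * g⁻¹ := by group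
      _ = 1 := by rw [h2]; group
  · have := h3 (g⁻¹ * y * g) (s.K_conj' hg hy)
    calc y * (g * x * g⁻¹) = g * (g⁻¹ * y * g * x) * g⁻¹ := by group
      _ = g * x * g⁻¹ * y := by rw [this]; group

/-- The subgroup of central involutions of the kernel. -/
def E : Subgroup G where
  carrier := {x | s.InE x}
  one_mem' := ⟨one_mem _, by simp, fun y _ => by simp⟩
  mul_mem' := by
    rintro a b ⟨a1, a2, a3⟩ ⟨b1, b2, b3⟩
    refine ⟨mul_mem a1 b1, ?_, fun y hy => ?_⟩
    · calc a * b * (a * b) = a * (b * a) * b := by group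
        _ = a * a * (b * b) := by rw [← b3 a a1]; group
        _ = 1 := by rw [a2, b2, one_mul]
    · rw [← mul_assoc, a3 y hy, mul_assoc, b3 y hy, mul_assoc]
  inv_mem' := by
    rintro a ⟨a1, a2, a3⟩
    rw [Set.mem_setOf_eq, inv_eq_of_mul_eq_one_right a2]
    exact ⟨a1, a2, a3⟩

theorem mem_E {x : G} : x ∈ s.E ↔ s.InE x := Iff.rfl

theorem E_le : s.E ≤ s.K := fun _ h => h.1

theorem exists_E (hG : Even (Nat.card G)) (hodd : Odd s.h) : ∃ z, z ∈ s.E ∧ z ≠ 1 := by
  haveI := s.K_nilpotent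
  haveI := Fact.mk Nat.prime_two
  obtain ⟨P⟩ : Nonempty (Sylow 2 s.K) := inferInstance
  have hP : (P : Subgroup s.K) ≠ ⊥ := P.ne_bot_of_dvd_card (even_iff_two_dvd.1 (s.k_even hG hodd))
  have hne := CfsgLib.OddOrder.PuigSeries.inf_center_ne_bot (P : Subgroup s.K) hP
  obtain ⟨⟨c, hc⟩, hc1⟩ := (Subgroup.ne_bot_iff_exists_ne_one).1 hne
  obtain ⟨i, hi⟩ := P.2 ⟨c, hc.2⟩
  have hi' : c ^ 2 ^ i = 1 := congrArg Subtype.val hi
  have hc1' : c ≠ 1 := fun e => hc1 (Subtype.ext e)
  -- a power of `c` of order two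
  obtain ⟨j, hj1, hj2⟩ : ∃ j, c ^ 2 ^ j ≠ 1 ∧ c ^ 2 ^ (j + 1) = 1 := by
    by_contra hcon
    push Not at hcon
    have : ∀ j, c ^ 2 ^ j ≠ 1 := by
      intro j
      induction j with
      | zero => simpa using hc1'
      | succ j ih => exact hcon j ih
    exact this i hi'
  refine ⟨((c ^ 2 ^ j : s.K) : G), ⟨(c ^ 2 ^ j).2, ?_, fun y hy => ?_⟩, fun e => hj1 (Subtype.ext e)⟩
  · rw [← Subgroup.coe_mul, ← pow_add, ← two_mul, mul_comm, ← pow_succ, hj2]; rfl
  · exact congrArg Subtype.val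
      (Subgroup.mem_center_iff.1 (pow_mem hc.1 (2 ^ j)) (⟨y, hy⟩ : s.K))

theorem E_normal {g x : G} (hg : g ∈ s.N) (hx : x ∈ s.E) : g * x * g⁻¹ ∈ s.E := s.InE_conj hg hx

theorem E_not_le_L0 (hG : Even (Nat.card G)) (hodd : Odd s.h) : ¬ s.E ≤ s.L0 := by
  intro h
  have := s.normal_le_L0 h fun g hg x hx => s.E_normal hg hx
  obtain ⟨z, hz, h1⟩ := s.exists_E hG hodd
  rw [this, Subgroup.mem_bot] at hz
  exact h1 hz

theorem l_even (hG : Even (Nat.card G)) (hodd : Odd s.h) : Even s.l := by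
  by_contra hl
  rw [Nat.not_even_iff_odd] at hl
  haveI := s.K_nilpotent
  haveI := Fact.mk Nat.prime_two
  obtain ⟨d, hd, hL⟩ := s.card_L
  have hdo : Odd d := hodd.of_dvd_nat hd
  obtain ⟨T⟩ : Nonempty (Sylow 2 s.K) := inferInstance
  obtain ⟨Q⟩ : Nonempty (Sylow 2 (s.L0.subgroupOf s.K)) := inferInstance
  -- the two-parts of `|K|` and `|L0|` agree
  have h1 := s.l_mul_card_L
  rw [hL] at h1
  have hmul : s.l * d * Nat.card s.L0 = s.h * Nat.card s.K := by
    rw [show Nat.card s.K = s.k from rfl, mul_comm s.h, ← h1]; ring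
  have hodd1 : Odd (s.l * d) := hl.mul hdo
  have hf : (Nat.card s.L0).factorization 2 = (Nat.card s.K).factorization 2 := by
    have e := congrArg (fun n => n.factorization 2) hmul
    have hz : ∀ {a : ℕ}, Odd a → a.factorization 2 = 0 := fun {a} ha =>
      Nat.factorization_eq_zero_of_not_dvd fun h =>
        (Nat.not_even_iff_odd.2 ha) (even_iff_two_dvd.2 h)
    simp only [Nat.factorization_mul hodd1.pos.ne'
      Nat.card_pos.ne', Nat.factorization_mul s.h_pos.ne' Nat.card_pos.ne', Finsupp.coe_add,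
      Pi.add_apply, hz hodd1, hz hodd, zero_add] at e
    exact e
  have hle : (T : Subgroup s.K) ≤ s.L0.subgroupOf s.K := by
    have hQ := Q.2.map (s.L0.subgroupOf s.K).subtype
    obtain ⟨T', hT'⟩ := hQ.exists_le_sylow
    have hTT : T' = T := by
      haveI : (T : Subgroup s.K).Normal := inferInstance
      letI := Sylow.unique_of_normal T ‹_›
      exact Subsingleton.elim _ _
    subst hTT
    have hcard : Nat.card (T' : Subgroup s.K) ≤
        Nat.card ((Q : Subgroup (s.L0.subgroupOf s.K)).map (s.L0.subgroupOf s.K).subtype) := by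
      rw [Subgroup.card_map_of_injective (Subgroup.subtype_injective _), T'.card_eq_multiplicity,
        Q.card_eq_multiplicity,
        Nat.card_congr (Subgroup.subgroupOfEquivOfLe (show s.L0 ≤ s.K from inf_le_left)).toEquiv, hf]
    rw [← Subgroup.eq_of_le_of_card_ge hT' hcard]
    exact Subgroup.map_subtype_le _
  -- the Sylow subgroup is normal in the stabilizer
  have hTn : ∀ g ∈ s.N, ∀ x ∈ ((T : Subgroup s.K).map s.K.subtype : Subgroup G),
      g * x * g⁻¹ ∈ ((T : Subgroup s.K).map s.K.subtype : Subgroup G) := by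
    intro g hg x' hx'
    obtain ⟨x, hx, rfl⟩ := Subgroup.mem_map.1 hx'
    refine Subgroup.mem_map.2 ⟨⟨g * x * g⁻¹, s.K_normal g hg x x.2⟩, ?_, rfl⟩
    obtain ⟨i, hi⟩ := T.2 ⟨x, hx⟩
    have hi' : (x : G) ^ 2 ^ i = 1 := congrArg (fun y : (T : Subgroup s.K) => ((y : s.K) : G)) hi
    set y : s.K := ⟨g * x * g⁻¹, s.K_normal g hg x x.2⟩
    have hy : y ^ 2 ^ i = 1 := Subtype.ext (by
      show (g * (x : G) * g⁻¹) ^ 2 ^ i = 1
      rw [conj_pow, hi']; simp)
    have hyp : IsPGroup 2 (Subgroup.zpowers y) := by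
      rintro ⟨t, ht⟩
      obtain ⟨n, rfl⟩ := Subgroup.mem_zpowers_iff.1 ht
      refine ⟨i, Subtype.ext ?_⟩
      show (y ^ n) ^ 2 ^ i = 1
      rw [← zpow_natCast, ← zpow_mul, mul_comm, zpow_mul, zpow_natCast, hy, one_zpow]
    obtain ⟨T', hT'⟩ := hyp.exists_le_sylow
    haveI : (T : Subgroup s.K).Normal := inferInstance
    letI := Sylow.unique_of_normal T ‹_›
    rw [← Subsingleton.elim T' T]
    exact hT' (Subgroup.mem_zpowers y)
  have hbot := s.normal_le_L0 (M := (T : Subgroup s.K).map s.K.subtype) (fun x' hx' => by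
    obtain ⟨x, hx, rfl⟩ := Subgroup.mem_map.1 hx'
    exact hle hx) hTn
  rw [Subgroup.map_eq_bot_iff_of_injective _ s.K.subtype_injective] at hbot
  exact T.ne_bot_of_dvd_card (even_iff_two_dvd.1 (s.k_even hG hodd)) hbot

end CfsgLib.FrobSuborbit.Frame
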