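import Cfsg.Agent.Lib.FrobSuborbit.OddSwap

/-!
The hyperplanes `E ∩ L0` meet trivially.
-/

set_option autoImplicit false
set_option linter.style.haveILetI false
set_option linter.unusedSectionVars false

open scoped Classical
open MulAction Finset

namespace CfsgLib.FrobSuborbit.Frame

variable {G X : Type*} [Group G] [MulAction G X] [Finite G] [Fintype X] (s : Frame G X)
  [Fintype G]

/-- The subgroup `E ∩ L0`. -/
noncomputable abbrev Psub : Subgroup G := s.E ⊓ stabilizer G s.C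

variable {s}

theorem mem_Psub {x : G} : x ∈ s.Psub ↔ x ∈ s.E ∧ x • s.C = s.C := Iff.rfl

theorem Psub_L0 {x : G} (hx : x ∈ s.Psub) : x ∈ s.L0 := ⟨hx.1.1, hx.2⟩

theorem card_Eo (h0 : s.L0 ≠ ⊥) (hE : s.Eo.Nonempty) : s.Eo.card = Nat.card s.Psub := by
  obtain ⟨e0, he0⟩ := hE
  rw [← Nat.card_eq_finsetCard]
  refine Nat.card_congr
    { toFun := fun e => ⟨e0 * e, mul_mem (mem_Eo.1 he0).1 (mem_Eo.1 e.2).1,
        (Eo_prod h0 e.2 he0).2⟩
      invFun := fun p => ⟨e0 * p, mem_Eo.2 ⟨mul_mem (mem_Eo.1 he0).1 p.2.1, fun h => ?_⟩⟩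
      left_inv := fun e => ?_
      right_inv := fun p => ?_ }
  · rw [mul_smul, mem_stabilizer_iff.1 p.2.2] at h
    exact (mem_Eo.1 he0).2 h
  · exact Subtype.ext (by simp [← mul_assoc, E_sq (mem_Eo.1 he0).1])
  · exact Subtype.ext (by simp [← mul_assoc, E_sq (mem_Eo.1 he0).1])

theorem card_E (h0 : s.L0 ≠ ⊥) (hE : s.Eo.Nonempty) : Nat.card s.E = 2 * Nat.card s.Psub := by
  have h1 : Nat.card s.E = (univ.filter fun e : G => e ∈ s.E).card := by
    rw [Nat.card_eq_fintype_card, Fintype.card_subtype]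
  have h2 : Nat.card s.Psub = ((univ.filter fun e : G => e ∈ s.E).filter fun e => e • s.C = s.C).card := by
    rw [filter_filter, Nat.card_eq_fintype_card, Fintype.card_subtype]
    exact congrArg card (filter_congr fun e _ => Iff.rfl)
  have h3 := card_filter_add_card_filter_not (fun e : G => e • s.C = s.C)
    (s := univ.filter fun e : G => e ∈ s.E)
  have h4 : s.Eo = (univ.filter fun e : G => e ∈ s.E).filter fun e => ¬ e • s.C = s.C := by
    rw [filter_filter]; rfl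
  rw [← h4, card_Eo h0 hE, ← h1, ← h2] at h3
  omega

theorem Psub_two : IsPGroup 2 s.Psub := fun x => ⟨1, Subtype.ext (by
  show (x : G) ^ (2 ^ 1) = 1
  rw [pow_one, pow_two, E_sq x.2.1])⟩

/-- Only the kernel normalizes `E ∩ L0`. -/
theorem eq_one_of_norm (hodd : Odd s.h) (h0 : s.L0 ≠ ⊥) (hE : s.Eo.Nonempty) {η : G}
    (hη : η ∈ s.H) (hn : ∀ x ∈ s.Psub, η * x * η⁻¹ ∈ s.Psub) : η = 1 := by
  let J : Subgroup G := Subgroup.zpowers η
  have hJH : J ≤ s.H := Subgroup.zpowers_le.2 hη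
  let S : Subgroup G :=
    { carrier := {g | g ∈ s.H ∧ ∀ x ∈ s.Psub, g * x * g⁻¹ ∈ s.Psub}
      mul_mem' := fun {a b} ha hb => ⟨s.H.mul_mem ha.1 hb.1, fun x hx => by
        have := ha.2 _ (hb.2 x hx)
        rwa [show a * b * x * (a * b)⁻¹ = a * (b * x * b⁻¹) * a⁻¹ by group]⟩
      one_mem' := ⟨s.H.one_mem, fun x hx => by simpa using hx⟩
      inv_mem' := fun {a} ha => ⟨s.H.inv_mem ha.1, fun x hx => by
        let f : s.Psub → s.Psub := fun y => ⟨a * y * a⁻¹, ha.2 y y.2⟩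
        have hf : Function.Injective f := fun u v e => Subtype.ext
          (mul_left_cancel (mul_right_cancel (congrArg Subtype.val e)))
        obtain ⟨⟨y, hy⟩, e⟩ := Finite.injective_iff_surjective.1 hf ⟨x, hx⟩
        have e' : a * y * a⁻¹ = x := congrArg Subtype.val e
        rw [← e']
        simpa [mul_assoc] using hy⟩ }
  let T := {e : G // e ∈ s.Eo}
  letI : MulAction S T :=
    { smul := fun g e => ⟨(g : G) * e * (g : G)⁻¹, mem_Eo.2
        ⟨s.E_normal g.2.1.1 (mem_Eo.1 e.2).1, fun h => (mem_Eo.1 e.2).2 (by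
          have hP : (g : G) * e * (g : G)⁻¹ ∈ s.Psub :=
            ⟨s.E_normal g.2.1.1 (mem_Eo.1 e.2).1, h⟩
          have := (S.inv_mem g.2).2 _ hP
          simpa [mul_assoc] using mem_stabilizer_iff.1 this.2)⟩⟩
      one_smul := fun e => Subtype.ext (show (1 : G) * (e : G) * (1 : G)⁻¹ = e by simp)
      mul_smul := fun a b e => Subtype.ext
        (show ((a : G) * b) * (e : G) * ((a : G) * b)⁻¹ = a * (b * e * (b : G)⁻¹) * (a : G)⁻¹ by
          group) }
  have hdvd : Nat.card S ∣ Nat.card T := card_dvd_of_free fun g e he => by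
    by_contra hg
    have e' : (g : G) * e * (g : G)⁻¹ = e := congrArg Subtype.val he
    have he1 : (e : G) ≠ 1 := fun e1 => (mem_Eo.1 e.2).2 (by rw [e1, one_smul])
    rw [mul_inv_eq_iff_eq_mul] at e'
    exact hg (Subtype.ext (s.K_inf_H (s.cent_K (mem_Eo.1 e.2).1.1 he1 g.2.1.1 e') g.2.1))
  have hT : Nat.card T = Nat.card s.Psub := by
    rw [Nat.card_eq_finsetCard, card_Eo h0 hE]
  haveI := Fact.mk Nat.prime_two
  obtain ⟨i, hi⟩ := (Psub_two (s := s)).exists_card_eq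
  rw [hT, hi] at hdvd
  have hSh : Nat.card S ∣ s.h := Subgroup.card_dvd_of_le (fun g (hg : g ∈ S) => hg.1)
  have h1 : Nat.card S = 1 := Nat.eq_one_of_dvd_coprimes
    ((Nat.coprime_two_left.2 hodd).pow_left i) hdvd hSh
  have : η ∈ S := ⟨hη, hn⟩
  rw [Subgroup.card_eq_one.1 h1, Subgroup.mem_bot] at this
  exact this

theorem nrm_mem_K (hodd : Odd s.h) (h0 : s.L0 ≠ ⊥) (hE : s.Eo.Nonempty) {g : G} (hg : g ∈ s.N)
    (hn : ∀ x ∈ s.Psub, g * x * g⁻¹ ∈ s.Psub) : g ∈ s.K := by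
  obtain ⟨a, ha, η, hη, rfl⟩ := s.decomp hg
  have : η = 1 := by
    refine eq_one_of_norm hodd h0 hE hη fun x hx => ?_
    have h1 := hn x hx
    have h2 : η * x * η⁻¹ ∈ s.E := s.E_normal hη.1 hx.1
    have e : a * η * x * (a * η)⁻¹ = η * x * η⁻¹ := by
      calc a * η * x * (a * η)⁻¹ = a * (η * x * η⁻¹) * a⁻¹ := by group
        _ = η * x * η⁻¹ := by rw [h2.2.2 a ha, mul_inv_cancel_right]
    rwa [e] at h1
  rw [this, mul_one]; exact ha

theorem nrm_Psub {g : G} (hg : g ∈ s.N) (hn : s.Nrm g) : ∀ x ∈ s.Psub, g * x * g⁻¹ ∈ s.Psub :=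
  fun x hx => ⟨s.E_normal hg hx.1, (hn x (Psub_L0 hx)).2⟩

theorem moved_card (hE : s.Eo.Nonempty) {y : X} (hy : s.Dpt y) :
    (univ.filter fun e : G => e ∈ s.E ∧ e • y ≠ y).card = s.Eo.card := by
  obtain ⟨g, hg, rfl⟩ := hy
  refine card_equiv (MulAut.conj g⁻¹).toEquiv fun e => ?_
  simp only [mem_filter, mem_univ, true_and, mem_Eo, MulEquiv.toEquiv_eq_coe,
    MulEquiv.coe_toEquiv, MulAut.conj_apply, inv_inv, mul_smul]
  rw [ne_eq, ne_eq, inv_smul_eq_iff]
  constructor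
  · rintro ⟨h1, h2⟩
    exact ⟨by simpa using s.E_normal (inv_mem hg) h1, h2⟩
  · rintro ⟨h1, h2⟩
    exact ⟨by simpa [mul_assoc] using s.E_normal hg h1, h2⟩

/-- Two different conjugates of `E ∩ L0` meet trivially. -/
theorem meet_trivial (hodd : Odd s.h) (h0 : s.L0 ≠ ⊥) (hE : s.Eo.Nonempty) {η z : G}
    (hη : η ∈ s.H) (hη1 : η ≠ 1) (hz : z ∈ s.Psub) (hz' : η⁻¹ * z * η ∈ s.Psub) : z = 1 := by
  by_contra hz1
  -- an element fixing `C' = η • C` but not `C`
  obtain ⟨y, hyE, hyC', hyC⟩ : ∃ y, y ∈ s.E ∧ y • η • s.C = η • s.C ∧ y • s.C ≠ s.C := by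
    by_contra hcon
    push Not at hcon
    refine hη1 (eq_one_of_norm hodd h0 hE hη fun x hx => ⟨s.E_normal hη.1 hx.1, ?_⟩)
    refine hcon _ (s.E_normal hη.1 hx.1) ?_
    rw [← mul_smul, inv_mul_cancel_right, mul_smul, mem_stabilizer_iff.1 hx.2]
  obtain ⟨D, hDo, -, -, hS⟩ := exists_mid h0 hE
  obtain ⟨v, hv⟩ : s.Sset.Nonempty := card_pos.1 (by rw [card_Sset h0]; exact card_pos.2 hE)
  obtain ⟨hvV, v1, v2⟩ := mem_Sset.1 hv
  have hzL : z ∈ s.L0 := Psub_L0 hz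
  -- the conjugating element
  obtain ⟨g, hg, hgQ⟩ : ∃ g ∈ s.N, g • s.C = v • y • s.C := by
    refine orb_Dpt h0 (s.nrm_smul_orb (V_nrm hvV) (s.nrm_smul_orb (E_nrm hyE) s.C_mem_orb)) ?_
    rw [← v2]
    exact fun e => hyC (smul_left_cancel v e)
  have hgn : s.Nrm g := by
    refine nrm_of_mem hg ?_
    rw [hgQ]
    exact s.nrm_smul_orb (V_nrm hvV) (s.nrm_smul_orb (E_nrm hyE) s.C_mem_orb)
  have hgK := nrm_mem_K hodd h0 hE hg (nrm_Psub hg hgn)
  set j := g⁻¹ * v with hj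
  have hjn : s.Nrm j := s.nrm_mul (s.nrm_inv hgn) (V_nrm hvV)
  have hjC : j • s.C = s.A := by rw [hj, mul_smul, v2, inv_fix (s.fixA hgK)]
  have hjyC : j • y • s.C = s.C := by rw [hj, mul_smul, ← hgQ, inv_smul_smul]
  have hjz : j * z = z * j := by
    rw [hj, mul_assoc, V_centralizes hvV hzL, ← mul_assoc, ← mul_assoc]
    congr 1
    exact hz.1.2.2 _ (inv_mem hgK)
  set w := j * y * j⁻¹ with hw
  have hwS : w ∈ s.Sset := by
    refine mem_Sset.2 ⟨mem_Vset.2 ⟨j, hjn, ?_⟩, ?_, ?_⟩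
    · rw [hw, show j⁻¹ * (j * y * j⁻¹) * j = y by group]
      exact mem_Eo.2 ⟨hyE, hyC⟩
    · rw [hw, mul_smul, mul_smul, ← hjC, inv_smul_smul, hjyC]
    · rw [hw, mul_smul, mul_smul, show j⁻¹ • s.C = y • s.C by rw [inv_smul_eq_iff, hjyC],
        ← mul_smul y y, E_sq hyE, one_smul, hjC]
  -- the extra fixed point
  set D' := j • η • s.C with hD'
  have hD'o : D' ∉ s.orb := by
    intro h
    have h1 := s.nrm_smul_orb (s.nrm_inv hjn) h
    rw [hD', inv_smul_smul] at h1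
    exact hη1 (s.K_inf_H (nrm_mem_K hodd h0 hE hη.1 (nrm_Psub hη.1 (nrm_of_mem hη.1 h1))) hη)
  have hzC' : z • η • s.C = η • s.C := by
    have := mem_stabilizer_iff.1 hz'.2
    rwa [mul_smul, mul_smul, inv_smul_eq_iff] at this
  have hzD' : z • D' = D' := by
    rw [hD', ← mul_smul, ← hjz, mul_smul, hzC']
  have hwD' : s.InEat D' w :=
    (inEat_conj j).2 (inEat_of_fix h0 hE (inEat_A.2 hyE) hyC')
  -- counting inside the fixed points of `z`
  set F := univ.filter fun Q : X => z • Q = Q with hF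
  have memF : ∀ {Q : X}, Q ∈ F ↔ z • Q = Q := by simp [hF]
  have hzA : s.InEat s.A z := inEat_A.2 hz.1
  have hcomm : ∀ {Y : X} {e : G}, Y ∈ F → s.InEat Y e → z * e = e * z := fun hY he =>
    inEat_comm (inEat_of_fix h0 hE hzA (memF.1 hY)) he
  have hmap : ∀ {e : G} {P : X}, z * e = e * z → P ∈ F → e • P ∈ F := fun {e P} h hP => by
    rw [memF, ← mul_smul, h, mul_smul, memF.1 hP]
  have hDpt : ∀ {Q : X}, Q ∈ F → Q ≠ s.A → s.Dpt Q := fun {Q} hQ hne =>
    s.Dpt_iff.2 ⟨hne, fun hI => s.K_fix hz.1.1 hz1 hI (memF.1 hQ)⟩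
  have htr : ∀ P ∈ F, ∃ c : G, c * z = z * c ∧ c • s.A = P := by
    intro P hP
    rcases eq_or_ne P s.A with rfl | hne
    · exact ⟨1, by simp, one_smul _ _⟩
    obtain ⟨a, ha, rfl⟩ := hDpt hP hne
    refine ⟨a * v * a⁻¹, ?_, by rw [mul_smul, mul_smul, inv_fix (mem_stabilizer_iff.1 ha), v1]⟩
    have h1 : a⁻¹ * z * a ∈ s.L0 := (s.L0_conj ha).1 ⟨hz.1.1, memF.1 hP⟩
    calc a * v * a⁻¹ * z = a * (v * (a⁻¹ * z * a)) * a⁻¹ := by group
      _ = a * ((a⁻¹ * z * a) * v) * a⁻¹ := by rw [V_centralizes hvV h1]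
      _ = z * (a * v * a⁻¹) := by group
  let W : X → X → Finset (X × G) := fun P Q =>
    (F ×ˢ (univ : Finset G)).filter fun p => s.InEat p.1 p.2 ∧ p.2 • P = Q
  -- every pair is interchanged often enough
  have hlow : ∀ P ∈ F, ∀ Q ∈ F.erase P, s.Eo.card ≤ (W P Q).card := by
    intro P hP Q hQ
    obtain ⟨hne, hQF⟩ := mem_erase.1 hQ
    obtain ⟨c, hc, rfl⟩ := htr P hP
    have hc' : c⁻¹ * z = z * c⁻¹ := by
      calc c⁻¹ * z = c⁻¹ * (z * c) * c⁻¹ := by group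
        _ = c⁻¹ * (c * z) * c⁻¹ := by rw [hc]
        _ = z * c⁻¹ := by group
    obtain ⟨a, ha, e⟩ := hDpt (hmap hc'.symm hQF) fun e => hne (inv_smul_eq_iff.1 e)
    have hzC : a⁻¹ * z * a ∈ s.L0 :=
      (s.L0_conj ha).1 ⟨hz.1.1, by rw [e]; exact memF.1 (hmap hc'.symm hQF)⟩
    rw [← card_Sset h0]
    refine card_le_card_of_injOn (fun y => ((c * a) • D, (c * a) * y * (c * a)⁻¹)) ?_ ?_
    · intro y hy
      obtain ⟨-, y1, -⟩ := mem_Sset.1 hy
      refine mem_filter.2 ⟨mem_product.2 ⟨memF.2 ?_, mem_univ _⟩, ?_, ?_⟩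
      · have h1 := s.mem_orb.1 hDo _ hzC
        rw [mul_smul, mul_smul, inv_smul_eq_iff] at h1
        show z • (c * a) • D = (c * a) • D
        rw [mul_smul c a, ← mul_smul z c, ← hc, mul_smul, h1]
      · refine (inEat_conj (c * a)).2 ?_
        rw [hS] at hy
        obtain ⟨hyV, hyD⟩ := mem_filter.1 hy
        obtain ⟨i, hi, h⟩ := mem_Vset.1 hyV
        refine inEat_of_fix h0 hE (Y := i • s.A) ?_ hyD
        have := (inEat_conj i).2 (inEat_A.2 (mem_Eo.1 h).1)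
        rwa [show i * (i⁻¹ * y * i) * i⁻¹ = y by group] at this
      · show ((c * a) * y * (c * a)⁻¹) • c • s.A = Q
        rw [mul_inv_rev, mul_smul, mul_smul, mul_smul, mul_smul, inv_smul_smul,
          inv_fix (mem_stabilizer_iff.1 ha), y1, e, smul_inv_smul]
    · intro y _ y' _ h
      exact mul_left_cancel (mul_right_cancel (Prod.ext_iff.1 h).2)
  have hA : s.A ∈ F := memF.2 (s.fixA hz.1.1)
  have hC : s.C ∈ F := memF.2 (mem_stabilizer_iff.1 hz.2)
  have hDF : D ∈ F := memF.2 (s.mem_orb.1 hDo z hzL)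
  -- one pair is interchanged more often
  have hstrict : s.Eo.card < (W s.A s.C).card := by
    rw [← card_Sset h0]
    have hsub : insert (D', w) (s.Sset.map ⟨fun y => (D, y), fun a b e => (Prod.ext_iff.1 e).2⟩) ⊆
        W s.A s.C := by
      intro p hp
      rcases mem_insert.1 hp with rfl | hp
      · exact mem_filter.2 ⟨mem_product.2 ⟨memF.2 hzD', mem_univ _⟩, hwD', (mem_Sset.1 hwS).2.1⟩
      · obtain ⟨y, hy, rfl⟩ := mem_map.1 hp
        refine mem_filter.2 ⟨mem_product.2 ⟨hDF, mem_univ _⟩, ?_, (mem_Sset.1 hy).2.1⟩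
        have hy' := hy
        rw [hS] at hy'
        obtain ⟨hyV, hyD⟩ := mem_filter.1 hy'
        obtain ⟨i, hi, h⟩ := mem_Vset.1 hyV
        refine inEat_of_fix h0 hE (Y := i • s.A) ?_ hyD
        have := (inEat_conj i).2 (inEat_A.2 (mem_Eo.1 h).1)
        rwa [show i * (i⁻¹ * y * i) * i⁻¹ = y by group] at this
    have := card_le_card hsub
    rw [card_insert_of_notMem, card_map] at this
    · omega
    · intro h
      obtain ⟨y, -, e⟩ := mem_map.1 h
      have e' : D = D' := (Prod.ext_iff.1 e).1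
      exact hD'o (e' ▸ hDo)
  -- the total
  have htot : ∑ P ∈ F, ∑ Q ∈ F.erase P, (W P Q).card = ∑ P ∈ F, ∑ Q ∈ F.erase P, s.Eo.card := by
    have e1 : ∀ P ∈ F, ∑ Q ∈ F.erase P, (W P Q).card =
        ((F ×ˢ (univ : Finset G)).filter fun p => s.InEat p.1 p.2 ∧ p.2 • P ≠ P).card := by
      intro P hP
      rw [card_eq_sum_card_fiberwise (f := fun p : X × G => p.2 • P) (t := F.erase P) fun p hp => by
        obtain ⟨hp1, hp2, hp3⟩ := mem_filter.1 hp
        exact mem_erase.2 ⟨hp3, hmap (hcomm (mem_product.1 hp1).1 hp2) hP⟩]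
      refine sum_congr rfl fun Q hQ => ?_
      rw [filter_filter]
      exact congrArg card (filter_congr fun p _ =>
        ⟨fun h => ⟨⟨h.1, fun h' => (mem_erase.1 hQ).1 (h.2.symm.trans h')⟩, h.2⟩,
          fun h => ⟨h.1.1, h.2⟩⟩)
    rw [sum_congr rfl e1]
    simp only [card_filter]
    rw [sum_comm, sum_product]
    have e2 : ∀ P ∈ F, ∑ Q ∈ F.erase P, s.Eo.card = (F.card - 1) * s.Eo.card := fun P hP => by
      rw [sum_const, smul_eq_mul, card_erase_of_mem hP]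
    rw [sum_congr rfl e2]
    refine sum_congr rfl fun Y hY => ?_
    obtain ⟨c, hc, rfl⟩ := htr Y hY
    have hc' : c⁻¹ * z = z * c⁻¹ := by
      calc c⁻¹ * z = c⁻¹ * (z * c) * c⁻¹ := by group
        _ = c⁻¹ * (c * z) * c⁻¹ := by rw [hc]
        _ = z * c⁻¹ := by group
    -- move to `A`
    have e3 : ∑ e : G, ∑ P ∈ F, (if s.InEat (c • s.A) e ∧ e • P ≠ P then 1 else 0) =
        ∑ P ∈ F, (univ.filter fun e : G => e ∈ s.E ∧ e • P ≠ P).card := by
      rw [sum_comm]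
      simp only [← card_filter]
      refine sum_nbij' (fun P => c⁻¹ • P) (fun P => c • P) (fun P hP => hmap hc'.symm hP)
        (fun P hP => hmap hc.symm hP) (fun P _ => smul_inv_smul c P)
        (fun P _ => inv_smul_smul c P) fun P hP => ?_
      refine card_equiv (MulAut.conj c⁻¹).toEquiv fun e => ?_
      simp only [mem_filter, mem_univ, true_and, MulEquiv.toEquiv_eq_coe, MulEquiv.coe_toEquiv,
        MulAut.conj_apply, inv_inv, mul_smul, smul_inv_smul]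
      rw [inEat_iff (g := c) rfl, ne_eq, ne_eq, smul_left_cancel_iff]
    rw [e3, ← add_sum_erase _ _ hA]
    have e4 : (univ.filter fun e : G => e ∈ s.E ∧ e • s.A ≠ s.A).card = 0 := by
      rw [card_eq_zero, filter_eq_empty_iff]
      exact fun e _ h => h.2 (s.fixA h.1.1)
    rw [e4, zero_add]
    rw [sum_congr rfl fun Q hQ => moved_card hE (hDpt (mem_erase.1 hQ).2 (mem_erase.1 hQ).1),
      sum_const, smul_eq_mul, card_erase_of_mem hA]
  have hlt : ∑ P ∈ F, ∑ Q ∈ F.erase P, s.Eo.card < ∑ P ∈ F, ∑ Q ∈ F.erase P, (W P Q).card := by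
    refine sum_lt_sum (fun P hP => sum_le_sum (hlow P hP)) ⟨s.A, hA, ?_⟩
    exact sum_lt_sum (hlow s.A hA) ⟨s.C, mem_erase.2 ⟨s.C_ne, hC⟩, hstrict⟩
  omega

end CfsgLib.FrobSuborbit.Frame
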