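import Cfsg.Agent.Lib.FrobSuborbit.OddBasic
import Cfsg.Agent.Lib.FrobSuborbit.Count

/-!
A complement of odd order: the central involutions acting on the fixed point set of `L0`.
-/

set_option autoImplicit false
set_option linter.style.haveILetI false
set_option linter.unusedSectionVars false

open scoped Classical
open MulAction Finset

namespace CfsgLib.FrobSuborbit.Frame

variable {G X : Type*} [Group G] [MulAction G X] [Finite G] [Fintype X] (s : Frame G X)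
  [Fintype G]

/-- The central involutions moving `C`. -/
noncomputable def Eo : Finset G := univ.filter fun e => e ∈ s.E ∧ e • s.C ≠ s.C

/-- Their conjugates in the normalizer of `L0`. -/
noncomputable def Vset : Finset G := univ.filter fun v => ∃ j, s.Nrm j ∧ j⁻¹ * v * j ∈ s.Eo

/-- Those interchanging `A` and `C`. -/
noncomputable def Sset : Finset G := s.Vset.filter fun v => v • s.A = s.C ∧ v • s.C = s.A

/-- `x` is a central involution of the kernel at `Q`, or the identity. -/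
def InEat (Q : X) (x : G) : Prop := ∃ g : G, g • s.A = Q ∧ g⁻¹ * x * g ∈ s.E

variable {s}

theorem mem_Eo {e : G} : e ∈ s.Eo ↔ e ∈ s.E ∧ e • s.C ≠ s.C := by simp [Eo]

theorem mem_Vset {v : G} : v ∈ s.Vset ↔ ∃ j, s.Nrm j ∧ j⁻¹ * v * j ∈ s.Eo := by simp [Vset]

theorem mem_Sset {v : G} : v ∈ s.Sset ↔ v ∈ s.Vset ∧ v • s.A = s.C ∧ v • s.C = s.A := by
  simp [Sset]

theorem E_nrm {e : G} (he : e ∈ s.E) : s.Nrm e := fun x hx => by
  rw [← he.2.2 x hx.1, mul_inv_cancel_right]; exact hx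

theorem E_sq {e : G} (he : e ∈ s.E) : e * e = 1 := he.2.1

theorem E_inv {e : G} (he : e ∈ s.E) : e⁻¹ = e := inv_eq_of_mul_eq_one_right he.2.1

theorem V_sq {v : G} (hv : v ∈ s.Vset) : v * v = 1 := by
  obtain ⟨j, -, h⟩ := mem_Vset.1 hv
  calc v * v = j * (j⁻¹ * v * j * (j⁻¹ * v * j)) * j⁻¹ := by group
    _ = 1 := by rw [E_sq (mem_Eo.1 h).1]; group

theorem V_nrm {v : G} (hv : v ∈ s.Vset) : s.Nrm v := by
  obtain ⟨j, hj, h⟩ := mem_Vset.1 hv
  have := s.nrm_mul (s.nrm_mul hj (E_nrm (mem_Eo.1 h).1)) (s.nrm_inv hj)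
  simpa [mul_assoc] using this

theorem V_conj {v i : G} (hi : s.Nrm i) (hv : v ∈ s.Vset) : i * v * i⁻¹ ∈ s.Vset := by
  obtain ⟨j, hj, h⟩ := mem_Vset.1 hv
  refine mem_Vset.2 ⟨i * j, s.nrm_mul hi hj, ?_⟩
  rwa [show (i * j)⁻¹ * (i * v * i⁻¹) * (i * j) = j⁻¹ * v * j by group]

theorem V_centralizes {v x : G} (hv : v ∈ s.Vset) (hx : x ∈ s.L0) : v * x = x * v := by
  obtain ⟨j, hj, h⟩ := mem_Vset.1 hv
  have h1 : j⁻¹ * x * j ∈ s.L0 := by simpa using s.nrm_inv hj x hx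
  have h2 := (mem_Eo.1 h).1.2.2 _ h1.1
  calc v * x = j * ((j⁻¹ * v * j) * (j⁻¹ * x * j)) * j⁻¹ := by group
    _ = j * ((j⁻¹ * x * j) * (j⁻¹ * v * j)) * j⁻¹ := by rw [h2]
    _ = x * v := by group

theorem Eo_fix (h0 : s.L0 ≠ ⊥) {e : G} (he : e ∈ s.Eo) {P : X} (hP : P ∈ s.orb)
    (h : e • P = P) : P = s.A := by
  by_contra hne
  obtain ⟨g, hg, rfl⟩ := orb_Dpt h0 hP hne
  have hn := nrm_of_mem hg hP
  have h1 : g⁻¹ * e * g ∈ s.E := by simpa using s.E_normal (inv_mem hg) (mem_Eo.1 he).1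
  have h2 : g⁻¹ * e * g ∈ s.L0 :=
    ⟨h1.1, mem_stabilizer_iff.2 (by rw [mul_smul, mul_smul, h, inv_smul_smul])⟩
  have h3 := hn _ h2
  exact (mem_Eo.1 he).2 (by simpa [mul_assoc] using mem_stabilizer_iff.1 h3.2)

theorem Eo_conj {g e : G} (h0 : s.L0 ≠ ⊥) (hg : g ∈ s.N) (hn : s.Nrm g) (he : e ∈ s.Eo) :
    g * e * g⁻¹ ∈ s.Eo := by
  refine mem_Eo.2 ⟨s.E_normal hg (mem_Eo.1 he).1, fun h => ?_⟩
  rw [mul_smul, mul_smul, ← eq_inv_smul_iff] at h
  have := Eo_fix h0 he (s.nrm_smul_orb (s.nrm_inv hn) s.C_mem_orb) h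
  rw [inv_smul_eq_iff, mem_stabilizer_iff.1 hg] at this
  exact s.C_ne this

/-- The members fixing a given point of the orbit. -/
theorem card_V_fix (h0 : s.L0 ≠ ⊥) {P : X} (hP : P ∈ s.orb) :
    (s.Vset.filter fun v => v • P = P).card = s.Eo.card := by
  obtain ⟨i, hi, rfl⟩ := exists_nrm_A h0 hP
  refine (card_bij (fun e _ => i * e * i⁻¹) ?_ ?_ ?_).symm
  · intro e he
    refine mem_filter.2 ⟨mem_Vset.2 ⟨i, hi, by simpa [mul_assoc] using he⟩, ?_⟩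
    rw [mul_smul, mul_smul, inv_smul_smul, s.fixA (mem_Eo.1 he).1.1]
  · exact fun a _ b _ e => mul_left_cancel (mul_right_cancel e)
  · intro v hv
    obtain ⟨hvV, hfix⟩ := mem_filter.1 hv
    obtain ⟨j, hj, h⟩ := mem_Vset.1 hvV
    have h1 : j⁻¹ • i • s.A = s.A := by
      refine Eo_fix h0 h (s.nrm_smul_orb (s.nrm_inv hj) hP) ?_
      rw [mul_smul, mul_smul, smul_inv_smul, hfix]
    rw [inv_smul_eq_iff] at h1
    have hn : i⁻¹ * j ∈ s.N := by
      rw [mem_stabilizer_iff, mul_smul, ← h1, inv_smul_smul]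
    refine ⟨i⁻¹ * v * i, ?_, by group⟩
    have := Eo_conj h0 hn (s.nrm_mul (s.nrm_inv hi) hj) h
    rwa [show i⁻¹ * j * (j⁻¹ * v * j) * (i⁻¹ * j)⁻¹ = i⁻¹ * v * i by group] at this

theorem V_fix_unique (h0 : s.L0 ≠ ⊥) {v : G} (hv : v ∈ s.Vset) :
    (s.orb.filter fun P => v • P = P).card = 1 := by
  obtain ⟨j, hj, h⟩ := mem_Vset.1 hv
  rw [card_eq_one]
  refine ⟨j • s.A, ?_⟩
  ext P
  simp only [mem_filter, mem_singleton]
  constructor
  · rintro ⟨hP, hf⟩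
    rw [← inv_smul_eq_iff]
    exact Eo_fix h0 h (s.nrm_smul_orb (s.nrm_inv hj) hP)
      (by rw [mul_smul, mul_smul, smul_inv_smul, hf])
  · rintro rfl
    refine ⟨s.nrm_smul_orb hj s.A_mem_orb, ?_⟩
    have := s.fixA (mem_Eo.1 h).1.1
    rwa [mul_smul, mul_smul, inv_smul_eq_iff] at this

/-- As many members interchange `A` and `C` as fix a point. -/
theorem card_Sset (h0 : s.L0 ≠ ⊥) : s.Sset.card = s.Eo.card := by
  have hM : 0 < s.orb.card := card_pos.2 ⟨_, s.A_mem_orb⟩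
  have hM2 : 2 ≤ s.orb.card :=
    one_lt_card.2 ⟨s.A, s.A_mem_orb, s.C, s.C_mem_orb, s.C_ne.symm⟩
  have hV : s.Vset.card = s.orb.card * s.Eo.card := by
    have e1 : ∑ v ∈ s.Vset, (s.orb.filter fun P => v • P = P).card = s.Vset.card := by
      rw [sum_congr rfl fun v hv => V_fix_unique h0 hv, sum_const, smul_eq_mul, mul_one]
    rw [← e1]
    simp only [card_filter]
    rw [sum_comm, ← smul_eq_mul, ← sum_const]
    refine sum_congr rfl fun P hP => ?_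
    rw [← card_filter]
    exact card_V_fix h0 hP
  have e2 : ∑ v ∈ s.Vset, (s.orb.filter fun P => v • P ≠ P).card =
      s.Vset.card * (s.orb.card - 1) := by
    rw [← smul_eq_mul, ← sum_const]
    refine sum_congr rfl fun v hv => ?_
    rw [← V_fix_unique h0 hv, filter_not, card_sdiff_of_subset (filter_subset _ _)]
  have e3 : ∑ v ∈ s.Vset, (s.orb.filter fun P => v • P ≠ P).card =
      s.orb.card * ((s.orb.card - 1) * s.Sset.card) := by
    simp only [card_filter]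
    rw [sum_comm, ← smul_eq_mul, ← sum_const]
    refine sum_congr rfl fun P hP => ?_
    rw [← card_filter, card_eq_sum_card_fiberwise (f := fun v => v • P) (t := s.orb.erase P)
      (fun v hv => by
        obtain ⟨hv1, hv2⟩ := mem_filter.1 hv
        exact mem_erase.2 ⟨hv2, s.nrm_smul_orb (V_nrm hv1) hP⟩),
      ← card_erase_of_mem hP, ← smul_eq_mul, ← sum_const]
    refine sum_congr rfl fun Q hQ => ?_
    obtain ⟨hne, hQ'⟩ := mem_erase.1 hQ
    obtain ⟨j, hj, rfl, rfl⟩ := exists_nrm_pair h0 hP hQ' hne.symm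
    refine card_equiv (MulAut.conj j⁻¹).toEquiv fun v => ?_
    simp only [mem_filter, mem_Sset, MulEquiv.toEquiv_eq_coe, MulEquiv.coe_toEquiv,
      MulAut.conj_apply, inv_inv, mul_smul, inv_smul_eq_iff]
    constructor
    · rintro ⟨⟨hv, -⟩, e⟩
      refine ⟨by simpa using V_conj (s.nrm_inv hj) hv, e, ?_⟩
      rw [← e, ← mul_smul, V_sq hv, one_smul]
    · rintro ⟨hv, e, -⟩
      exact ⟨⟨by simpa [mul_assoc] using V_conj hj hv, by rw [e]; exact hne⟩, e⟩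
  rw [e2, hV, mul_assoc] at e3
  have := Nat.eq_of_mul_eq_mul_left hM e3
  rw [mul_comm] at this
  exact (Nat.eq_of_mul_eq_mul_left (by omega) this).symm

theorem S_quot (h0 : s.L0 ≠ ⊥) {v w : G} (hv : v ∈ s.Sset) (hw : w ∈ s.Sset) : w * v⁻¹ ∈ s.L0 := by
  obtain ⟨hvV, v1, v2⟩ := mem_Sset.1 hv
  obtain ⟨hwV, w1, w2⟩ := mem_Sset.1 hw
  obtain ⟨x, hx, hx1⟩ := exists_L0_ne h0
  have i1 : v⁻¹ • s.A = s.C := by rw [inv_smul_eq_iff, v2]
  have i2 : v⁻¹ • s.C = s.A := by rw [inv_smul_eq_iff, v1]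
  refine ⟨s.cent_K hx.1 hx1 (by rw [mem_stabilizer_iff, mul_smul, i1, w2]) ?_,
    mem_stabilizer_iff.2 (by rw [mul_smul, i2, w1])⟩
  have e : v⁻¹ * x = x * v⁻¹ := by
    calc v⁻¹ * x = v⁻¹ * (x * v) * v⁻¹ := by group
      _ = v⁻¹ * (v * x) * v⁻¹ := by rw [V_centralizes hvV hx]
      _ = x * v⁻¹ := by group
  rw [mul_assoc, e, ← mul_assoc, V_centralizes hwV hx, mul_assoc]

/-- All the members interchanging `A` and `C` fix the same point of the orbit. -/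
theorem exists_mid (h0 : s.L0 ≠ ⊥) (hE : s.Eo.Nonempty) :
    ∃ D ∈ s.orb, D ≠ s.A ∧ D ≠ s.C ∧ s.Sset = s.Vset.filter fun v => v • D = D := by
  obtain ⟨v, hv⟩ : s.Sset.Nonempty := card_pos.1 (by rw [card_Sset h0]; exact card_pos.2 hE)
  obtain ⟨hvV, v1, v2⟩ := mem_Sset.1 hv
  obtain ⟨D, hD⟩ := card_eq_one.1 (V_fix_unique h0 hvV)
  have hD' : D ∈ s.orb.filter fun P => v • P = P := hD ▸ mem_singleton_self D
  obtain ⟨hDo, hDf⟩ := mem_filter.1 hD'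
  refine ⟨D, hDo, fun e => s.C_ne (by rw [← v1, ← e, hDf]),
    fun e => s.C_ne (by rw [← v2, ← e, hDf]), ?_⟩
  refine eq_of_subset_of_card_le ?_ (by rw [card_V_fix h0 hDo, card_Sset h0])
  intro w hw
  refine mem_filter.2 ⟨(mem_Sset.1 hw).1, ?_⟩
  have hl := s.mem_orb.1 hDo _ (S_quot h0 hv hw)
  calc w • D = (w * v⁻¹) • v • D := by rw [← mul_smul]; group
    _ = D := by rw [hDf, hl]

theorem Eo_prod (h0 : s.L0 ≠ ⊥) {e e' : G} (he : e ∈ s.Eo) (he' : e' ∈ s.Eo) :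
    e' * e ∈ s.L0 := by
  obtain ⟨D, hD, -, -, hS⟩ := exists_mid h0 ⟨e, he⟩
  obtain ⟨i, hi, rfl⟩ := exists_nrm_A h0 hD
  have hm : ∀ e ∈ s.Eo, i * e * i⁻¹ ∈ s.Sset := fun e he => by
    rw [hS]
    refine mem_filter.2 ⟨mem_Vset.2 ⟨i, hi, by simpa [mul_assoc] using he⟩, ?_⟩
    rw [mul_smul, mul_smul, inv_smul_smul, s.fixA (mem_Eo.1 he).1.1]
  have h := s.nrm_inv hi _ (S_quot h0 (hm e he) (hm e' he'))
  have e1 : i⁻¹ * (i * e' * i⁻¹ * (i * e * i⁻¹)⁻¹) * i⁻¹⁻¹ = e' * e := by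
    rw [show (i * e * i⁻¹)⁻¹ = i * e⁻¹ * i⁻¹ by group, E_inv (mem_Eo.1 he).1]
    group
  rwa [e1] at h

theorem inEat_iff {Q : X} {x g : G} (hg : g • s.A = Q) :
    s.InEat Q x ↔ g⁻¹ * x * g ∈ s.E := by
  refine ⟨?_, fun h => ⟨g, hg, h⟩⟩
  rintro ⟨a, ha, h⟩
  have hn : g⁻¹ * a ∈ s.N := by rw [mem_stabilizer_iff, mul_smul, ha, ← hg, inv_smul_smul]
  have := s.E_normal hn h
  rwa [show g⁻¹ * a * (a⁻¹ * x * a) * (g⁻¹ * a)⁻¹ = g⁻¹ * x * g by group] at this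

theorem inEat_A {x : G} : s.InEat s.A x ↔ x ∈ s.E := by
  rw [inEat_iff (g := 1) (one_smul G s.A)]; simp

theorem inEat_conj (c : G) {Q : X} {x : G} :
    s.InEat (c • Q) (c * x * c⁻¹) ↔ s.InEat Q x := by
  obtain ⟨g, rfl⟩ := s.exists_to Q
  rw [inEat_iff (g := c * g) (mul_smul c g s.A), inEat_iff (g := g) rfl]
  rw [show (c * g)⁻¹ * (c * x * c⁻¹) * (c * g) = g⁻¹ * x * g by group]

theorem inEat_C (h0 : s.L0 ≠ ⊥) (hE : s.Eo.Nonempty) {x : G} (hx : x ∈ s.E)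
    (h : x • s.C = s.C) : s.InEat s.C x := by
  obtain ⟨v, hv⟩ : s.Sset.Nonempty := card_pos.1 (by rw [card_Sset h0]; exact card_pos.2 hE)
  obtain ⟨hvV, v1, -⟩ := mem_Sset.1 hv
  refine ⟨v, v1, ?_⟩
  rw [mul_assoc, ← V_centralizes hvV ⟨hx.1, mem_stabilizer_iff.2 h⟩, inv_mul_cancel_left]
  exact hx

/-- A central involution at `Y` fixing `Q` is one at `Q`. -/
theorem inEat_of_fix (h0 : s.L0 ≠ ⊥) (hE : s.Eo.Nonempty) {Y Q : X} {x : G}
    (hx : s.InEat Y x) (h : x • Q = Q) : s.InEat Q x := by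
  obtain ⟨g, rfl⟩ := s.exists_to Y
  have hy := (inEat_iff (g := g) rfl).1 hx
  have hfix : (g⁻¹ * x * g) • g⁻¹ • Q = g⁻¹ • Q := by
    rw [mul_smul, mul_smul, smul_inv_smul, h]
  have key : s.InEat (g⁻¹ • Q) (g⁻¹ * x * g) := by
    rcases s.cover (g⁻¹ • Q) with hc | hc | ⟨a, ha, hc⟩
    · rw [hc]; exact inEat_A.2 hy
    · rcases eq_or_ne (g⁻¹ * x * g) 1 with h1 | h1
      · rw [h1]
        obtain ⟨b, hb⟩ := s.exists_to (g⁻¹ • Q)
        exact ⟨b, hb, by simp⟩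
      · exact absurd hfix (s.K_fix hy.1 h1 hc)
    · have h1 : a⁻¹ * (g⁻¹ * x * g) * a ∈ s.E := by simpa using s.E_normal (inv_mem ha) hy
      have h2 : (a⁻¹ * (g⁻¹ * x * g) * a) • s.C = s.C := by
        rw [mul_smul, mul_smul, hc, hfix, inv_smul_eq_iff, hc]
      have := (inEat_conj a).2 (inEat_C h0 hE h1 h2)
      rwa [hc, show a * (a⁻¹ * (g⁻¹ * x * g) * a) * a⁻¹ = g⁻¹ * x * g by group] at this
  have := (inEat_conj g).2 key
  rwa [smul_inv_smul, show g * (g⁻¹ * x * g) * g⁻¹ = x by group] at this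

theorem inEat_comm {Q : X} {x y : G} (hx : s.InEat Q x) (hy : s.InEat Q y) : x * y = y * x := by
  obtain ⟨g, rfl⟩ := s.exists_to Q
  have a := (inEat_iff (g := g) rfl).1 hx
  have b := (inEat_iff (g := g) rfl).1 hy
  calc x * y = g * ((g⁻¹ * x * g) * (g⁻¹ * y * g)) * g⁻¹ := by group
    _ = g * ((g⁻¹ * y * g) * (g⁻¹ * x * g)) * g⁻¹ := by rw [b.2.2 _ a.1]
    _ = y * x := by group

theorem inEat_fix {Q : X} {x : G} (hx : s.InEat Q x) : x • Q = Q := by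
  obtain ⟨g, rfl, h⟩ := hx
  have := s.fixA h.1
  rwa [mul_smul, mul_smul, inv_smul_eq_iff] at this

theorem inEat_sq {Q : X} {x : G} (hx : s.InEat Q x) : x * x = 1 := by
  obtain ⟨g, rfl, h⟩ := hx
  calc x * x = g * (g⁻¹ * x * g * (g⁻¹ * x * g)) * g⁻¹ := by group
    _ = 1 := by rw [E_sq h]; group

end CfsgLib.FrobSuborbit.Frame
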