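import Mathlib.GroupTheory.GroupAction.Primitive
import Mathlib.GroupTheory.GroupAction.Quotient
import Mathlib.GroupTheory.Perm.Cycle.Type
import Mathlib.Tactic

/-!
Primitive groups of rank three whose point stabilizer acts as a Frobenius group on one of its
suborbits: the basic frame, the orbital graph and elementary facts.
-/

set_option autoImplicit false
set_option linter.style.haveILetI false
set_option linter.unusedSectionVars false

open scoped Pointwise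
open MulAction Finset

namespace CfsgLib.FrobSuborbit

/-- Data: three points representing the suborbits and the Frobenius kernel of the stabilizer. -/
structure Frame (G X : Type*) [Group G] [MulAction G X] where
  prim : IsPreprimitive G X
  A : X
  B : X
  C : X
  B_ne : B ≠ A
  C_ne : C ≠ A
  C_not : ∀ g ∈ stabilizer G A, g • B ≠ C
  cover : ∀ x : X, x = A ∨ (∃ g ∈ stabilizer G A, g • B = x) ∨ ∃ g ∈ stabilizer G A, g • C = x
  swapB : ∃ u : G, u • A = B ∧ u • B = A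
  swapC : ∃ u : G, u • A = C ∧ u • C = A
  frob : ∀ g ∈ stabilizer G A, g • B = B → ∀ a ∈ stabilizer G A,
    g • (a • B) = a • B → a • B ≠ B → g = 1
  hne : ∃ g ∈ stabilizer G A, g ≠ 1 ∧ g • B = B
  K : Subgroup G
  K_le : K ≤ stabilizer G A
  K_ne : ∃ x ∈ K, x ≠ 1
  K_normal : ∀ g ∈ stabilizer G A, ∀ x ∈ K, g * x * g⁻¹ ∈ K
  K_free : ∀ x ∈ K, x • B = B → x = 1
  K_trans : ∀ g ∈ stabilizer G A, ∃ x ∈ K, x • B = g • B
  K_cover : ∀ g ∈ stabilizer G A, g ∉ K → ∃ a ∈ stabilizer G A, g • (a • B) = a • B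

/-- A finite group acting freely on a finite set has order dividing its size. -/
theorem card_dvd_of_free {S T : Type*} [Group S] [Finite S] [MulAction S T] [Finite T]
    (h : ∀ (x : S) (t : T), x • t = t → x = 1) : Nat.card S ∣ Nat.card T := by
  classical
  haveI := Fintype.ofFinite T
  haveI := Fintype.ofFinite (Quotient (orbitRel S T))
  rw [Nat.card_congr (selfEquivSigmaOrbits S T), Nat.card_sigma]
  refine Finset.dvd_sum fun ω _ => ?_
  rw [Nat.card_congr (orbitEquivQuotientStabilizer S (Quotient.out ω))]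
  have hs : stabilizer S (Quotient.out ω) = ⊥ :=
    eq_bot_iff.2 fun x hx => Subgroup.mem_bot.2 (h x _ hx)
  rw [hs, ← Subgroup.index_eq_card, Subgroup.index_bot]

namespace Frame

variable {G X : Type*} [Group G] [MulAction G X] (s : Frame G X)

/-- The point stabilizer. -/
abbrev N : Subgroup G := stabilizer G s.A

/-- The two-point stabilizer on the Frobenius suborbit. -/
abbrev H : Subgroup G := stabilizer G s.A ⊓ stabilizer G s.B

/-- The two-point stabilizer on the other suborbit. -/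
abbrev L : Subgroup G := stabilizer G s.A ⊓ stabilizer G s.C

/-- The kernel part of `L`. -/
abbrev L0 : Subgroup G := s.K ⊓ stabilizer G s.C

/-- The Frobenius suborbit. -/
def Ipt (y : X) : Prop := ∃ g ∈ stabilizer G s.A, g • s.B = y

/-- The other suborbit. -/
def Dpt (y : X) : Prop := ∃ g ∈ stabilizer G s.A, g • s.C = y

/-- The orbital graph of the Frobenius suborbit. -/
def Adj (P Q : X) : Prop := ∃ g : G, g • s.A = P ∧ g • s.B = Q

theorem mem_N {g : G} : g ∈ s.N ↔ g • s.A = s.A := Iff.rfl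

theorem mem_H {g : G} : g ∈ s.H ↔ g • s.A = s.A ∧ g • s.B = s.B := Iff.rfl

theorem mem_L {g : G} : g ∈ s.L ↔ g • s.A = s.A ∧ g • s.C = s.C := Iff.rfl

theorem mem_L0 {g : G} : g ∈ s.L0 ↔ g ∈ s.K ∧ g • s.C = s.C := Iff.rfl

theorem fixA {g : G} (hg : g ∈ s.K) : g • s.A = s.A := s.K_le hg

theorem inv_fix {g : G} {P : X} (h : g • P = P) : g⁻¹ • P = P := by
  rw [inv_smul_eq_iff, h]

include s in
theorem pretrans : IsPretransitive G X :=
  haveI := s.prim
  inferInstance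

theorem exists_to (P : X) : ∃ g : G, g • s.A = P :=
  haveI := s.pretrans
  exists_smul_eq G s.A P

theorem Ipt_B : s.Ipt s.B := ⟨1, one_mem _, one_smul _ _⟩

theorem Dpt_C : s.Dpt s.C := ⟨1, one_mem _, one_smul _ _⟩

theorem Ipt_smul {g : G} {y : X} (hg : g ∈ s.N) : s.Ipt (g • y) ↔ s.Ipt y := by
  constructor
  · rintro ⟨a, ha, e⟩
    exact ⟨g⁻¹ * a, mul_mem (inv_mem hg) ha, by rw [mul_smul, e, inv_smul_smul]⟩
  · rintro ⟨a, ha, e⟩
    exact ⟨g * a, mul_mem hg ha, by rw [mul_smul, e]⟩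

theorem Dpt_smul {g : G} {y : X} (hg : g ∈ s.N) : s.Dpt (g • y) ↔ s.Dpt y := by
  constructor
  · rintro ⟨a, ha, e⟩
    exact ⟨g⁻¹ * a, mul_mem (inv_mem hg) ha, by rw [mul_smul, e, inv_smul_smul]⟩
  · rintro ⟨a, ha, e⟩
    exact ⟨g * a, mul_mem hg ha, by rw [mul_smul, e]⟩

theorem Ipt.ne_A {y : X} (h : s.Ipt y) : y ≠ s.A := by
  obtain ⟨a, ha, rfl⟩ := h
  intro e
  rw [← (mem_stabilizer_iff.1 ha), smul_left_cancel_iff] at e
  exact s.B_ne e

theorem Dpt.ne_A {y : X} (h : s.Dpt y) : y ≠ s.A := by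
  obtain ⟨a, ha, rfl⟩ := h
  intro e
  rw [← (mem_stabilizer_iff.1 ha), smul_left_cancel_iff] at e
  exact s.C_ne e

theorem not_Ipt_Dpt {y : X} (h : s.Ipt y) (h' : s.Dpt y) : False := by
  obtain ⟨a, ha, rfl⟩ := h
  obtain ⟨b, hb, e⟩ := h'
  exact s.C_not (b⁻¹ * a) (mul_mem (inv_mem hb) ha) (by rw [mul_smul, ← e, inv_smul_smul])

theorem C_not_Ipt : ¬ s.Ipt s.C := fun h => s.not_Ipt_Dpt h s.Dpt_C

theorem Dpt_iff {y : X} : s.Dpt y ↔ y ≠ s.A ∧ ¬ s.Ipt y := by
  constructor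
  · exact fun h => ⟨Dpt.ne_A s h, fun h' => s.not_Ipt_Dpt h' h⟩
  · rintro ⟨h1, h2⟩
    rcases s.cover y with h | h | h
    · exact absurd h h1
    · exact absurd h h2
    · exact h

theorem adj_smul (g : G) {P Q : X} : s.Adj (g • P) (g • Q) ↔ s.Adj P Q := by
  constructor
  · rintro ⟨a, e1, e2⟩
    exact ⟨g⁻¹ * a, by rw [mul_smul, e1, inv_smul_smul], by rw [mul_smul, e2, inv_smul_smul]⟩
  · rintro ⟨a, e1, e2⟩
    exact ⟨g * a, by rw [mul_smul, e1], by rw [mul_smul, e2]⟩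

theorem adj_A {y : X} : s.Adj s.A y ↔ s.Ipt y :=
  ⟨fun ⟨a, e1, e2⟩ => ⟨a, e1, e2⟩, fun ⟨a, e1, e2⟩ => ⟨a, e1, e2⟩⟩

theorem adj_symm {P Q : X} (h : s.Adj P Q) : s.Adj Q P := by
  obtain ⟨a, rfl, rfl⟩ := h
  obtain ⟨u, u1, u2⟩ := s.swapB
  exact ⟨a * u, by rw [mul_smul, u1], by rw [mul_smul, u2]⟩

theorem adj_irrefl (P : X) : ¬ s.Adj P P := by
  rintro ⟨a, e1, e2⟩
  exact s.B_ne (smul_left_cancel a (e2.trans e1.symm))

theorem adj_A' {y : X} : s.Adj y s.A ↔ s.Ipt y :=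
  ⟨fun h => s.adj_A.1 (s.adj_symm h), fun h => s.adj_symm (s.adj_A.2 h)⟩

theorem not_adj_AC : ¬ s.Adj s.A s.C := fun h => s.C_not_Ipt (s.adj_A.1 h)

/-- The graph relations of a pair are those of `(A, B)` or `(A, C)`. -/
theorem nadj_iff {P Q : X} :
    (P ≠ Q ∧ ¬ s.Adj P Q) ↔ ∃ g : G, g • s.A = P ∧ g • s.C = Q := by
  constructor
  · rintro ⟨h1, h2⟩
    obtain ⟨g, rfl⟩ := s.exists_to P
    rcases s.cover (g⁻¹ • Q) with h | ⟨a, ha, e⟩ | ⟨a, ha, e⟩
    · exact absurd (inv_smul_eq_iff.1 h).symm h1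
    · exact absurd ⟨g * a, by rw [mul_smul, mem_stabilizer_iff.1 ha],
        by rw [mul_smul, e, smul_inv_smul]⟩ h2
    · exact ⟨g * a, by rw [mul_smul, mem_stabilizer_iff.1 ha],
        by rw [mul_smul, e, smul_inv_smul]⟩
  · rintro ⟨g, rfl, rfl⟩
    exact ⟨fun e => s.C_ne (smul_left_cancel g e).symm, fun h => s.not_adj_AC ((s.adj_smul g).1 h)⟩

theorem K_conj' {g x : G} (hg : g ∈ s.N) (hx : x ∈ s.K) : g⁻¹ * x * g ∈ s.K := by
  simpa using s.K_normal g⁻¹ (inv_mem hg) x hx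

theorem decomp {g : G} (hg : g ∈ s.N) : ∃ x ∈ s.K, ∃ η ∈ s.H, g = x * η := by
  obtain ⟨x, hx, e⟩ := s.K_trans g hg
  refine ⟨x, hx, x⁻¹ * g, ⟨s.N.mul_mem (s.N.inv_mem (s.K_le hx)) hg, ?_⟩, by group⟩
  exact mem_stabilizer_iff.2 (by rw [mul_smul, ← e, inv_smul_smul])

theorem K_inf_H {x : G} (hK : x ∈ s.K) (hH : x ∈ s.H) : x = 1 := s.K_free x hK hH.2

/-- A nontrivial element of `H` fixes only `B` on the Frobenius suborbit. -/
theorem H_fix {η : G} (hη : η ∈ s.H) (h1 : η ≠ 1) {y : X} (hy : s.Ipt y) (he : η • y = y) :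
    y = s.B := by
  obtain ⟨a, ha, rfl⟩ := hy
  by_contra hne
  exact h1 (s.frob η hη.1 hη.2 a ha he hne)

/-- A nontrivial element of the kernel fixes no point of the Frobenius suborbit. -/
theorem K_fix {x : G} (hx : x ∈ s.K) (h1 : x ≠ 1) {y : X} (hy : s.Ipt y) : x • y ≠ y := by
  obtain ⟨a, ha, rfl⟩ := hy
  intro e
  have := s.K_free _ (s.K_conj' ha hx) (by rw [mul_smul, mul_smul, e, inv_smul_smul])
  apply h1
  calc x = a * (a⁻¹ * x * a) * a⁻¹ := by group
    _ = 1 := by rw [this]; group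

/-- The centralizer in the stabilizer of a nontrivial kernel element lies in the kernel. -/
theorem cent_K {x g : G} (hx : x ∈ s.K) (h1 : x ≠ 1) (hg : g ∈ s.N) (hc : g * x = x * g) :
    g ∈ s.K := by
  by_contra hgK
  obtain ⟨a, ha, he⟩ := s.K_cover g hg hgK
  have hgx : g • (x • (a • s.B)) = x • (a • s.B) := by
    rw [← mul_smul, hc, mul_smul, he]
  set η := a⁻¹ * g * a with hη
  have hηH : η ∈ s.H := ⟨s.N.mul_mem (s.N.mul_mem (s.N.inv_mem ha) hg) ha, mem_stabilizer_iff.2 (by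
    rw [hη, mul_smul, mul_smul, he, inv_smul_smul])⟩
  have hη1 : η ≠ 1 := fun e => hgK (by
    have : g = 1 := by
      calc g = a * (a⁻¹ * g * a) * a⁻¹ := by group
        _ = 1 := by rw [← hη, e]; group
    exact this ▸ one_mem _)
  have := s.H_fix hηH hη1 (y := a⁻¹ • (x • (a • s.B)))
    ((s.Ipt_smul (inv_mem ha)).2 ((s.Ipt_smul (s.K_le hx)).2 ⟨a, ha, rfl⟩))
    (by rw [hη, mul_smul, mul_smul, smul_inv_smul, hgx])
  rw [inv_smul_eq_iff] at this
  exact s.K_fix hx h1 ⟨a, ha, rfl⟩ this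

end Frame

end CfsgLib.FrobSuborbit
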