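import Cfsg.Agent.Lib.FrobSuborbit.Count
import Mathlib.LinearAlgebra.Trace
import Mathlib.LinearAlgebra.Matrix.ToLin

/-!
The spectral conditions: traces of eigenprojections composed with the average of a subgroup.
-/

set_option autoImplicit false
set_option linter.style.haveILetI false
set_option linter.unusedSectionVars false

open scoped Classical
open MulAction Finset Matrix

namespace CfsgLib.FrobSuborbit

/-- The trace of an idempotent matrix is a natural number. -/
theorem trace_idem {ι : Type*} [Fintype ι] {E : Matrix ι ι ℝ} (h : E * E = E) :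
    ∃ v : ℕ, E.trace = v := by
  have hi : IsIdempotentElem (Matrix.toLin' E) := by
    change Matrix.toLin' E ∘ₗ Matrix.toLin' E = _
    rw [← Matrix.toLin'_mul, h]
  exact ⟨_, (Matrix.trace_toLin'_eq E).symm.trans
    ((LinearMap.isProj_range_iff_isIdempotentElem _).2 hi).trace⟩

namespace Frame

variable {G X : Type*} [Group G] [MulAction G X] [Finite G] [Fintype X] (s : Frame G X)

/-- Number of common neighbours of two adjacent points. -/
noncomputable def lam : ℕ := (univ.filter fun y => s.Adj s.A y ∧ s.Adj y s.B).card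

/-- Number of common neighbours of two nonadjacent points. -/
noncomputable def mu : ℕ := (univ.filter fun y => s.Adj s.A y ∧ s.Adj y s.C).card

/-- The adjacency matrix. -/
noncomputable def adjM : Matrix X X ℝ := Matrix.of fun P Q => if s.Adj P Q then 1 else 0

/-- The all one matrix. -/
def allM (X : Type*) : Matrix X X ℝ := Matrix.of fun _ _ => 1

/-- The permutation matrix of an element. -/
noncomputable def permM (g : G) : Matrix X X ℝ := Matrix.of fun P Q => if g • Q = P then 1 else 0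

theorem card_adj_eq (P : X) : (univ.filter fun Q => s.Adj P Q).card = s.k := by
  rw [← s.card_nbr P, Nat.card_eq_fintype_card, Fintype.card_subtype]

theorem adjM_mul_allM : s.adjM * allM X = (s.k : ℝ) • allM X := by
  ext P Q
  simp [adjM, allM, Matrix.mul_apply, s.card_adj_eq]

theorem allM_mul_adjM : allM X * s.adjM = (s.k : ℝ) • allM X := by
  ext P Q
  have h : (univ.filter fun R => s.Adj R Q) = univ.filter fun R => s.Adj Q R :=
    filter_congr fun R _ => ⟨s.adj_symm, s.adj_symm⟩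
  simp [adjM, allM, Matrix.mul_apply, h, s.card_adj_eq]

theorem allM_mul_allM : allM X * allM X = (Nat.card X : ℝ) • allM X := by
  ext P Q
  simp [allM, Matrix.mul_apply]

theorem common_smul (g : G) (P Q : X) :
    (univ.filter fun y => s.Adj (g • P) y ∧ s.Adj y (g • Q)).card =
      (univ.filter fun y => s.Adj P y ∧ s.Adj y Q).card := by
  refine card_equiv (toPerm g⁻¹) fun y => ?_
  simp only [mem_filter, mem_univ, true_and, toPerm_apply]
  conv_lhs => rw [← s.adj_smul g⁻¹, ← s.adj_smul g⁻¹ (P := y)]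
  simp

theorem common_eq (P Q : X) :
    (univ.filter fun y => s.Adj P y ∧ s.Adj y Q).card =
      if P = Q then s.k else if s.Adj P Q then s.lam else s.mu := by
  rcases eq_or_ne P Q with rfl | hne
  · rw [if_pos rfl, ← s.card_adj_eq P]
    exact congrArg card (filter_congr fun y _ => ⟨fun h => h.1, fun h => ⟨h, s.adj_symm h⟩⟩)
  rw [if_neg hne]
  by_cases hadj : s.Adj P Q
  · rw [if_pos hadj]
    obtain ⟨g, rfl, rfl⟩ := hadj
    exact s.common_smul g s.A s.B
  · rw [if_neg hadj]
    obtain ⟨g, rfl, rfl⟩ := (s.nadj_iff (P := P) (Q := Q)).1 ⟨hne, hadj⟩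
    exact s.common_smul g s.A s.C

theorem adjM_sq :
    s.adjM * s.adjM = ((s.k : ℝ) - s.mu) • (1 : Matrix X X ℝ) +
      ((s.lam : ℝ) - s.mu) • s.adjM + (s.mu : ℝ) • allM X := by
  ext P Q
  have h : (s.adjM * s.adjM) P Q =
      ((univ.filter fun y => s.Adj P y ∧ s.Adj y Q).card : ℝ) := by
    simp only [adjM, Matrix.mul_apply, Matrix.of_apply, card_filter, Nat.cast_sum]
    refine sum_congr rfl fun y _ => ?_
    by_cases h1 : s.Adj P y <;> by_cases h2 : s.Adj y Q <;> simp [h1, h2]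
  rw [h, s.common_eq]
  simp only [Matrix.add_apply, Matrix.smul_apply, adjM, allM, Matrix.of_apply, smul_eq_mul,
    Matrix.one_apply]
  rcases eq_or_ne P Q with rfl | hne
  · simp [s.adj_irrefl]
  · by_cases hadj : s.Adj P Q <;> simp [hne, hadj]

theorem count_paths : s.k * s.k = s.k + s.k * s.lam + s.l * s.mu := by
  have h2 : s.adjM * s.adjM * allM X = ((s.k : ℝ) * s.k) • allM X := by
    rw [Matrix.mul_assoc, s.adjM_mul_allM, Matrix.mul_smul, s.adjM_mul_allM, smul_smul]
  rw [s.adjM_sq, Matrix.add_mul, Matrix.add_mul, Matrix.smul_mul, Matrix.smul_mul,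
    Matrix.smul_mul, Matrix.one_mul, s.adjM_mul_allM, allM_mul_allM, smul_smul, smul_smul,
    ← add_smul, ← add_smul] at h2
  have := congrFun (congrFun h2 s.A) s.A
  simp only [Matrix.smul_apply, allM, Matrix.of_apply, smul_eq_mul, mul_one, s.card_X] at this
  push_cast at this
  have h3 : ((s.k * s.k : ℕ) : ℝ) = ((s.k + s.k * s.lam + s.l * s.mu : ℕ) : ℝ) := by
    push_cast; linarith
  exact_mod_cast h3

theorem mu_le : s.mu ≤ s.k := by
  rw [← s.card_adj_eq s.A]
  exact card_le_card (monotone_filter_right _ fun y _ h => h.1)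

theorem lam_lt : s.lam < s.k := by
  rw [← s.card_adj_eq s.A]
  refine card_lt_card ⟨monotone_filter_right _ fun y _ h => h.1, fun hsub => ?_⟩
  have := hsub (by simpa using s.adj_A.2 s.Ipt_B : s.B ∈ univ.filter fun y => s.Adj s.A y)
  exact s.adj_irrefl _ (mem_filter.1 this).2.2

/-- The discriminant of the eigenvalues. -/
noncomputable def disc : ℤ := ((s.lam : ℤ) - s.mu) ^ 2 + 4 * ((s.k : ℤ) - s.mu)

theorem disc_pos : 0 < s.disc := by
  have h1 := s.mu_le
  have h2 := s.lam_lt
  unfold disc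
  rcases h1.eq_or_lt with h | h
  · rw [h]
    nlinarith
  · nlinarith [sq_nonneg ((s.lam : ℤ) - s.mu)]

theorem permM_mul (g g' : G) : permM (X := X) g * permM g' = permM (g * g') := by
  ext P Q
  simp only [permM, Matrix.mul_apply, Matrix.of_apply, mul_ite, mul_one, mul_zero]
  rw [Finset.sum_eq_single (g' • Q)]
  · simp [mul_smul]
  · intro R _ hR
    simp [Ne.symm hR]
  · simp

theorem adjM_comm (g : G) : Commute s.adjM (permM g) := by
  ext P Q
  simp only [adjM, permM, Matrix.mul_apply, Matrix.of_apply, mul_ite, mul_one, mul_zero]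
  rw [Finset.sum_eq_single (g • Q), Finset.sum_eq_single (g⁻¹ • P)]
  · simp only [smul_inv_smul, if_true]
    congr 1
    rw [eq_iff_iff]
    conv_rhs => rw [← s.adj_smul g, smul_inv_smul]
  · intro R _ hR
    have : ¬ g • R = P := fun e => hR (by rw [← e, inv_smul_smul])
    simp [this]
  · simp
  · intro R _ hR
    simp [Ne.symm hR]
  · simp

theorem allM_comm (g : G) : Commute (allM X) (permM g) := by
  ext P Q
  simp only [allM, permM, Matrix.mul_apply, Matrix.of_apply, one_mul, mul_one]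
  rw [Finset.sum_eq_single (g • Q), Finset.sum_eq_single (g⁻¹ • P)]
  · simp
  · intro R _ hR
    have : ¬ g • R = P := fun e => hR (by rw [← e, inv_smul_smul])
    simp [this]
  · simp
  · intro R _ hR
    simp [Ne.symm hR]
  · simp

theorem trace_permM (g : G) : (permM (X := X) g).trace = (fixNum (X := X) g : ℝ) := by
  simp [permM, Matrix.trace, Matrix.diag, fixNum]

theorem trace_adjM_permM (g : G) : (s.adjM * permM g).trace = (s.adjNum g : ℝ) := by
  simp only [adjM, permM, Matrix.trace, Matrix.diag, Matrix.mul_apply, Matrix.of_apply, adjNum,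
    card_filter, Nat.cast_sum, mul_ite, mul_one, mul_zero]
  refine sum_congr rfl fun P _ => ?_
  rw [Finset.sum_eq_single (g • P)]
  · simp
  · intro R _ hR
    simp [Ne.symm hR]
  · simp

theorem trace_allM_permM (g : G) : (allM X * permM g).trace = (Nat.card X : ℝ) := by
  simp only [allM, permM, Matrix.trace, Matrix.diag, Matrix.mul_apply, Matrix.of_apply, one_mul]
  simp [Nat.card_eq_fintype_card]

/-- The average of the permutation matrices of a subgroup. -/
noncomputable def avgM (S : Subgroup G) [Fintype S] : Matrix X X ℝ :=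
  (Fintype.card S : ℝ)⁻¹ • ∑ g : S, permM (g : G)

theorem avgM_idem (S : Subgroup G) [Fintype S] :
    avgM (X := X) S * avgM S = avgM (X := X) S := by
  have h : (∑ g : S, permM (X := X) (g : G)) * (∑ g : S, permM (g : G)) =
      (Fintype.card S : ℝ) • ∑ g : S, permM (X := X) (g : G) := by
    rw [sum_mul]
    have : ∀ g : S, permM (X := X) (g : G) * (∑ g' : S, permM (g' : G)) =
        ∑ g' : S, permM (X := X) (g' : G) := by
      intro g
      rw [mul_sum]
      simp only [permM_mul]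
      exact Fintype.sum_equiv (Equiv.mulLeft g) _ _ fun x => rfl
    rw [sum_congr rfl fun g _ => this g, sum_const, card_univ, ← Nat.cast_smul_eq_nsmul ℝ]
  have hc : (Fintype.card S : ℝ) ≠ 0 := by
    have : 0 < Fintype.card S := Fintype.card_pos
    positivity
  unfold avgM
  rw [Matrix.smul_mul, Matrix.mul_smul, h, inv_smul_smul₀ hc]

theorem trace_avgM (S : Subgroup G) [Fintype S] :
    (avgM (X := X) S).trace = (Fintype.card S : ℝ)⁻¹ * ∑ g : S, (fixNum (X := X) (g : G) : ℝ) := by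
  simp [avgM, Matrix.trace_sum, trace_permM]

theorem trace_adjM_avgM (S : Subgroup G) [Fintype S] :
    (s.adjM * avgM S).trace = (Fintype.card S : ℝ)⁻¹ * ∑ g : S, (s.adjNum (g : G) : ℝ) := by
  simp [avgM, Matrix.mul_smul, Matrix.trace_smul, mul_sum, Matrix.trace_sum, s.trace_adjM_permM]

theorem trace_allM_avgM (S : Subgroup G) [Fintype S] :
    (allM X * avgM S).trace = (Nat.card X : ℝ) := by
  have hc : (Fintype.card S : ℝ) ≠ 0 := by
    have : 0 < Fintype.card S := Fintype.card_pos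
    positivity
  simp [avgM, Matrix.mul_smul, Matrix.trace_smul, mul_sum, Matrix.trace_sum, trace_allM_permM, hc]

/-- The main trace identity. -/
theorem trace_data (S : Subgroup G) [Fintype S] {r t : ℝ} (hsum : r + t = (s.lam : ℝ) - s.mu)
    (hprod : r * t = (s.mu : ℝ) - s.k) (hne : r ≠ t) :
    ∃ v v' : ℕ, ((v : ℝ) + v' + 1) * Fintype.card S = ∑ g : S, (fixNum (X := X) (g : G) : ℝ) ∧
      ((s.k : ℝ) + r * v + t * v') * Fintype.card S = ∑ g : S, (s.adjNum (g : G) : ℝ) := by
  set n : ℝ := (Nat.card X : ℝ) with hn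
  have hn0 : n ≠ 0 := by
    rw [hn, s.card_X]; positivity
  obtain ⟨Z, hZ⟩ : ∃ Z : Matrix X X ℝ, Z = n⁻¹ • allM X := ⟨_, rfl⟩
  have hMZ : s.adjM * Z = (s.k : ℝ) • Z := by
    rw [hZ, Matrix.mul_smul, s.adjM_mul_allM, smul_comm]
  have hZM : Z * s.adjM = (s.k : ℝ) • Z := by
    rw [hZ, Matrix.smul_mul, s.allM_mul_adjM, smul_comm]
  have hZZ : Z * Z = Z := by
    rw [hZ, Matrix.smul_mul, Matrix.mul_smul, allM_mul_allM, ← hn, inv_smul_smul₀ hn0]
  have hMM : s.adjM * s.adjM = (-(r * t)) • (1 : Matrix X X ℝ) + (r + t) • s.adjM +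
      ((s.mu : ℝ) * n) • Z := by
    rw [s.adjM_sq, hsum, hprod, hZ, smul_smul, mul_assoc, mul_inv_cancel₀ hn0, mul_one, neg_sub]
  have hk : ((s.k : ℝ) - r) * ((s.k : ℝ) - t) = s.mu * n := by
    have h1 : ((s.k * s.k : ℕ) : ℝ) = ((s.k + s.k * s.lam + s.l * s.mu : ℕ) : ℝ) := by
      exact_mod_cast s.count_paths
    push_cast at h1
    rw [hn, s.card_X]
    push_cast
    linear_combination h1 + hprod - (s.k : ℝ) * hsum
  obtain ⟨Pm, hPm⟩ : ∃ Pm : Matrix X X ℝ, Pm = avgM S := ⟨_, rfl⟩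
  have hc1 : Commute s.adjM Pm := by
    rw [hPm, avgM]
    refine Commute.smul_right ?_ _
    exact Commute.sum_right _ _ _ fun g _ => s.adjM_comm (g : G)
  have hc2 : Commute Z Pm := by
    rw [hPm, avgM, hZ]
    refine Commute.smul_left (Commute.smul_right ?_ _) _
    exact Commute.sum_right _ _ _ fun g _ => allM_comm (g : G)
  -- an eigenprojection
  have key : ∀ a b : ℝ, a ≠ b → a + b = r + t → a * b = r * t →
      ((s.k : ℝ) - a) * ((s.k : ℝ) - b) = s.mu * n →
      ∃ v : ℕ, ((a - b)⁻¹ : ℝ) * ((s.adjM * Pm).trace - b * Pm.trace - ((s.k : ℝ) - b) * (Z * Pm).trace)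
        = v := by
    intro a b hab hs hp hk
    set E : Matrix X X ℝ :=
      (a - b)⁻¹ • (s.adjM - b • (1 : Matrix X X ℝ) - ((s.k : ℝ) - b) • Z) with hE
    have hab' : a - b ≠ 0 := sub_ne_zero.2 hab
    have hEE : E * E = E := by
      have : (s.adjM - b • (1 : Matrix X X ℝ) - ((s.k : ℝ) - b) • Z) *
          (s.adjM - b • (1 : Matrix X X ℝ) - ((s.k : ℝ) - b) • Z) =
          (a - b) • (s.adjM - b • (1 : Matrix X X ℝ) - ((s.k : ℝ) - b) • Z) := by
        simp only [Matrix.sub_mul, Matrix.mul_sub, Matrix.smul_mul, Matrix.mul_smul,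
          Matrix.one_mul, Matrix.mul_one, hMM, hMZ, hZM, hZZ, ← hs, ← hp, ← hk]
        module
      rw [hE, Matrix.smul_mul, Matrix.mul_smul, this, smul_smul, smul_smul, mul_assoc,
        inv_mul_cancel₀ hab', mul_one]
    have hcE : Commute E Pm :=
      ((hc1.sub_left ((Commute.one_left Pm).smul_left b)).sub_left (hc2.smul_left _)).smul_left _
    obtain ⟨v, hv⟩ := trace_idem (E := E * Pm) (by
      rw [Matrix.mul_assoc, ← Matrix.mul_assoc Pm E Pm, ← hcE.eq, Matrix.mul_assoc, hPm, avgM_idem,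
        ← Matrix.mul_assoc, hEE])
    refine ⟨v, ?_⟩
    rw [← hv, hE, Matrix.smul_mul, Matrix.trace_smul, smul_eq_mul, Matrix.sub_mul, Matrix.sub_mul,
      Matrix.smul_mul, Matrix.smul_mul, Matrix.one_mul, Matrix.trace_sub, Matrix.trace_sub,
      Matrix.trace_smul, Matrix.trace_smul, smul_eq_mul, smul_eq_mul]
  obtain ⟨v, hv⟩ := key r t hne rfl rfl hk
  obtain ⟨v', hv'⟩ := key t r hne.symm (add_comm _ _) (mul_comm _ _) (by rw [mul_comm]; exact hk)
  have hZt : (Z * Pm).trace = 1 := by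
    rw [hZ, Matrix.smul_mul, Matrix.trace_smul, hPm, trace_allM_avgM, smul_eq_mul, ← hn,
      inv_mul_cancel₀ hn0]
  rw [hZt] at hv hv'
  have hd : r - t ≠ 0 := sub_ne_zero.2 hne
  have hd' : t - r ≠ 0 := sub_ne_zero.2 hne.symm
  rw [inv_mul_eq_iff_eq_mul₀ hd] at hv
  rw [inv_mul_eq_iff_eq_mul₀ hd'] at hv'
  have hc : (Fintype.card S : ℝ) ≠ 0 := by
    have : 0 < Fintype.card S := Fintype.card_pos
    positivity
  have e1 : Pm.trace = (v : ℝ) + v' + 1 := by
    apply mul_left_cancel₀ hd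
    linear_combination hv - hv'
  refine ⟨v, v', ?_, ?_⟩
  · rw [← e1, hPm, trace_avgM, mul_comm, ← mul_assoc, mul_inv_cancel₀ hc, one_mul]
  · have e2 : (s.adjM * Pm).trace = (s.k : ℝ) + r * v + t * v' := by
      linear_combination hv + t * e1
    rw [← e2, hPm, trace_adjM_avgM, mul_comm, ← mul_assoc, mul_inv_cancel₀ hc, one_mul]

/-- Integral eigenvalues outside the conference case. -/
theorem exists_int_roots (hconf : 2 * (s.k : ℤ) + ((s.k : ℤ) + s.l) * ((s.lam : ℤ) - s.mu) ≠ 0) :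
    ∃ r t : ℤ, r + t = (s.lam : ℤ) - s.mu ∧ r * t = (s.mu : ℤ) - s.k ∧ t < r := by
  have hD : (0 : ℝ) < (s.disc : ℝ) := by exact_mod_cast s.disc_pos
  set d : ℤ := (s.lam : ℤ) - s.mu with hd
  set q : ℝ := Real.sqrt (s.disc : ℝ) with hq
  have hq2 : q * q = (s.disc : ℝ) := Real.mul_self_sqrt hD.le
  have hq0 : 0 < q := Real.sqrt_pos.2 hD
  haveI : Fintype (⊥ : Subgroup G) := Fintype.ofFinite _
  obtain ⟨f, g, hfg, hev⟩ := s.trace_data (⊥ : Subgroup G) (r := ((d : ℝ) + q) / 2)
    (t := ((d : ℝ) - q) / 2) (by rw [hd]; push_cast; ring)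
    (by
      have : (s.disc : ℝ) = ((s.lam : ℝ) - s.mu) ^ 2 + 4 * ((s.k : ℝ) - s.mu) := by
        rw [disc]; push_cast; ring
      rw [hd]; push_cast
      linear_combination (-1 / 4 : ℝ) * hq2 - (1 / 4 : ℝ) * this)
    (by linarith)
  have hsum : ∀ F : G → ℕ, ∑ x : (⊥ : Subgroup G), ((F (x : G) : ℕ) : ℝ) = F 1 := fun F => by
    rw [Fintype.sum_subsingleton _ (1 : (⊥ : Subgroup G))]; rfl
  have hcard : Fintype.card (⊥ : Subgroup G) = 1 := by
    rw [Fintype.card_eq_one_iff]
    exact ⟨1, fun y => Subsingleton.elim _ _⟩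
  rw [hsum, hcard] at hfg hev
  have hf1 : fixNum (X := X) (1 : G) = 1 + s.k + s.l := by
    rw [← s.card_X, fixNum, Nat.card_eq_fintype_card, ← card_univ]
    exact congrArg card (filter_true_of_mem fun P _ => one_smul G P)
  have ha1 : s.adjNum (1 : G) = 0 := by
    rw [adjNum, card_eq_zero, filter_eq_empty_iff]
    exact fun P _ => by rw [one_smul]; exact s.adj_irrefl P
  rw [hf1] at hfg
  rw [ha1] at hev
  push_cast at hfg hev
  set m : ℤ := 2 * (s.k : ℤ) + ((s.k : ℤ) + s.l) * d with hm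
  have hlin : ((f : ℝ) - g) * q = -(m : ℝ) := by
    rw [hm]; push_cast
    linear_combination 2 * hev - (d : ℝ) * hfg
  have hint : ((f : ℤ) - g) ^ 2 * s.disc = m ^ 2 := by
    have : (((f : ℤ) - g) ^ 2 * s.disc : ℤ) = ((m ^ 2 : ℤ) : ℝ) := by
      push_cast
      rw [← hq2]
      linear_combination (((f : ℝ) - g) * q - m) * hlin
    exact_mod_cast this
  have hfgne : (f : ℤ) - g ≠ 0 := fun e => hconf (by
    rw [e] at hint
    have : m ^ 2 = 0 := by rw [← hint]; ring
    exact pow_eq_zero_iff two_ne_zero |>.1 this)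
  obtain ⟨c, hc⟩ : ((f : ℤ) - g) ∣ m :=
    (Int.pow_dvd_pow_iff two_ne_zero).1 ⟨s.disc, hint.symm⟩
  have hDc : s.disc = c ^ 2 := by
    apply mul_left_cancel₀ (pow_ne_zero 2 hfgne)
    rw [hint, hc]; ring
  obtain ⟨w, hw, hw0⟩ : ∃ w : ℤ, s.disc = w ^ 2 ∧ 0 < w := by
    refine ⟨|c|, by rw [hDc, sq_abs], abs_pos.2 fun e => ?_⟩
    have := s.disc_pos
    rw [hDc, e] at this
    norm_num at this
  obtain ⟨r, hr⟩ : (2 : ℤ) ∣ d + w := by
    have h4 : w ^ 2 - d ^ 2 = 4 * ((s.k : ℤ) - s.mu) := by rw [← hw, disc, hd]; ring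
    have : Even ((d + w) ^ 2) := ⟨2 * ((s.k : ℤ) - s.mu) + d ^ 2 + d * w, by
      linear_combination h4⟩
    exact even_iff_two_dvd.1 ((Int.even_pow' two_ne_zero).1 this)
  refine ⟨r, d - r, by ring, ?_, by linarith⟩
  have h4 : w ^ 2 - d ^ 2 = 4 * ((s.k : ℤ) - s.mu) := by rw [← hw, disc, hd]; ring
  have hwr : w = 2 * r - d := by linarith
  subst hwr
  linarith

/-- The trace identity over the integers. -/
theorem trace_int (S : Subgroup G) [Fintype S] {r t : ℤ} (hsum : r + t = (s.lam : ℤ) - s.mu)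
    (hprod : r * t = (s.mu : ℤ) - s.k) (hne : r ≠ t) :
    ∃ v v' : ℕ, (v + v' + 1) * Fintype.card S = ∑ g : S, fixNum (X := X) (g : G) ∧
      ((s.k : ℤ) + r * v + t * v') * Fintype.card S = ∑ g : S, (s.adjNum (g : G) : ℤ) := by
  obtain ⟨v, v', h1, h2⟩ := s.trace_data S (r := (r : ℝ)) (t := (t : ℝ))
    (by exact_mod_cast hsum) (by exact_mod_cast hprod) (by exact_mod_cast hne)
  refine ⟨v, v', by exact_mod_cast h1, ?_⟩
  have : (((s.k : ℤ) + r * v + t * v') * (Fintype.card S : ℤ) : ℤ) =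
      ((∑ g : S, (s.adjNum (g : G) : ℤ) : ℤ) : ℝ) := by
    push_cast
    exact h2
  exact_mod_cast this

/-- Multiplicities. -/
theorem multiplicities {r t : ℤ} (hsum : r + t = (s.lam : ℤ) - s.mu)
    (hprod : r * t = (s.mu : ℤ) - s.k) (hne : r ≠ t) :
    ∃ f g : ℕ, f + g = s.k + s.l ∧ (s.k : ℤ) + r * f + t * g = 0 := by
  haveI : Fintype (⊥ : Subgroup G) := Fintype.ofFinite _
  obtain ⟨f, g, h1, h2⟩ := s.trace_int (⊥ : Subgroup G) hsum hprod hne
  have hcard : Fintype.card (⊥ : Subgroup G) = 1 := by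
    rw [Fintype.card_eq_one_iff]
    exact ⟨1, fun y => Subsingleton.elim _ _⟩
  rw [Fintype.sum_subsingleton _ (1 : (⊥ : Subgroup G)), hcard] at h1 h2
  have hf1 : fixNum (X := X) (1 : G) = 1 + s.k + s.l := by
    rw [← s.card_X, fixNum, Nat.card_eq_fintype_card, ← card_univ]
    exact congrArg card (filter_true_of_mem fun P _ => one_smul G P)
  have ha1 : s.adjNum (1 : G) = 0 := by
    rw [adjNum, card_eq_zero, filter_eq_empty_iff]
    exact fun P _ => by rw [one_smul]; exact s.adj_irrefl P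
  refine ⟨f, g, ?_, ?_⟩
  · have : f + g + 1 = 1 + s.k + s.l := by simpa [hf1] using h1
    omega
  · simpa [ha1] using h2

end Frame

end CfsgLib.FrobSuborbit
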