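import Cfsg.Agent.Lib.FrobSuborbit.EvenFix
import Cfsg.Agent.Lib.FrobSuborbit.Dichotomy

/-!
The class elements interchanging two points inside their coset.
-/

set_option autoImplicit false
set_option linter.style.haveILetI false
set_option linter.unusedSectionVars false

open scoped Classical
open MulAction Finset

namespace CfsgLib.FrobSuborbit.Frame

variable {G X : Type*} [Group G] [MulAction G X] [Finite G] [Fintype X] [Fintype G]
  {s : Frame G X} {z : G}

theorem Inv.swap_dichotomy (hz : s.Inv z) {D : X}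
    (hD : stabilizer G s.A ⊓ stabilizer G D ≤ s.H)
    (h : 3 * Nat.card (stabilizer G s.A ⊓ stabilizer G D : Subgroup G) <
        4 * (swap z s.A D).card ∨
      ((∀ a ∈ stabilizer G s.A ⊓ stabilizer G D, ∀ b ∈ stabilizer G s.A ⊓ stabilizer G D,
        a * b = b * a) ∧
        Nat.card (stabilizer G s.A ⊓ stabilizer G D : Subgroup G) < 2 * (swap z s.A D).card)) :
    (swap z s.A D).card = Nat.card (stabilizer G s.A ⊓ stabilizer G D : Subgroup G) := by
  set M : Subgroup G := stabilizer G s.A ⊓ stabilizer G D with hM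
  haveI := Fintype.ofFinite M
  obtain ⟨u, hu⟩ : (swap z s.A D).Nonempty := by
    by_contra h0
    rw [not_nonempty_iff_eq_empty] at h0
    rw [h0, card_empty] at h
    rcases h with h | h <;> omega
  obtain ⟨hucl, u1, u2⟩ := mem_swap.1 hu
  have huu : u * u = 1 := cls_sq hz.sq hucl
  have hui : u⁻¹ = u := inv_eq_of_mul_eq_one_right huu
  have hσM : ∀ y ∈ M, u * y * u ∈ M := fun y hy =>
    ⟨mem_stabilizer_iff.2 (by rw [mul_smul, mul_smul, u1, mem_stabilizer_iff.1 hy.2, u2]),
      mem_stabilizer_iff.2 (by rw [mul_smul, mul_smul, u2, mem_stabilizer_iff.1 hy.1, u1])⟩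
  let σ : M →* M := MonoidHom.mk' (fun y => ⟨u * y * u, hσM y y.2⟩) fun a b => Subtype.ext (by
    show u * ((a : G) * b) * u = u * a * u * (u * b * u)
    calc u * ((a : G) * b) * u = u * a * (u * u) * b * u := by rw [huu]; group
      _ = _ := by group)
  set R := (univ : Finset M).filter fun y : M => (y : G) * u ∈ swap z s.A D with hR
  have hRcard : R.card = (swap z s.A D).card := by
    refine card_bij (fun (y : M) _ => (y : G) * u) (fun y hy => (mem_filter.1 hy).2)
      (fun a _ b _ e => Subtype.ext (mul_right_cancel e)) fun w hw => ?_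
    obtain ⟨-, w1, w2⟩ := mem_swap.1 hw
    have hwM : w * u⁻¹ ∈ M := by
      have i1 : u⁻¹ • s.A = D := by rw [inv_smul_eq_iff, u2]
      have i2 : u⁻¹ • D = s.A := by rw [inv_smul_eq_iff, u1]
      exact ⟨mem_stabilizer_iff.2 (by rw [mul_smul, i1, w2]),
        mem_stabilizer_iff.2 (by rw [mul_smul, i2, w1])⟩
    exact ⟨⟨w * u⁻¹, hwM⟩, mem_filter.2 ⟨mem_univ _, by simpa using hw⟩, by simp⟩
  rw [← hRcard, Nat.card_eq_fintype_card (α := M)] at h ⊢
  have hinv : ∀ y ∈ R, σ y = y⁻¹ := fun y hy => Subtype.ext (by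
    show u * (y : G) * u = (y : G)⁻¹
    have e := cls_sq hz.sq (mem_swap.1 (mem_filter.1 hy).2).1
    calc u * (y : G) * u = (y : G)⁻¹ * ((y : G) * u * ((y : G) * u)) := by group
      _ = (y : G)⁻¹ := by rw [e, mul_one])
  have hu2 : ∀ y : M, y * y = 1 → y = 1 ∨
      y = if hzM : z ∈ M then ⟨z, hzM⟩ else 1 := by
    intro y hy
    rcases hz.unique (hD y.2) (congrArg Subtype.val hy) with e | e
    · exact Or.inl (Subtype.ext e)
    · refine Or.inr ?_
      rw [dif_pos (e ▸ y.2)]
      exact Subtype.ext e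
  refine card_eq_of_inverted hu2 σ R hinv ?_ ?_
  · intro hc hall y hy l
    refine mem_filter.2 ⟨mem_univ _, ?_⟩
    obtain ⟨hw, w1, w2⟩ := mem_swap.1 (mem_filter.1 hy).2
    have hl' : u * (l : G) * u = (l : G)⁻¹ := congrArg Subtype.val (hall l)
    have hc' : (y : G) * l = l * y := congrArg Subtype.val (hc y l)
    have e : ((l * l * y : M) : G) * u = (l : G) * ((y : G) * u) * (l : G)⁻¹ := by
      show (l : G) * l * y * u = _
      calc (l : G) * l * y * u = l * (l * y) * u := by group
        _ = l * (y * l) * u := by rw [hc']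
        _ = l * y * (u * u) * l * u := by rw [huu]; group
        _ = l * y * u * (u * l * u) := by group
        _ = _ := by rw [hl']; group
    rw [e]
    refine mem_swap.2 ⟨conj_mem_cls _ hw, ?_, ?_⟩
    · rw [mul_smul (l * (↑y * u) : G), mul_smul, inv_fix (mem_stabilizer_iff.1 l.2.1), w1,
        mem_stabilizer_iff.1 l.2.2]
    · rw [mul_smul (l * (↑y * u) : G), mul_smul, inv_fix (mem_stabilizer_iff.1 l.2.2), w2,
        mem_stabilizer_iff.1 l.2.1]
  · rcases h with h | ⟨hc, h⟩
    · exact Or.inl h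
    · exact Or.inr ⟨fun a b => Subtype.ext (hc a a.2 b b.2), h⟩

end CfsgLib.FrobSuborbit.Frame
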